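import Cfsg.Agent.Char.Clifford

/-!
The Clifford correspondence between irreducible characters of the inertia subgroup of an
irreducible character of a normal subgroup and irreducible characters of the whole group.
-/

namespace Cfsg.Agent.ProjExt

open Char
open scoped ComplexConjugate

universe u

variable {G : Type u} [Group G] [Fintype G] (H T : Subgroup G) [hN : H.Normal] [Fintype H]
  [Fintype T]

omit hN in
theorem classInner_subgroupOf (hHT : H ≤ T) [Fintype (H.subgroupOf T)] (f g : H → ℂ) :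
    classInner (fun x : H.subgroupOf T => f ⟨(x : T), Subgroup.mem_subgroupOf.1 x.2⟩)
      (fun x : H.subgroupOf T => g ⟨(x : T), Subgroup.mem_subgroupOf.1 x.2⟩) = classInner f g := by
  have e : H.subgroupOf T ≃ H := (Subgroup.subgroupOfEquivOfLe hHT).toEquiv
  simp only [classInner]
  rw [Nat.card_congr (Subgroup.subgroupOfEquivOfLe hHT).toEquiv]
  congr 1
  exact Fintype.sum_equiv (Subgroup.subgroupOfEquivOfLe hHT).toEquiv _ _ fun x => rfl

variable {H T}

/-- In the inertia subgroup the restriction of a character lying over `θ` has degree its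
multiplicity times the degree of `θ`. -/
theorem degree_over_invariant (hHT : H ≤ T) {θ : H → ℂ} (hθ : IsIrrCharacter H θ)
    (hinv : ∀ t : T, conjFun (t : G) θ = θ) {ψ : T → ℂ} (hψ : IsIrrCharacter T ψ)
    (hc : classInner (fun n : H => ψ ⟨n, hHT n.2⟩) θ ≠ 0) :
    ψ 1 = classInner (fun n : H => ψ ⟨n, hHT n.2⟩) θ * θ 1 ∧
      ∀ n : H, ψ ⟨n, hHT n.2⟩ = classInner (fun n : H => ψ ⟨n, hHT n.2⟩) θ * θ n := by
  classical
  letI := Fintype.ofFinite (H.subgroupOf T)
  let θ' : H.subgroupOf T → ℂ := fun x => θ ⟨(x : T), Subgroup.mem_subgroupOf.1 x.2⟩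
  have hθ' : IsIrrCharacter (H.subgroupOf T) θ' :=
    (isIrrCharacter_comp_equiv (Subgroup.subgroupOfEquivOfLe hHT)).2 hθ
  have hip : classInner (fun x : H.subgroupOf T => ψ x) θ' =
      classInner (fun n : H => ψ ⟨n, hHT n.2⟩) θ := by
    rw [← classInner_subgroupOf H T hHT]
  have horb : orbit θ' = {θ'} := by
    refine Finset.eq_singleton_iff_unique_mem.2 ⟨self_mem_orbit θ', fun η hη => ?_⟩
    obtain ⟨t, rfl⟩ := mem_orbit.1 hη
    funext x
    exact congrFun (hinv t) ⟨(x : T), Subgroup.mem_subgroupOf.1 x.2⟩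
  have h := clifford hψ hθ' (hip ▸ hc)
  rw [horb, Finset.sum_singleton, hip] at h
  refine ⟨?_, fun n => ?_⟩
  · exact congrFun h 1
  · exact congrFun h ⟨⟨n, hHT n.2⟩, Subgroup.mem_subgroupOf.2 n.2⟩

variable {θ : H → ℂ}

/-- The core of the Clifford correspondence. -/
theorem clifford_core (hθ : IsIrrCharacter H θ) (hT : inertia θ = T) (hHT : H ≤ T) {χ : G → ℂ}
    (hχ : IsIrrCharacter G χ) {ψ : T → ℂ} (hψ : IsIrrCharacter T ψ)
    (h1 : classInner (fun t : T => χ t) ψ ≠ 0)
    (h2 : classInner (fun n : H => ψ ⟨n, hHT n.2⟩) θ ≠ 0) :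
    indFun T ψ = χ ∧
      classInner (fun n : H => ψ ⟨n, hHT n.2⟩) θ = classInner (fun n : H => χ n) θ := by
  classical
  have hinv : ∀ t : T, conjFun (t : G) θ = θ := fun t => by
    have := hT.ge t.2
    exact this
  obtain ⟨e', he'⟩ := classInner_isCharacter_eq_natCast
    (isCharacter_comp (Subgroup.inclusion hHT) (IsIrr.isCharacter hψ)) (IsIrr.isCharacter hθ)
  change classInner (fun n : H => ψ ⟨n, hHT n.2⟩) θ = (e' : ℂ) at he'
  have hsub := IsChar.sub_constituent (isCharacter_res T (IsIrr.isCharacter hχ)) hψ h1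
  obtain ⟨r, hr⟩ := classInner_isCharacter_eq_natCast
    (isCharacter_comp (Subgroup.inclusion hHT) hsub) (IsIrr.isCharacter hθ)
  change classInner (fun n : H => χ n - ψ ⟨n, hHT n.2⟩) θ = (r : ℂ) at hr
  have he : classInner (fun n : H => χ n) θ = ((e' + r : ℕ) : ℂ) := by
    rw [Nat.cast_add, ← he', ← hr, ← classInner_add_left]
    congr 1
    funext n
    simp
  have he0 : e' ≠ 0 := by
    rintro rfl
    exact h2 (by rw [he', Nat.cast_zero])
  have hdχ := degree_eq_of_clifford hχ hθ (by rw [he]; exact Nat.cast_ne_zero.2 (by omega))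
  rw [hT, he] at hdχ
  have hdψ := (degree_over_invariant hHT hθ hinv hψ h2).1
  rw [he'] at hdψ
  have hind : classInner (indFun T ψ) χ ≠ 0 := by
    rw [classInner_indFun_left T ψ (isClassFunction_of_isIrr hχ), ← classInner_conj_symm]
    simpa using h1
  have hdiff := IsChar.sub_constituent (isCharacter_indFun T (IsIrr.isCharacter hψ)) hχ hind
  obtain ⟨k, hk⟩ := IsChar.degree hdiff
  rw [Pi.sub_apply, indFun_apply_one, hdψ, hdχ] at hk
  obtain ⟨d, hd⟩ := IsChar.degree (IsIrr.isCharacter hθ)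
  rw [hd] at hk
  have hnat : T.index * (e' * d) = k + (e' + r) * T.index * d := by
    have : ((T.index * (e' * d) : ℕ) : ℂ) = ((k + (e' + r) * T.index * d : ℕ) : ℂ) := by
      push_cast at hk ⊢
      linear_combination hk
    exact_mod_cast this
  have hd0 : d ≠ 0 := by
    rintro rfl
    exact IsIrr.one_ne_zero hθ (by simpa using hd)
  have hr0 : r * (T.index * d) + k = 0 := by
    have : (e' + r) * T.index * d = T.index * (e' * d) + r * (T.index * d) := by ring
    omega
  obtain ⟨hrz, hkz⟩ := Nat.add_eq_zero_iff.1 hr0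
  have hrz' : r = 0 :=
    (Nat.mul_eq_zero.1 hrz).resolve_right (mul_ne_zero Subgroup.index_ne_zero_of_finite hd0)
  refine ⟨?_, by rw [he', he, hrz', add_zero]⟩
  have hzero : (indFun T ψ - χ) = 0 := by
    funext g
    have hn := IsChar.norm_le hdiff g
    have h0 : (indFun T ψ - χ) 1 = 0 := by
      rw [Pi.sub_apply, indFun_apply_one, hdψ, hdχ, hd, hk, hkz, Nat.cast_zero]
    rw [h0] at hn
    simpa using hn
  exact sub_eq_zero.1 hzero

/-- Existence of the Clifford correspondent. -/
theorem exists_correspondent (hθ : IsIrrCharacter H θ) (hT : inertia θ = T) (hHT : H ≤ T)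
    {χ : G → ℂ} (hχ : IsIrrCharacter G χ) (hcon : classInner (fun n : H => χ n) θ ≠ 0) :
    ∃ ψ : T → ℂ, IsIrrCharacter T ψ ∧ indFun T ψ = χ ∧
      classInner (fun n : H => ψ ⟨n, hHT n.2⟩) θ = classInner (fun n : H => χ n) θ := by
  classical
  have hexp := classFun_expansion (isClassFunction_of_isCharacter
    (isCharacter_res T (IsIrr.isCharacter hχ)))
  have hres : (fun n : H => χ n) = ∑ ψ : IrrCharacter T,
      classInner (fun t : T => χ t) (ψ : T → ℂ) • fun n : H => (ψ : T → ℂ) ⟨n, hHT n.2⟩ := by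
    funext n
    have := congrFun hexp ⟨n, hHT n.2⟩
    simpa [Finset.sum_apply] using this
  obtain ⟨ψ, h1, h2⟩ : ∃ ψ : IrrCharacter T, classInner (fun t : T => χ t) (ψ : T → ℂ) ≠ 0 ∧
      classInner (fun n : H => (ψ : T → ℂ) ⟨n, hHT n.2⟩) θ ≠ 0 := by
    by_contra hall
    push Not at hall
    apply hcon
    rw [hres, classInner_sum_left]
    refine Finset.sum_eq_zero fun ψ _ => ?_
    rw [classInner_smul_left]
    by_cases h : classInner (fun t : T => χ t) (ψ : T → ℂ) = 0
    · rw [h, zero_mul]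
    · rw [hall ψ h, mul_zero]
  exact ⟨ψ, ψ.2, clifford_core hθ hT hHT hχ ψ.2 h1 h2⟩

/-- Characters of the inertia subgroup over `θ` induce to irreducible characters. -/
theorem exists_induced (hθ : IsIrrCharacter H θ) (hT : inertia θ = T) (hHT : H ≤ T)
    {ψ : T → ℂ} (hψ : IsIrrCharacter T ψ)
    (h2 : classInner (fun n : H => ψ ⟨n, hHT n.2⟩) θ ≠ 0) :
    IsIrrCharacter G (indFun T ψ) := by
  classical
  obtain ⟨χ, hχ⟩ := IsChar.exists_constituent (isCharacter_indFun T (IsIrr.isCharacter hψ)) (by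
    intro h
    have := congrFun h 1
    rw [indFun_apply_one, Pi.zero_apply, mul_eq_zero] at this
    exact this.elim (Nat.cast_ne_zero.2 Subgroup.index_ne_zero_of_finite) (IsIrr.one_ne_zero hψ))
  have h1 : classInner (fun t : T => (χ : G → ℂ) t) ψ ≠ 0 := by
    rw [classInner_indFun_left T ψ (isClassFunction_of_isIrr χ.2), ← classInner_conj_symm] at hχ
    simpa using hχ
  rw [(clifford_core hθ hT hHT χ.2 hψ h1 h2).1]
  exact χ.2

/-- The Clifford correspondence is injective. -/
theorem indFun_injective (hθ : IsIrrCharacter H θ) (hT : inertia θ = T) (hHT : H ≤ T)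
    {ψ ψ' : T → ℂ} (hψ : IsIrrCharacter T ψ) (hψ' : IsIrrCharacter T ψ')
    (h2 : classInner (fun n : H => ψ ⟨n, hHT n.2⟩) θ ≠ 0)
    (h2' : classInner (fun n : H => ψ' ⟨n, hHT n.2⟩) θ ≠ 0)
    (he : indFun T ψ = indFun T ψ') : ψ = ψ' := by
  classical
  by_contra hne
  set χ := indFun T ψ with hχdef
  have hχ : IsIrrCharacter G χ := exists_induced hθ hT hHT hψ h2
  have key : ∀ φ : T → ℂ, indFun T φ = χ → classInner (fun t : T => χ t) φ ≠ 0 := by
    intro φ hφ
    have := classInner_indFun_left T φ (isClassFunction_of_isIrr hχ)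
    rw [hφ, classInner_irr_self hχ, ← classInner_conj_symm] at this
    intro h0
    rw [h0, map_zero] at this
    exact one_ne_zero this
  have h1 := key ψ rfl
  have h1' := key ψ' he.symm
  have hsub := IsChar.sub_constituent (isCharacter_res T (IsIrr.isCharacter hχ)) hψ h1
  have hc' : classInner ((fun t : T => χ t) - ψ) ψ' ≠ 0 := by
    rw [classInner_sub_left, classInner_irr_ne hψ hψ' hne, sub_zero]
    exact h1'
  have hsub2 := IsChar.sub_constituent hsub hψ' hc'
  obtain ⟨r, hr⟩ := classInner_isCharacter_eq_natCast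
    (isCharacter_comp (Subgroup.inclusion hHT) hsub2) (IsIrr.isCharacter hθ)
  change classInner (fun n : H => χ n - ψ ⟨n, hHT n.2⟩ - ψ' ⟨n, hHT n.2⟩) θ = (r : ℂ) at hr
  have e1 := (clifford_core hθ hT hHT hχ hψ h1 h2).2
  have e2 := (clifford_core hθ hT hHT hχ hψ' h1' h2').2
  obtain ⟨e, he'⟩ := classInner_isCharacter_eq_natCast
    (isCharacter_res H (IsIrr.isCharacter hχ)) (IsIrr.isCharacter hθ)
  have hsum : classInner (fun n : H => χ n - ψ ⟨n, hHT n.2⟩ - ψ' ⟨n, hHT n.2⟩) θ =
      classInner (fun n : H => χ n) θ - classInner (fun n : H => ψ ⟨n, hHT n.2⟩) θ -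
        classInner (fun n : H => ψ' ⟨n, hHT n.2⟩) θ := by
    rw [← classInner_sub_left, ← classInner_sub_left]
    rfl
  rw [hr, e1, e2, he'] at hsum
  have h3 : (((r + e : ℕ)) : ℂ) = ((0 : ℕ) : ℂ) := by push_cast; linear_combination hsum
  have h4 : r + e = 0 := Nat.cast_injective h3
  exact h2 (by rw [e1, he', show e = 0 by omega, Nat.cast_zero])

end Cfsg.Agent.ProjExt
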