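import Cfsg.Agent.ProjExt.Degree
import Cfsg.Agent.ProjExt.CliffordCorr

/-!
The quotient of the degree of an irreducible character by the degree of a constituent of its
restriction to a normal subgroup divides the index of that subgroup.
-/

namespace Cfsg.Agent.ProjExt

open Char

universe u

variable {G : Type u} [Group G] [Fintype G] {N : Subgroup G} [N.Normal] [Fintype N]

theorem exists_ratio_dvd_index {χ : G → ℂ} (hχ : IsIrrCharacter G χ) {θ : N → ℂ}
    (hθ : IsIrrCharacter N θ) (hcon : classInner (fun n : N => χ n) θ ≠ 0) :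
    ∃ k : ℕ, χ 1 = k * θ 1 ∧ k ∣ N.index := by
  classical
  have hNT : N ≤ inertia θ := le_inertia (isClassFunction_of_isIrr hθ)
  obtain ⟨ψ, hψ, hind, heq⟩ := exists_correspondent hθ rfl hNT hχ hcon
  have h2 : classInner (fun n : N => ψ ⟨n, hNT n.2⟩) θ ≠ 0 := by rw [heq]; exact hcon
  obtain ⟨h1, hres⟩ := degree_over_invariant hNT hθ (fun t => t.2) hψ h2
  obtain ⟨e, he⟩ := classInner_isCharacter_eq_natCast
    (isCharacter_comp (Subgroup.inclusion hNT) (IsIrr.isCharacter hψ)) (IsIrr.isCharacter hθ)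
  change classInner (fun n : N => ψ ⟨n, hNT n.2⟩) θ = (e : ℂ) at he
  let θ' : N.subgroupOf (inertia θ) → ℂ :=
    fun x => θ ⟨((x : inertia θ) : G), Subgroup.mem_subgroupOf.1 x.2⟩
  have hθ' : IsIrrCharacter (N.subgroupOf (inertia θ)) θ' :=
    (isIrrCharacter_comp_equiv (Subgroup.subgroupOfEquivOfLe hNT)).2 hθ
  have hd : e ∣ N.relIndex (inertia θ) := dvd_index_of_isotypic _ hψ hθ' fun x => by
    have := hres ⟨((x : inertia θ) : G), Subgroup.mem_subgroupOf.1 x.2⟩
    rwa [he] at this
  refine ⟨(inertia θ).index * e, ?_, ?_⟩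
  · have h3 := congrFun hind 1
    rw [indFun_apply_one, h1, he] at h3
    rw [← h3, Nat.cast_mul, mul_assoc]
  · rw [← Subgroup.relIndex_mul_index hNT, mul_comm]
    exact Nat.mul_dvd_mul_right hd _

end Cfsg.Agent.ProjExt
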