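import Cfsg.Agent.ProjExt.Cocycle
import Mathlib.Analysis.Complex.Basic
import Mathlib.GroupTheory.OrderOfElement
import Mathlib.Data.Nat.ModEq
import Mathlib.Data.Int.GCD
import Mathlib.Tactic.Ring

/-!
Extension of invariant homomorphisms from a normal subgroup to a commutative group.
-/

namespace Cfsg.Agent.ProjExt

variable {G : Type*} [Group G] {M : Type*} [CommGroup M] (N : Subgroup G) [N.Normal]

/-- An invariant homomorphism extends to a function compatible with multiplication by `N`. -/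
theorem exists_pre_ext (lam : N →* M)
    (hinv : ∀ (g : G) (n : N),
      lam ⟨g * n * g⁻¹, (inferInstance : N.Normal).conj_mem (n : G) n.2 g⟩ = lam n) :
    ∃ x : G → M, (∀ n : N, x n = lam n) ∧ (∀ (n : N) (g : G), x (n * g) = lam n * x g) ∧
      ∀ (g : G) (n : N), x (g * n) = x g * lam n := by
  classical
  let s : G ⧸ N → G := Function.update (fun q => q.out) 1 1
  have hs : ∀ q, (QuotientGroup.mk (s q) : G ⧸ N) = q := by
    intro q
    simp only [s]
    rcases eq_or_ne q 1 with rfl | hq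
    · rw [Function.update_self, QuotientGroup.mk_one]
    · rw [Function.update_of_ne hq]; exact q.out_eq
  have hs1 : s 1 = 1 := Function.update_self _ _ _
  have hmem : ∀ g, (s (QuotientGroup.mk g))⁻¹ * g ∈ N := fun g => by
    rw [← QuotientGroup.eq, hs]
  refine ⟨fun g => lam ⟨(s (QuotientGroup.mk g))⁻¹ * g, hmem g⟩, ?_, ?_, ?_⟩
  · intro n
    refine congrArg lam (Subtype.ext ?_)
    simp [(QuotientGroup.eq_one_iff (n : G)).2 n.2, hs1]
  · intro n g
    have hq : (QuotientGroup.mk ((n : G) * g) : G ⧸ N) = QuotientGroup.mk g := by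
      rw [QuotientGroup.mk_mul, (QuotientGroup.eq_one_iff (n : G)).2 n.2, one_mul]
    set t := s (QuotientGroup.mk g) with ht
    have e := hinv t⁻¹ n
    have h : (⟨(s (QuotientGroup.mk ((n : G) * g)))⁻¹ * (n * g), hmem _⟩ : N) =
        ⟨t⁻¹ * n * t⁻¹⁻¹, (inferInstance : N.Normal).conj_mem (n : G) n.2 t⁻¹⟩ *
          ⟨t⁻¹ * g, hmem g⟩ := by
      refine Subtype.ext ?_
      simp [hq, ← ht, mul_assoc]
    show lam ⟨(s (QuotientGroup.mk ((n : G) * g)))⁻¹ * (n * g), hmem _⟩ = _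
    rw [h, map_mul, e]
  · intro g n
    have hq : (QuotientGroup.mk (g * (n : G)) : G ⧸ N) = QuotientGroup.mk g := by
      rw [QuotientGroup.mk_mul, (QuotientGroup.eq_one_iff (n : G)).2 n.2, mul_one]
    show lam _ = lam _ * lam n
    rw [← map_mul]
    exact congrArg lam (Subtype.ext (by simp [hq, mul_assoc]))

/-- If an invariant homomorphism extends to `P` then the obstruction cocycle splits on `P`;
if it splits on the whole group then the homomorphism extends. -/
theorem exists_ext_of_exponents [Finite G] (lam : N →* M) {o : ℕ} (ho : 0 < o) (hpow : ∀ n, lam n ^ o = 1)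
    (hinv : ∀ (g : G) (n : N),
      lam ⟨g * n * g⁻¹, (inferInstance : N.Normal).conj_mem (n : G) n.2 g⟩ = lam n)
    (hext : ∀ p : ℕ, p.Prime → p ∣ o → ∃ (P : Subgroup G) (hNP : N ≤ P) (ν : P →* M),
      ¬ p ∣ P.index ∧ ∀ n : N, ν ⟨n, hNP n.2⟩ = lam n) :
    ∃ μ : G →* M, ∀ n : N, μ n = lam n := by
  obtain ⟨x, hxN, hxl, hxr⟩ := exists_pre_ext N lam hinv
  let f : G → G → M := fun g h => x g * x h * (x (g * h))⁻¹
  have hf : IsCocycle N f := by
    refine ⟨fun a b c => ?_, fun n hn g => ?_, fun g n hn => ?_⟩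
    · simp [f, mul_comm, mul_left_comm, mul_assoc]
    · have h1 := hxl ⟨n, hn⟩ g
      simp only at h1
      simp [f, h1, hxN ⟨n, hn⟩]
    · have h1 := hxr g ⟨n, hn⟩
      simp only at h1
      have h2 := hxN ⟨n, hn⟩
      simp only at h2
      simp [f, h1, h2]
  have hom : Splits N ⊤ f := by
    refine splits_of_forall_prime (a := o) ?_ ho.ne' fun p hp hpo => ?_
    · refine ⟨fun g => x g ^ (o : ℤ), fun n hn => ?_, fun g _ h _ => ?_⟩
      · simp [hxN ⟨n, hn⟩, zpow_natCast, hpow]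
      · show (x g * x h * (x (g * h))⁻¹) ^ (o : ℤ) = _
        rw [mul_zpow, mul_zpow, inv_zpow]
    · obtain ⟨P, hNP, ν, hP, hν⟩ := hext p hp hpo
      classical
      refine ⟨P.index, hf.splits_index hNP ?_, hP⟩
      refine ⟨fun g => if hg : g ∈ P then x g * (ν ⟨g, hg⟩)⁻¹ else 1, fun n hn => ?_,
        fun g hg h hh => ?_⟩
      · simp [hNP hn, hν ⟨n, hn⟩, hxN ⟨n, hn⟩]
      · simp only [dif_pos hg, dif_pos hh, dif_pos (mul_mem hg hh), f]
        rw [show (⟨g * h, mul_mem hg hh⟩ : P) = ⟨g, hg⟩ * ⟨h, hh⟩ from rfl, map_mul]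
        simp [mul_comm, mul_left_comm, mul_assoc]
  obtain ⟨β, hβ1, hβ⟩ := hom
  have hmul : ∀ g h, x (g * h) * (β (g * h))⁻¹ = (x g * (β g)⁻¹) * (x h * (β h)⁻¹) := by
    intro g h
    have h1 := hβ g trivial h trivial
    simp only [f] at h1
    have h2 : x g * x h = β g * β h * (β (g * h))⁻¹ * x (g * h) := by
      rw [← h1, inv_mul_cancel_right]
    calc x (g * h) * (β (g * h))⁻¹
        = (β g * β h * (β g)⁻¹ * (β h)⁻¹) * (x (g * h) * (β (g * h))⁻¹) := by
          rw [mul_assoc _ (β g)⁻¹, ← mul_inv, mul_inv_cancel, one_mul]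
      _ = (β g * β h * (β (g * h))⁻¹ * x (g * h)) * ((β g)⁻¹ * (β h)⁻¹) := by
          simp only [mul_comm, mul_left_comm, mul_assoc]
      _ = (x g * (β g)⁻¹) * (x h * (β h)⁻¹) := by rw [← h2, mul_mul_mul_comm]
  exact ⟨MonoidHom.mk' (fun g => x g * (β g)⁻¹) hmul, fun n => by simp [hxN, hβ1 n n.2]⟩

theorem hom_pow_index_eq_one [Finite G] (φ : G →* M) (hN : ∀ n : N, φ n = 1) : φ ^ N.index = 1 := by
  ext g
  rw [MonoidHom.pow_apply, MonoidHom.one_apply, ← map_pow]
  exact hN ⟨g ^ N.index, N.pow_index_mem g⟩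

/-- An invariant homomorphism of order prime to the index has exactly one extension of order
prime to the index, and it has the same order. -/
theorem exists_ext_of_coprime [Finite G] (lam : N →* M) (hlam : 0 < orderOf lam)
    (hinv : ∀ (g : G) (n : N),
      lam ⟨g * n * g⁻¹, (inferInstance : N.Normal).conj_mem (n : G) n.2 g⟩ = lam n)
    (hcop : Nat.Coprime N.index (orderOf lam)) :
    ∃ μ : G →* M, (∀ n : N, μ n = lam n) ∧ orderOf μ = orderOf lam ∧
      ∀ μ' : G →* M, (∀ n : N, μ' n = lam n) → Nat.Coprime N.index (orderOf μ') → μ' = μ := by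
  set o := orderOf lam with ho
  have hpow : ∀ n, lam n ^ o = 1 := fun n => by
    rw [← MonoidHom.pow_apply, pow_orderOf_eq_one, MonoidHom.one_apply]
  obtain ⟨μ₁, hμ₁⟩ := exists_ext_of_exponents N lam hlam hpow hinv fun p hp hpo =>
    ⟨N, le_rfl, lam, fun h => hp.one_lt.ne' (Nat.eq_one_of_dvd_coprimes hcop h hpo), fun n => rfl⟩
  have hi1 : (μ₁ ^ o) ^ N.index = 1 := hom_pow_index_eq_one N _ fun n => by
    rw [MonoidHom.pow_apply, hμ₁, hpow]
  let k := Nat.chineseRemainder hcop 0 1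
  obtain ⟨c, hc⟩ := (Nat.modEq_zero_iff_dvd).1 k.2.1
  have hres : ∀ n : N, (μ₁ ^ (k : ℕ)) n = lam n := fun n => by
    rw [MonoidHom.pow_apply, hμ₁, ← MonoidHom.pow_apply]
    have : lam ^ (k : ℕ) = lam ^ 1 := pow_eq_pow_iff_modEq.2 k.2.2
    rw [this, pow_one]
  have hord : orderOf (μ₁ ^ (k : ℕ)) = o := by
    refine Nat.dvd_antisymm (orderOf_dvd_of_pow_eq_one ?_) ?_
    · rw [← pow_mul, hc, show N.index * c * o = o * N.index * c by ring, pow_mul, pow_mul, hi1,
        one_pow]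
    · refine orderOf_dvd_of_pow_eq_one (MonoidHom.ext fun n => ?_)
      rw [MonoidHom.pow_apply, ← hres, ← MonoidHom.pow_apply, pow_orderOf_eq_one]
      rfl
  refine ⟨μ₁ ^ (k : ℕ), hres, hord, fun μ' hμ' hcop' => ?_⟩
  have h1 : (μ' / μ₁ ^ (k : ℕ)) ^ N.index = 1 := hom_pow_index_eq_one N _ fun n => by
    rw [MonoidHom.div_apply, hμ', hres, div_self']
  have h2 : (μ' / μ₁ ^ (k : ℕ)) ^ (orderOf μ' * o) = 1 := by
    rw [div_pow, pow_mul, pow_orderOf_eq_one, one_pow,
      orderOf_dvd_iff_pow_eq_one.1 (hord.dvd.trans (dvd_mul_left _ _)), div_one]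
  have h3 := Nat.eq_one_of_dvd_coprimes (Nat.Coprime.mul_right hcop' hcop)
    (orderOf_dvd_of_pow_eq_one h1) (orderOf_dvd_of_pow_eq_one h2)
  exact div_eq_one.1 (orderOf_eq_one_iff.1 h3)

end Cfsg.Agent.ProjExt
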