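import Cfsg.Agent.ProjExt.Data
import Cfsg.Agent.ProjExt.Linear

/-!
Extension criteria for invariant irreducible characters with degree prime to the index.
-/

namespace Cfsg.Agent.ProjExt

variable {G : Type*} [Group G] [Finite G] (N : Subgroup G) [N.Normal]

/-- A root of any order exists in `ℂˣ`. -/
theorem exists_root (y : ℂˣ) (m : ℕ) (hm : 0 < m) : ∃ s : ℂˣ, s ^ m = y := by
  obtain ⟨z, hz⟩ := IsAlgClosed.exists_pow_nat_eq (y : ℂ) hm
  have hz0 : z ≠ 0 := by
    rintro rfl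
    rw [zero_pow hm.ne'] at hz
    exact y.ne_zero hz.symm
  exact ⟨Units.mk0 z hz0, Units.ext (by simpa using hz)⟩

omit [Finite G] in
theorem hom_eq_of_coe {f f' : G →* ℂˣ} (h : (fun g => (f g : ℂ)) = fun g => (f' g : ℂ)) : f = f' :=
  MonoidHom.ext fun g => Units.ext (congrFun h g)

theorem orderOf_pos_hom (f : G →* ℂˣ) : 0 < orderOf f := by
  rw [orderOf_pos_iff, isOfFinOrder_iff_pow_eq_one]
  exact ⟨Nat.card G, Nat.card_pos, MonoidHom.ext fun g => by
    rw [MonoidHom.pow_apply, ← map_pow, pow_card_eq_one', map_one, MonoidHom.one_apply]⟩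

theorem det_coe {θ : N → ℂ} (D : Data N θ) (n : N) :
    Cfsg.detChar θ n = LinearMap.det (D.ρ n) :=
  congrFun (detChar_eq_det D.ρ D.char_eq) n

/-- Gallagher: with degree prime to the index, an extension of the determinant gives an
extension of the character. -/
theorem extends_of_det {θ : N → ℂ} (hθ : Cfsg.IsIrrCharacter N θ)
    (hinv : ∀ (g : G) (n : N),
      θ ⟨g * n * g⁻¹, (inferInstance : N.Normal).conj_mem (n : G) n.2 g⟩ = θ n)
    {d : ℕ} (hd : θ 1 = d) (hcop : Nat.Coprime N.index d) (ν : G →* ℂˣ)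
    (hν : ∀ n : N, (ν n : ℂ) = Cfsg.detChar θ n) :
    ∃ χ : G → ℂ, Cfsg.IsIrrCharacter G χ ∧ ∀ n : N, χ n = θ n := by
  obtain ⟨D⟩ := exists_data hθ hinv
  have hdd : d = D.d := by
    have := D.θ_one
    rw [hd] at this
    exact_mod_cast this
  refine D.exists_extension_of_splits (splits_of_coprime (D.cocycle.index_mem_splitExp)
    (D.degree_mem_splitExp ν fun n => (hν n).trans (det_coe N D n))
    Subgroup.index_ne_zero_of_finite (hdd ▸ hcop))

/-- With degree prime to the index, an extension is determined by its determinant, and every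
extension of the determinant occurs. -/
theorem exists_unique_det {θ : N → ℂ} (hθ : Cfsg.IsIrrCharacter N θ) {d : ℕ} (hd : θ 1 = d)
    (hcop : Nat.Coprime N.index d) {η : G → ℂ} (hη : Cfsg.IsCharacter G η)
    (hres : ∀ n : N, η n = θ n) (μ : G →* ℂˣ) (hμ : ∀ n : N, (μ n : ℂ) = Cfsg.detChar θ n) :
    ∃ χ : G → ℂ, (Cfsg.IsIrrCharacter G χ ∧ (∀ n : N, χ n = θ n) ∧
        Cfsg.detChar χ = fun g => (μ g : ℂ)) ∧
      ∀ χ' : G → ℂ, Cfsg.IsCharacter G χ' → (∀ n : N, χ' n = θ n) →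
        Cfsg.detChar χ' = (fun g => (μ g : ℂ)) → χ' = χ := by
  have hinv : ∀ (g : G) (n : N),
      θ ⟨g * n * g⁻¹, (inferInstance : N.Normal).conj_mem (n : G) n.2 g⟩ = θ n := fun g n => by
    rw [← hres, ← hres]
    exact Char.isClassFunction_of_isCharacter hη (n : G) g
  obtain ⟨D⟩ := exists_data hθ hinv
  obtain ⟨ν, hν⟩ := exists_detChar_hom hη
  have hdη : η 1 = d := by rw [← hd, ← hres 1]; rfl
  have hθeq : (fun n : N => η n) = θ := funext hres
  have hνN : ∀ n : N, (μ / ν) n = 1 := fun n => by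
    have h1 : (ν n : ℂ) = Cfsg.detChar θ n := by
      rw [← congrFun hν (n : G), ← hθeq]
      exact (congrFun (detChar_comp hη N.subtype) n).symm
    rw [MonoidHom.div_apply, Units.ext ((hμ n).trans h1.symm), div_self']
  have hpow := hom_pow_index_eq_one N (μ / ν) hνN
  let k := Nat.chineseRemainder hcop 1 0
  obtain ⟨c, hc⟩ := (Nat.modEq_zero_iff_dvd).1 k.2.2
  let lam := (μ / ν) ^ c
  have hlamN : ∀ n : N, lam n = 1 := fun n => by
    rw [MonoidHom.pow_apply, hνN, one_pow]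
  have hlamd : lam ^ d = μ / ν := by
    have h1 : (μ / ν) ^ (k : ℕ) = (μ / ν) ^ 1 :=
      pow_eq_pow_iff_modEq.2 (k.2.1.of_dvd (orderOf_dvd_of_pow_eq_one hpow))
    show ((μ / ν) ^ c) ^ d = μ / ν
    refine MonoidHom.ext fun g => ?_
    have h2 := DFunLike.congr_fun h1 g
    simp only [MonoidHom.pow_apply, pow_one] at h2 ⊢
    rwa [← pow_mul, mul_comm, ← hc]
  obtain ⟨hχc, hχd⟩ := detChar_twist hη hdη lam
  have hχres : ∀ n : N, (lam n : ℂ) * η n = θ n := fun n => by
    rw [hlamN, Units.val_one, one_mul, hres]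
  have hχdet : Cfsg.detChar (fun g => (lam g : ℂ) * η g) = fun g => (μ g : ℂ) := by
    rw [hχd, hν]
    funext g
    rw [← Units.val_pow_eq_pow_val, ← MonoidHom.pow_apply, hlamd, ← Units.val_mul,
      MonoidHom.div_apply, div_mul_cancel]
  refine ⟨_, ⟨isIrr_of_res hχc hθ hχres, hχres, hχdet⟩, fun χ' hχ' hres' hdet => ?_⟩
  obtain ⟨t, htN, ht⟩ := D.eq_twist hχc hχ' hχres hres'
  have hχ1 : (fun g => (lam g : ℂ) * η g) 1 = d := by simp [hdη]
  obtain ⟨-, h2⟩ := detChar_twist hχc hχ1 t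
  rw [show χ' = fun g => (t g : ℂ) * ((lam g : ℂ) * η g) from funext ht, h2, hχdet] at hdet
  have htd : t ^ d = 1 := MonoidHom.ext fun g => Units.ext (by
    have h3 := congrFun hdet g
    rw [MonoidHom.pow_apply, Units.val_pow_eq_pow_val, MonoidHom.one_apply, Units.val_one]
    exact mul_eq_right₀ (μ g).ne_zero |>.1 h3)
  have ht1 : t = 1 := orderOf_eq_one_iff.1 (Nat.eq_one_of_dvd_coprimes hcop
    (orderOf_dvd_of_pow_eq_one (hom_pow_index_eq_one N t htN)) (orderOf_dvd_of_pow_eq_one htd))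
  funext g
  rw [ht g, ht1]
  simp

end Cfsg.Agent.ProjExt
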