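import Cfsg.Prelude.Def_CharExt
import Cfsg.Agent.Char.Linear
import Mathlib.LinearAlgebra.Lagrange

/-!
The determinant of a representation of a finite group depends only on its character; consequences
for `detChar`.
-/

namespace Cfsg.Agent.ProjExt

open Module Polynomial
open scoped ComplexConjugate

universe u

/-- Two finite families of complex numbers with the same power sums have the same product. -/
theorem prod_eq_of_sum_pow_eq {ι κ : Type*} [Fintype ι] [Fintype κ] (μ : ι → ℂ) (ν : κ → ℂ)
    (h : ∀ k : ℕ, ∑ i, μ i ^ k = ∑ j, ν j ^ k) : ∏ i, μ i = ∏ j, ν j := by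
  classical
  set U : Finset ℂ := Finset.univ.image μ ∪ Finset.univ.image ν with hU
  have hcount : ∀ z ∈ U, (Finset.univ.filter fun i => μ i = z).card =
      (Finset.univ.filter fun j => ν j = z).card := by
    intro z hz
    have hev : ∀ L : ℂ[X], ∑ i, L.eval (μ i) = ∑ j, L.eval (ν j) := fun L => by
      simp only [eval_eq_sum_range, Finset.sum_comm (s := Finset.univ), ← Finset.mul_sum, h]
    have key := hev (Lagrange.basis U id z)
    have hb : ∀ w ∈ U, (Lagrange.basis U id z).eval w = if w = z then 1 else 0 := fun w hw => by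
      split_ifs with hwz
      · rw [hwz]; exact Lagrange.eval_basis_self (Set.injOn_id _) hz
      · exact Lagrange.eval_basis_of_ne (v := id) (Ne.symm hwz) hw
    rw [Finset.sum_congr rfl fun i _ => hb _ (Finset.mem_union_left _ (Finset.mem_image_of_mem μ (Finset.mem_univ i))),
      Finset.sum_congr rfl fun j _ => hb _ (Finset.mem_union_right _ (Finset.mem_image_of_mem ν (Finset.mem_univ j))),
      Finset.sum_boole, Finset.sum_boole] at key
    exact_mod_cast key
  have h1 : ∏ z ∈ U, z ^ (Finset.univ.filter fun i => μ i = z).card = ∏ i, μ i := by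
    rw [← Finset.prod_fiberwise_of_maps_to (g := μ) (t := U) (fun i _ =>
      Finset.mem_union_left _ (Finset.mem_image_of_mem μ (Finset.mem_univ i))) μ]
    exact Finset.prod_congr rfl fun z _ => by
      rw [Finset.prod_congr rfl fun i hi => (Finset.mem_filter.1 hi).2, Finset.prod_const]
  have h2 : ∏ z ∈ U, z ^ (Finset.univ.filter fun j => ν j = z).card = ∏ j, ν j := by
    rw [← Finset.prod_fiberwise_of_maps_to (g := ν) (t := U) (fun i _ =>
      Finset.mem_union_right _ (Finset.mem_image_of_mem ν (Finset.mem_univ i))) ν]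
    exact Finset.prod_congr rfl fun z _ => by
      rw [Finset.prod_congr rfl fun i hi => (Finset.mem_filter.1 hi).2, Finset.prod_const]
  rw [← h1, ← h2]
  exact Finset.prod_congr rfl fun z hz => by rw [hcount z hz]

theorem det_eq_prod_of_eigenbasis {V : Type*} [AddCommGroup V] [Module ℂ V] {ι : Type*} [Fintype ι]
    (f : Module.End ℂ V) (b : Basis ι ℂ V) (μ : ι → ℂ) (hb : ∀ i, f (b i) = μ i • b i) :
    LinearMap.det f = ∏ i, μ i := by
  classical
  rw [← LinearMap.det_toMatrix b, ← Matrix.det_diagonal]
  congr 1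
  ext i j
  rcases eq_or_ne i j with rfl | hij
  · simp [LinearMap.toMatrix_apply, hb]
  · simp [LinearMap.toMatrix_apply, hb, Finsupp.single_apply, Matrix.diagonal, hij, Ne.symm hij]

/-- The determinant of a representation of a finite group is determined by its character. -/
theorem det_eq_of_character_eq {G : Type*} [Group G] [Finite G] {V W : Type*} [AddCommGroup V]
    [Module ℂ V] [FiniteDimensional ℂ V] [AddCommGroup W] [Module ℂ W] [FiniteDimensional ℂ W]
    (ρ : Representation ℂ G V) (σ : Representation ℂ G W) (h : ρ.character = σ.character) (g : G) :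
    LinearMap.det (ρ g) = LinearMap.det (σ g) := by
  obtain ⟨μ, b, hb, -, -⟩ := Char.exists_eigenbasis ρ g
  obtain ⟨ν, c, hc, -, -⟩ := Char.exists_eigenbasis σ g
  rw [det_eq_prod_of_eigenbasis _ b μ hb, det_eq_prod_of_eigenbasis _ c ν hc]
  refine prod_eq_of_sum_pow_eq μ ν fun k => ?_
  have hb' : ∀ k i, ρ (g ^ k) (b i) = μ i ^ k • b i := fun k i => by
    induction k with
    | zero => simp
    | succ k ih => rw [pow_succ', map_mul, Module.End.mul_apply, ih, map_smul, hb, smul_smul,
        pow_succ]
  have hc' : ∀ k i, σ (g ^ k) (c i) = ν i ^ k • c i := fun k i => by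
    induction k with
    | zero => simp
    | succ k ih => rw [pow_succ', map_mul, Module.End.mul_apply, ih, map_smul, hc, smul_smul,
        pow_succ]
  rw [← Char.trace_eq_sum_of_eigenbasis _ b _ (hb' k),
    ← Char.trace_eq_sum_of_eigenbasis _ c _ (hc' k)]
  exact congrFun h (g ^ k)

variable {G : Type*} [Group G] [Finite G]

theorem detChar_eq_det {χ : G → ℂ} {V : Type*} [AddCommGroup V] [Module ℂ V]
    [FiniteDimensional ℂ V] (ρ : Representation ℂ G V) (h : ρ.character = χ) :
    Cfsg.detChar χ = fun g => LinearMap.det (ρ g) := by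
  have hχ : Cfsg.IsCharacter G χ := h ▸ Char.isCharacter_of_rep ρ
  rw [Cfsg.detChar, dif_pos hχ]
  funext g
  exact det_eq_of_character_eq _ ρ
    ((Classical.choose_spec (Classical.choose_spec hχ)).trans h.symm) g

/-- `detChar` of a character is a homomorphism to the units. -/
theorem exists_detChar_hom {χ : G → ℂ} (hχ : Cfsg.IsCharacter G χ) :
    ∃ ν : G →* ℂˣ, Cfsg.detChar χ = fun g => (ν g : ℂ) := by
  obtain ⟨n, ρ, rfl⟩ := hχ
  refine ⟨((LinearMap.det).comp ρ).toHomUnits, ?_⟩
  rw [detChar_eq_det ρ rfl]
  rfl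

theorem detChar_comp {H : Type*} [Group H] [Finite H] {χ : G → ℂ} (hχ : Cfsg.IsCharacter G χ)
    (f : H →* G) : Cfsg.detChar (fun x => χ (f x)) = fun x => Cfsg.detChar χ (f x) := by
  obtain ⟨n, ρ, rfl⟩ := hχ
  rw [detChar_eq_det ρ rfl, detChar_eq_det (χ := fun x => ρ.character (f x)) (ρ.comp f) rfl]
  rfl

/-- The order of a linear character as a function is its order as a homomorphism. -/
theorem orderOf_hom_coe {H : Type*} [Group H] (ν : H →* ℂˣ) :
    orderOf (fun g => (ν g : ℂ)) = orderOf ν :=
  orderOf_injective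
    (({ toFun := fun ν g => (ν g : ℂ)
        map_one' := rfl
        map_mul' := fun _ _ => rfl } : (H →* ℂˣ) →* (H → ℂ)))
    (fun a b h => MonoidHom.ext fun g => Units.ext (congrFun h g)) ν

end Cfsg.Agent.ProjExt
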