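import Cfsg.Agent.ProjExt.Cocycle
import Cfsg.Agent.ProjExt.Det
import Cfsg.Agent.Char.Ortho

/-!
Projective extensions of an invariant irreducible character of a normal subgroup and the
extension criteria coming from the attached cocycle.
-/

namespace Cfsg.Agent.ProjExt

open Module
open scoped ComplexConjugate

universe u

/-- Invertible endomorphisms of `Fin d → ℂ`. -/
abbrev EndU (d : ℕ) := (Module.End ℂ (Fin d → ℂ))ˣ

/-- The scalars among the invertible endomorphisms. -/
noncomputable def scalarU (d : ℕ) : ℂˣ →* EndU d :=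
  Units.map (algebraMap ℂ (Module.End ℂ (Fin d → ℂ))).toMonoidHom

theorem scalarU_val (d : ℕ) (c : ℂˣ) :
    (scalarU d c : Module.End ℂ (Fin d → ℂ)) = algebraMap ℂ _ (c : ℂ) := rfl

theorem scalarU_comm (d : ℕ) (c : ℂˣ) (u : EndU d) : Commute (scalarU d c) u :=
  Units.ext (Algebra.commutes (c : ℂ) (u : Module.End ℂ (Fin d → ℂ)))

theorem scalarU_injective {d : ℕ} (hd : 0 < d) : Function.Injective (scalarU d) := by
  intro a b h
  have h1 := congrArg (fun u : EndU d => (u : Module.End ℂ (Fin d → ℂ)) (fun _ => 1) ⟨0, hd⟩) h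
  simpa [scalarU_val, Module.algebraMap_end_apply, Units.ext_iff] using h1

/-- The determinant as a unit. -/
noncomputable def detU (d : ℕ) : EndU d →* ℂˣ := Units.map LinearMap.det

theorem detU_scalarU (d : ℕ) (c : ℂˣ) : detU d (scalarU d c) = c ^ d := by
  ext
  simp [detU, scalarU_val, Algebra.algebraMap_eq_smul_one, LinearMap.det_smul]

section Basic

variable {H : Type*} [Group H] [Finite H] {d : ℕ}

/-- A unit commuting with an irreducible representation is a scalar. -/
theorem exists_scalarU (ρ : Representation ℂ H (Fin d → ℂ)) (hρ : ρ.IsIrreducible) (u : EndU d)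
    (hu : ∀ h, (u : Module.End ℂ (Fin d → ℂ)) * ρ h = ρ h * u) : ∃ c, u = scalarU d c := by
  have hnt : Nontrivial (Fin d → ℂ) := (Char.isIrreducible_iff.1 hρ).1
  let T : Representation.IntertwiningMap ρ ρ := ⟨(u : Module.End ℂ (Fin d → ℂ)), fun h => hu h⟩
  obtain ⟨c, hc⟩ :=
    (Representation.IsIrreducible.algebraMap_intertwiningMap_bijective_of_isAlgClosed (k := ℂ)
      (ρ := ρ)).2 T
  have h1 : (u : Module.End ℂ (Fin d → ℂ)) = algebraMap ℂ _ c :=
    (congrArg Representation.IntertwiningMap.toLinearMap hc).symm.trans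
      (by simp [Algebra.algebraMap_eq_smul_one]; rfl)
  have hc0 : c ≠ 0 := by
    rintro rfl
    rw [map_zero] at h1
    exact u.ne_zero h1
  exact ⟨Units.mk0 c hc0, Units.ext h1⟩

/-- A representation with the character of an irreducible one on the same space is conjugate
to it. -/
theorem exists_intertwining_unit (ρ σ : Representation ℂ H (Fin d → ℂ)) (hρ : ρ.IsIrreducible)
    (h : σ.character = ρ.character) :
    ∃ u : EndU d, ∀ x, (u : Module.End ℂ (Fin d → ℂ)) * ρ x = σ x * u := by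
  have := Fintype.ofFinite H
  have h1 : classInner σ.character ρ.character = 1 := by
    rw [h]; exact Char.classInner_irr_self ⟨d, ρ, hρ, rfl⟩
  rw [Char.classInner_character_eq_finrank] at h1
  have h2 : finrank ℂ (Representation.IntertwiningMap ρ σ) = 1 := by exact_mod_cast h1
  obtain ⟨T, hT⟩ : ∃ T : Representation.IntertwiningMap ρ σ, T ≠ 0 := by
    have : Nontrivial (Representation.IntertwiningMap ρ σ) :=
      Module.nontrivial_of_finrank_eq_succ h2
    exact exists_ne 0
  have hi : ∀ x v, T.toLinearMap (ρ x v) = σ x (T.toLinearMap v) := fun x v =>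
    Representation.IntertwiningMap.isIntertwining _ _ T x v
  have hker : LinearMap.ker T.toLinearMap = ⊥ := by
    refine ((Char.isIrreducible_iff.1 hρ).2 _ fun x v hv => ?_).resolve_right fun htop => hT ?_
    · rw [LinearMap.mem_ker] at hv ⊢
      rw [hi, hv, map_zero]
    · rw [LinearMap.ker_eq_top] at htop
      exact Representation.IntertwiningMap.ext htop
  have hinj : Function.Injective T.toLinearMap := LinearMap.ker_eq_bot.1 hker
  let e : (Fin d → ℂ) ≃ₗ[ℂ] (Fin d → ℂ) := LinearEquiv.ofInjectiveEndo T.toLinearMap hinj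
  refine ⟨(LinearMap.GeneralLinearGroup.generalLinearEquiv ℂ (Fin d → ℂ)).symm e, fun x => ?_⟩
  refine LinearMap.ext fun v => ?_
  exact hi x v

end Basic

variable {G : Type u} [Group G] (N : Subgroup G) [N.Normal]

/-- A projective extension to `G` of an invariant irreducible character of `N`. -/
structure Data (θ : N → ℂ) where
  /-- the degree -/
  d : ℕ
  d_pos : 0 < d
  θ_one : θ 1 = d
  /-- a representation affording the character -/
  ρ : Representation ℂ N (Fin d → ℂ)
  irr : ρ.IsIrreducible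
  char_eq : ρ.character = θ
  /-- the projective extension -/
  X : G → EndU d
  /-- its cocycle -/
  f : G → G → ℂˣ
  X_coe : ∀ n : N, (X n : Module.End ℂ (Fin d → ℂ)) = ρ n
  mul : ∀ g h, X g * X h = scalarU d (f g h) * X (g * h)
  cocycle : IsCocycle N f

variable {N} [Finite G]

theorem exists_data {θ : N → ℂ} (hθ : IsIrrCharacter N θ)
    (hinv : ∀ (g : G) (n : N),
      θ ⟨g * n * g⁻¹, (inferInstance : N.Normal).conj_mem (n : G) n.2 g⟩ = θ n) :
    Nonempty (Data N θ) := by
  classical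
  obtain ⟨d, ρ, hρ, rfl⟩ := hθ
  have hd : 0 < d := by
    have := (Char.isIrreducible_iff.1 hρ).1
    exact Nat.pos_of_ne_zero fun h => by
      subst h; exact false_of_nontrivial_of_subsingleton (Fin 0 → ℂ)
  let R : N →* EndU d := ρ.toHomUnits
  have hR : ∀ n, (R n : Module.End ℂ (Fin d → ℂ)) = ρ n := fun n => rfl
  let cn : G → N → N := fun g n => ⟨g * n * g⁻¹, (inferInstance : N.Normal).conj_mem (n : G) n.2 g⟩
  have key : ∀ g : G, ∃ u : EndU d, ∀ n : N, u * R n = R (cn g n) * u := by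
    intro g
    let c : N →* N := MonoidHom.mk' (cn g) fun a b => Subtype.ext (by simp [cn, mul_assoc])
    obtain ⟨u, hu⟩ := exists_intertwining_unit ρ (ρ.comp c) hρ (funext fun n => hinv g n)
    exact ⟨u, fun n => Units.ext (hu n)⟩
  choose T hT using key
  let s : G ⧸ N → G := Function.update (fun q => q.out) 1 1
  have hs : ∀ q, (QuotientGroup.mk (s q) : G ⧸ N) = q := by
    intro q
    simp only [s]
    rcases eq_or_ne q 1 with rfl | hq
    · rw [Function.update_self, QuotientGroup.mk_one]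
    · rw [Function.update_of_ne hq]; exact q.out_eq
  let T' : G ⧸ N → EndU d := Function.update (fun q => T (s q)) 1 1
  have hT' : ∀ q n, T' q * R n = R (cn (s q) n) * T' q := by
    intro q n
    simp only [T']
    rcases eq_or_ne q 1 with rfl | hq
    · have h1 : cn (s 1) n = n := Subtype.ext (by simp [cn, s])
      simp [h1]
    · rw [Function.update_of_ne hq]; exact hT _ _
  have hmem : ∀ g, (s (QuotientGroup.mk g))⁻¹ * g ∈ N := fun g => by
    rw [← QuotientGroup.eq, hs]
  let X : G → EndU d := fun g => T' (QuotientGroup.mk g) * R ⟨_, hmem g⟩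
  have hXn : ∀ n : N, X n = R n := by
    intro n
    have hq : (QuotientGroup.mk (n : G) : G ⧸ N) = 1 := (QuotientGroup.eq_one_iff _).2 n.2
    have h2 : (⟨(s (QuotientGroup.mk (n : G)))⁻¹ * n, hmem n⟩ : N) = n :=
      Subtype.ext (by simp [hq, s])
    simp only [X, h2]
    simp [hq, T']
  have hXr : ∀ (g : G) (n : N), X (g * n) = X g * R n := by
    intro g n
    have hq : (QuotientGroup.mk (g * (n : G)) : G ⧸ N) = QuotientGroup.mk g := by
      rw [QuotientGroup.mk_mul, (QuotientGroup.eq_one_iff (n : G)).2 n.2, mul_one]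
    simp only [X, mul_assoc, ← map_mul, hq]
    exact congrArg (fun x => T' (QuotientGroup.mk g) * R x) (Subtype.ext (by simp [mul_assoc]))
  have hXl : ∀ (n : N) (g : G), X (n * g) = R n * X g := by
    intro n g
    have hq : (QuotientGroup.mk ((n : G) * g) : G ⧸ N) = QuotientGroup.mk g := by
      rw [QuotientGroup.mk_mul, (QuotientGroup.eq_one_iff (n : G)).2 n.2, one_mul]
    set t := s (QuotientGroup.mk g) with ht
    have h1 := hT' (QuotientGroup.mk g)
      ⟨t⁻¹ * n * t, by simpa using (inferInstance : N.Normal).conj_mem (n : G) n.2 t⁻¹⟩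
    have h2 : cn (s (QuotientGroup.mk g))
        ⟨t⁻¹ * n * t, by simpa using (inferInstance : N.Normal).conj_mem (n : G) n.2 t⁻¹⟩ = n :=
      Subtype.ext (by simp [cn, ← ht, mul_assoc])
    rw [h2] at h1
    simp only [X]
    rw [← mul_assoc (R n), ← h1, mul_assoc (T' _) (R _), ← map_mul]
    exact congrArg₂ (fun a b => a * R b) (congrArg T' hq)
      (Subtype.ext (by simp [hq, ← ht, mul_assoc]))
  have hconj : ∀ (g : G) (n : N), X g * R n = R (cn g n) * X g := by
    intro g n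
    rw [← hXr, ← hXl]
    simp [cn, mul_assoc]
  have hscal : ∀ g h, ∃ c : ℂˣ, X g * X h = scalarU d c * X (g * h) := by
    intro g h
    obtain ⟨c, hc⟩ := exists_scalarU ρ hρ (X g * X h * (X (g * h))⁻¹) fun n => by
      set m : N := ⟨(g * h)⁻¹ * n * (g * h),
        by simpa using (inferInstance : N.Normal).conj_mem (n : G) n.2 (g * h)⁻¹⟩
      have e1 : cn g (cn h m) = n := Subtype.ext (by simp [cn, m, mul_assoc])
      have e2 : cn (g * h) m = n := Subtype.ext (by simp [cn, m, mul_assoc])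
      have e3 := hconj (g * h) m
      rw [e2] at e3
      have e4 : X g * X h * R m = R n * (X g * X h) := by
        rw [mul_assoc, hconj h m, ← mul_assoc, hconj g (cn h m), e1, mul_assoc]
      have : X g * X h * (X (g * h))⁻¹ * R n = R n * (X g * X h * (X (g * h))⁻¹) := by
        rw [← mul_assoc (R n), ← e4, eq_mul_inv_iff_mul_eq, mul_assoc, ← e3]
        group
      exact congrArg Units.val this
    exact ⟨c, by rw [← hc, inv_mul_cancel_right]⟩
  choose f hf using hscal
  refine ⟨⟨d, hd, by rw [ρ.char_one, Module.finrank_fin_fun], ρ, hρ, rfl, X, f, fun n => by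
    rw [hXn]; rfl, hf, fun a b c => ?_, fun n hn g => ?_, fun g n hn => ?_⟩⟩
  · apply scalarU_injective hd
    clear_value X
    have h1 : scalarU d (f a b * f (a * b) c) * X (a * b * c) =
        scalarU d (f b c * f a (b * c)) * X (a * (b * c)) := by
      rw [map_mul, mul_assoc, ← hf, ← mul_assoc, ← hf, map_mul, mul_assoc (scalarU d (f b c)), ← hf,
        ← mul_assoc, (scalarU_comm d (f b c) (X a)).eq, mul_assoc (X a) (scalarU d (f b c)), ← hf,
        mul_assoc]
    rw [← mul_assoc a b c, mul_left_inj] at h1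
    rw [h1, mul_comm (f a (b * c))]
  · apply scalarU_injective hd
    have h1 := hXl ⟨n, hn⟩ g
    rw [← hXn] at h1
    rw [map_one, ← mul_left_inj (X (n * g)), one_mul, ← hf, h1]
  · apply scalarU_injective hd
    have h1 := hXr g ⟨n, hn⟩
    rw [← hXn] at h1
    rw [map_one, ← mul_left_inj (X (g * n)), one_mul, ← hf, h1]

namespace Data

variable {θ : N → ℂ} (D : Data N θ)

/-- If a character of `P` extends `θ` then the cocycle splits on `P`, through a conjugate of the
representation. -/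
theorem exists_of_extension {P : Subgroup G} (hNP : N ≤ P) {η : P → ℂ} (hη : IsCharacter P η)
    (hres : ∀ n : N, η ⟨n, hNP n.2⟩ = θ n) :
    ∃ σ : Representation ℂ P (Fin D.d → ℂ), ∃ β : G → ℂˣ, σ.character = η ∧
      (∀ n ∈ N, β n = 1) ∧
      (∀ g ∈ P, ∀ h ∈ P, D.f g h = β g * β h * (β (g * h))⁻¹) ∧
      ∀ g : P, (D.X g : Module.End ℂ (Fin D.d → ℂ)) = (β g : ℂ) • σ g := by
  classical
  obtain ⟨m, σ₀, hσ₀⟩ := hη
  let i : N →* P := Subgroup.inclusion hNP
  have hm : m = D.d := by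
    have h1 : η 1 = θ 1 := by rw [← hres 1]; rfl
    rw [← hσ₀, σ₀.char_one, Module.finrank_fin_fun, D.θ_one] at h1
    exact_mod_cast h1
  subst hm
  obtain ⟨u, hu⟩ := exists_intertwining_unit D.ρ (σ₀.comp i) D.irr (by
    rw [D.char_eq]; funext n; rw [← hres n, ← hσ₀]; rfl)
  let S : P →* EndU D.d := (MulAut.conj u⁻¹).toMonoidHom.comp σ₀.toHomUnits
  have hSN : ∀ n : N, S (i n) = D.X n := fun n => by
    have h2 : u * D.X n = σ₀.toHomUnits (i n) * u := Units.ext (by
      rw [Units.val_mul, Units.val_mul, D.X_coe]; exact hu n)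
    show u⁻¹ * σ₀.toHomUnits (i n) * u⁻¹⁻¹ = D.X n
    rw [inv_inv, mul_assoc, ← h2, inv_mul_cancel_left]
  have hconj : ∀ (g : P) (n : N), D.X g * D.X n * (D.X g)⁻¹ =
      D.X ((g : G) * n * (g : G)⁻¹) := fun g n => by
    have hn' : (g : G) * n * (g : G)⁻¹ ∈ N := (inferInstance : N.Normal).conj_mem _ n.2 _
    rw [mul_inv_eq_iff_eq_mul, D.mul, D.mul, D.cocycle.right_one _ _ n.2,
      D.cocycle.left_one _ hn', inv_mul_cancel_right]
  have key : ∀ g : P, ∃ c : ℂˣ, D.X g = scalarU D.d c * S g := fun g => by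
    obtain ⟨c, hc⟩ := exists_scalarU D.ρ D.irr (D.X g * (S g)⁻¹) fun n => by
      rw [← D.X_coe, ← Units.val_mul, ← Units.val_mul]
      refine congrArg Units.val ?_
      have hm' : (g : G)⁻¹ * n * g ∈ N := by
        simpa using (inferInstance : N.Normal).conj_mem _ n.2 (g : G)⁻¹
      have e1 : S g * D.X ((g : G)⁻¹ * n * g) * (S g)⁻¹ = D.X n := by
        rw [← hSN ⟨_, hm'⟩, ← hSN n, ← map_inv, ← map_mul, ← map_mul]
        exact congrArg S (Subtype.ext (by simp [i, mul_assoc]))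
      have e2 := hconj g ⟨_, hm'⟩
      simp only [mul_inv_cancel_left, inv_mul_cancel_right, mul_assoc, mul_inv_cancel, mul_one] at e2
      have e2' : D.X g * D.X ((g : G)⁻¹ * n * g) = D.X n * D.X g := by
        rw [← mul_inv_eq_iff_eq_mul]; simpa [mul_assoc] using e2
      rw [← mul_assoc (D.X n) (D.X g), ← e2', eq_mul_inv_iff_mul_eq]
      conv_lhs => rw [← e1]
      group
    exact ⟨c, by rw [← hc, inv_mul_cancel_right]⟩
  choose c hc using key
  have hc1 : ∀ n : N, c (i n) = 1 := fun n => scalarU_injective D.d_pos (by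
    rw [map_one, ← mul_left_inj (S (i n)), one_mul, ← hc, hSN]; rfl)
  refine ⟨(Units.coeHom _).comp S, fun g => if hg : g ∈ P then c ⟨g, hg⟩ else 1, ?_, ?_, ?_, ?_⟩
  · funext g
    rw [← hσ₀]
    show LinearMap.trace ℂ _ (S g : Module.End ℂ (Fin D.d → ℂ)) = LinearMap.trace ℂ _ (σ₀ g)
    show LinearMap.trace ℂ _
      ((u⁻¹ * σ₀.toHomUnits g * u⁻¹⁻¹ : EndU D.d) : Module.End ℂ (Fin D.d → ℂ)) = _
    rw [Units.val_mul, Units.val_mul]
    rw [mul_assoc, LinearMap.trace_mul_comm, mul_assoc, ← Units.val_mul, inv_inv, mul_inv_cancel,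
      Units.val_one, mul_one]
    rfl
  · intro n hn
    simp only [dif_pos (hNP hn)]
    exact hc1 ⟨n, hn⟩
  · intro g hg h hh
    simp only [dif_pos hg, dif_pos hh, dif_pos (mul_mem hg hh)]
    apply scalarU_injective D.d_pos
    have h1 := D.mul g h
    have eg := hc ⟨g, hg⟩
    have eh := hc ⟨h, hh⟩
    have egh := hc ⟨g * h, mul_mem hg hh⟩
    simp only at eg eh egh
    rw [eg, eh, egh, show (⟨g * h, mul_mem hg hh⟩ : P) = ⟨g, hg⟩ * ⟨h, hh⟩ from rfl, map_mul S,
      mul_assoc, ← mul_assoc (S _) (scalarU _ _) (S _), ← (scalarU_comm _ _ _).eq, mul_assoc (scalarU _ _) (S _) (S _),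
      ← mul_assoc, ← mul_assoc (scalarU _ (D.f g h)), mul_left_inj, ← map_mul, ← map_mul] at h1
    rw [scalarU_injective D.d_pos h1]
    exact congrArg _ (mul_inv_cancel_right _ _).symm
  · intro g
    simp only [dif_pos g.2]
    rw [hc]
    simp [scalarU_val, Algebra.algebraMap_eq_smul_one]

theorem splits_of_extension {P : Subgroup G} (hNP : N ≤ P) {η : P → ℂ} (hη : IsCharacter P η)
    (hres : ∀ n : N, η ⟨n, hNP n.2⟩ = θ n) : Splits N P D.f :=
  let ⟨_, β, _, h1, h2, _⟩ := D.exists_of_extension hNP hη hres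
  ⟨β, h1, h2⟩

theorem splits_of_extension_top {χ : G → ℂ} (hχ : IsCharacter G χ)
    (hres : ∀ n : N, χ n = θ n) : Splits N ⊤ D.f :=
  D.splits_of_extension le_top (η := fun g : (⊤ : Subgroup G) => χ g) (Char.isCharacter_res ⊤ hχ) hres

/-- If the cocycle splits then `θ` extends to an irreducible character. -/
theorem exists_extension_of_splits (h : Splits N ⊤ D.f) :
    ∃ χ : G → ℂ, IsIrrCharacter G χ ∧ ∀ n : N, χ n = θ n := by
  obtain ⟨β, hβ1, hβ⟩ := h
  let S : G → EndU D.d := fun g => scalarU D.d (β g)⁻¹ * D.X g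
  have hmul : ∀ g h, S (g * h) = S g * S h := by
    intro g h
    simp only [S]
    have e : scalarU D.d (β g)⁻¹ * D.X g * (scalarU D.d (β h)⁻¹ * D.X h) =
        scalarU D.d ((β g)⁻¹ * (β h)⁻¹ * D.f g h) * D.X (g * h) := by
      rw [mul_assoc (scalarU _ _) (D.X g), ← mul_assoc (D.X g), ← (scalarU_comm _ _ _).eq,
        mul_assoc (scalarU _ _) (D.X g), D.mul, ← mul_assoc, ← mul_assoc, ← map_mul, ← map_mul]
    rw [e, hβ g trivial h trivial]
    have e2 : (β g)⁻¹ * (β h)⁻¹ * (β g * β h * (β (g * h))⁻¹) = (β (g * h))⁻¹ := by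
      rw [← mul_inv, inv_mul_cancel_left]
    rw [e2]
  let σ : Representation ℂ G (Fin D.d → ℂ) := (Units.coeHom _).comp (MonoidHom.mk' S hmul)
  have hres : ∀ n : N, σ n = D.ρ n := fun n => by
    show ((scalarU D.d (β n)⁻¹ * D.X n : EndU D.d) : Module.End ℂ (Fin D.d → ℂ)) = _
    rw [hβ1 n n.2, inv_one, map_one, one_mul, D.X_coe]
  refine ⟨σ.character, ⟨D.d, σ, ?_, rfl⟩, fun n => ?_⟩
  · obtain ⟨hn, hi⟩ := Char.isIrreducible_iff.1 D.irr
    exact Char.isIrreducible_iff.2 ⟨hn, fun U hU => hi U fun n v hv => hres n ▸ hU n v hv⟩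
  · exact (congrArg (LinearMap.trace ℂ _) (hres n)).trans (congrFun D.char_eq n)

theorem extends_iff : (∃ χ : G → ℂ, IsIrrCharacter G χ ∧ ∀ n : N, χ n = θ n) ↔ Splits N ⊤ D.f :=
  ⟨fun ⟨_, hχ, hres⟩ => D.splits_of_extension_top (Char.IsIrr.isCharacter hχ) hres,
    D.exists_extension_of_splits⟩

/-- The determinant gives a splitting at exponent the degree. -/
theorem degree_mem_splitExp (ν : G →* ℂˣ) (hν : ∀ n : N, (ν n : ℂ) = LinearMap.det (D.ρ n)) :
    (D.d : ℤ) ∈ splitExp N ⊤ D.f := by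
  refine ⟨fun g => detU D.d (D.X g) * (ν g)⁻¹, fun n hn => ?_, fun g _ h _ => ?_⟩
  · have : detU D.d (D.X n) = ν n := Units.ext (by
      rw [hν ⟨n, hn⟩, ← D.X_coe]; rfl)
    simp [this]
  · have h1 := congrArg (detU D.d) (D.mul g h)
    rw [map_mul, map_mul, detU_scalarU] at h1
    show D.f g h ^ (D.d : ℤ) = detU D.d (D.X g) * (ν g)⁻¹ * (detU D.d (D.X h) * (ν h)⁻¹) *
      (detU D.d (D.X (g * h)) * (ν (g * h))⁻¹)⁻¹
    rw [zpow_natCast, map_mul ν, eq_comm]
    calc detU D.d (D.X g) * (ν g)⁻¹ * (detU D.d (D.X h) * (ν h)⁻¹) *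
          (detU D.d (D.X (g * h)) * (ν g * ν h)⁻¹)⁻¹
        = detU D.d (D.X g) * detU D.d (D.X h) * (detU D.d (D.X (g * h)))⁻¹ *
            ((ν g)⁻¹ * (ν h)⁻¹ * (ν g * ν h)) := by
          rw [mul_inv (detU D.d (D.X (g * h))), inv_inv]
          simp only [mul_comm, mul_left_comm, mul_assoc]
      _ = D.f g h ^ D.d := by
          rw [← mul_inv, inv_mul_cancel, mul_one, h1, mul_inv_cancel_right]

include D in
/-- Two extensions differ by a linear character trivial on `N`. -/
theorem eq_twist {χ₁ χ₂ : G → ℂ} (h₁ : IsCharacter G χ₁) (h₂ : IsCharacter G χ₂)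
    (r₁ : ∀ n : N, χ₁ n = θ n) (r₂ : ∀ n : N, χ₂ n = θ n) :
    ∃ lam : G →* ℂˣ, (∀ n : N, lam n = 1) ∧ ∀ g, χ₂ g = (lam g : ℂ) * χ₁ g := by
  obtain ⟨σ₁, β₁, hσ₁, a₁, b₁, c₁⟩ := D.exists_of_extension le_top
    (η := fun g : (⊤ : Subgroup G) => χ₁ g) (Char.isCharacter_res ⊤ h₁) r₁
  obtain ⟨σ₂, β₂, hσ₂, a₂, b₂, c₂⟩ := D.exists_of_extension le_top
    (η := fun g : (⊤ : Subgroup G) => χ₂ g) (Char.isCharacter_res ⊤ h₂) r₂
  have hmul : ∀ g h, β₁ (g * h) * (β₂ (g * h))⁻¹ = β₁ g * (β₂ g)⁻¹ * (β₁ h * (β₂ h)⁻¹) := by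
    intro g h
    have h := (b₁ g trivial h trivial).symm.trans (b₂ g trivial h trivial)
    rename_i g h'
    rw [mul_inv_eq_iff_eq_mul] at h
    rw [mul_mul_mul_comm (β₁ g), h, ← mul_inv, eq_comm, mul_inv_eq_iff_eq_mul]
    simp only [mul_comm, mul_left_comm]
  refine ⟨MonoidHom.mk' (fun g => β₁ g * (β₂ g)⁻¹) hmul,
    fun n => by simp [a₁ n n.2, a₂ n n.2], fun g => ?_⟩
  have e := (c₁ ⟨g, trivial⟩).symm.trans (c₂ ⟨g, trivial⟩)
  have e' : σ₂ ⟨g, trivial⟩ = ((β₁ g * (β₂ g)⁻¹ : ℂˣ) : ℂ) • σ₁ ⟨g, trivial⟩ := by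
    rw [Units.val_mul, mul_comm, mul_smul, e, smul_smul, Units.inv_mul, one_smul]
  have f1 : LinearMap.trace ℂ _ (σ₁ ⟨g, trivial⟩) = χ₁ g := congrFun hσ₁ ⟨g, trivial⟩
  have f2 : LinearMap.trace ℂ _ (σ₂ ⟨g, trivial⟩) = χ₂ g := congrFun hσ₂ ⟨g, trivial⟩
  rw [← f1, ← f2, e', map_smul]
  rfl

end Data

/-- A character of `G` with irreducible restriction to `N` is irreducible. -/
theorem isIrr_of_res {χ : G → ℂ} (hχ : IsCharacter G χ) {θ : N → ℂ} (hθ : IsIrrCharacter N θ)
    (hres : ∀ n : N, χ n = θ n) : IsIrrCharacter G χ := by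
  obtain ⟨m, σ, rfl⟩ := hχ
  obtain ⟨d, ρ, hρ, rfl⟩ := hθ
  have hm : m = d := by
    have := hres 1
    rw [OneMemClass.coe_one, σ.char_one, ρ.char_one, Module.finrank_fin_fun,
      Module.finrank_fin_fun] at this
    exact_mod_cast this
  subst hm
  obtain ⟨u, hu⟩ := exists_intertwining_unit ρ (σ.comp N.subtype) hρ (funext hres)
  obtain ⟨hn, hi⟩ := Char.isIrreducible_iff.1 hρ
  refine ⟨m, σ, Char.isIrreducible_iff.2 ⟨hn, fun U hU => ?_⟩, rfl⟩
  let e : (Fin m → ℂ) ≃ₗ[ℂ] (Fin m → ℂ) := LinearMap.GeneralLinearGroup.generalLinearEquiv ℂ _ u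
  have he : ∀ v, e v = (u : Module.End ℂ (Fin m → ℂ)) v := fun v => rfl
  have hsurj : Function.Surjective (e : (Fin m → ℂ) →ₗ[ℂ] (Fin m → ℂ)) := e.surjective
  rcases hi (U.comap (e : (Fin m → ℂ) →ₗ[ℂ] (Fin m → ℂ))) fun n v hv => by
    show (u : Module.End ℂ (Fin m → ℂ)) (ρ n v) ∈ U
    have h := LinearMap.congr_fun (hu n) v
    rw [Module.End.mul_apply, Module.End.mul_apply] at h
    rw [h]
    exact hU _ _ hv with h1 | h1
  · left
    rw [← Submodule.map_comap_eq_of_surjective hsurj U, h1, Submodule.map_bot]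
  · right
    rw [← Submodule.map_comap_eq_of_surjective hsurj U, h1, Submodule.map_top,
      LinearMap.range_eq_top.2 hsurj]

/-- Twisting by a linear character multiplies the determinant by its power. -/
theorem detChar_twist {χ : G → ℂ} (hχ : IsCharacter G χ) {d : ℕ} (hd : χ 1 = d) (lam : G →* ℂˣ) :
    IsCharacter G (fun g => (lam g : ℂ) * χ g) ∧
      detChar (fun g => (lam g : ℂ) * χ g) = fun g => (lam g : ℂ) ^ d * detChar χ g := by
  obtain ⟨m, σ, rfl⟩ := hχ
  rw [σ.char_one, Module.finrank_fin_fun, Nat.cast_inj] at hd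
  subst hd
  let τ : Representation ℂ G (Fin m → ℂ) :=
    { toFun := fun g => (lam g : ℂ) • σ g
      map_one' := by simp
      map_mul' := fun a b => by simp [smul_smul, mul_comm] }
  have hτ : τ.character = fun g => (lam g : ℂ) * σ.character g := by
    funext g
    show LinearMap.trace ℂ _ ((lam g : ℂ) • σ g) = _
    rw [map_smul]; rfl
  refine ⟨⟨m, τ, hτ⟩, ?_⟩
  rw [detChar_eq_det τ hτ, detChar_eq_det σ rfl]
  funext g
  show LinearMap.det ((lam g : ℂ) • σ g) = _
  rw [LinearMap.det_smul, Module.finrank_fin_fun]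

end Cfsg.Agent.ProjExt
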