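import Cfsg.Agent.ProjExt.Criteria
import Cfsg.Agent.CharArith.Central
import Cfsg.Agent.Char.Clifford

/-!
Degrees: the degree of an irreducible representation divides the index of the centre; the degree
of an irreducible projective representation of `G ⧸ N` divides the index of `N`; the ratio of the
degree of an irreducible character to the degree of a constituent of its restriction to a normal
subgroup divides the index of that subgroup.
-/

namespace Cfsg.Agent.ProjExt

open Module
open scoped ComplexConjugate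

section Center

variable {G : Type*} [Group G] [Finite G]

/-- For a faithful irreducible representation the degree divides the index of the centre. -/
theorem dvd_index_center_of_injective {n : ℕ} (ρ : Representation ℂ G (Fin n → ℂ))
    (hρ : ρ.IsIrreducible) (hinj : Function.Injective ρ) :
    n ∣ (Subgroup.center G).index := by
  classical
  have := Fintype.ofFinite G
  have hirr : IsIrrCharacter G ρ.character := ⟨n, ρ, hρ, rfl⟩
  set χ := ρ.character with hχ
  have hn : χ 1 = n := by rw [hχ, ρ.char_one, Module.finrank_fin_fun]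
  -- centre acts by scalars
  have hsc : ∀ z ∈ Subgroup.center G, ∃ c : ℂˣ, ρ z = algebraMap ℂ _ (c : ℂ) := by
    intro z hz
    obtain ⟨c, hc⟩ := exists_scalarU ρ hρ (ρ.toHomUnits z) fun g => by
      show ρ z * ρ g = ρ g * ρ z
      rw [← map_mul, ← map_mul, Subgroup.mem_center_iff.1 hz g]
    exact ⟨c, congrArg Units.val hc⟩
  have hmul : ∀ z ∈ Subgroup.center G, ∀ g : G, ∃ c : ℂ, χ (z * g) = c * χ g ∧
      c * conj c = 1 ∧ (c = 1 → z = 1) := by
    intro z hz g
    obtain ⟨c, hc⟩ := hsc z hz
    refine ⟨(c : ℂ), ?_, ?_, fun h1 => hinj ?_⟩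
    · show LinearMap.trace ℂ _ (ρ (z * g)) = _ * LinearMap.trace ℂ _ (ρ g)
      rw [map_mul, hc, Algebra.algebraMap_eq_smul_one, smul_mul_assoc, one_mul, map_smul,
        smul_eq_mul]
    · have hk : (c : ℂ) ^ orderOf z = 1 := by
        have := congrArg ρ (pow_orderOf_eq_one z)
        rw [map_pow, map_one, hc, ← map_pow,
          ← map_one (algebraMap ℂ (Module.End ℂ (Fin n → ℂ)))] at this
        have hnt : Nontrivial (Fin n → ℂ) := (Char.isIrreducible_iff.1 hρ).1
        exact (algebraMap ℂ (Module.End ℂ (Fin n → ℂ))).injective this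
      rw [Complex.mul_conj', Complex.norm_eq_one_of_pow_eq_one hk (orderOf_pos z).ne']
      simp
    · rw [hc, h1, map_one, map_one]
  choose cI hcI hcE using fun g : G => CharArith.isIntegral_classSum hirr g
  haveI : Finite (ConjClasses (G ⧸ Subgroup.center G)) := Quotient.finite _
  letI := Fintype.ofFinite (ConjClasses (G ⧸ Subgroup.center G))
  have hsum : (∑ g, χ g * conj (χ g)) = (Nat.card G : ℂ) := by
    have h1 := Char.classInner_irr_self hirr
    rwa [classInner, inv_mul_eq_one₀ Char.card_ne_zero, eq_comm] at h1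
  let q : G → ConjClasses (G ⧸ Subgroup.center G) := fun g => ConjClasses.mk (g : G ⧸ Subgroup.center G)
  have hq : Function.Surjective q :=
    ConjClasses.mk_surjective.comp (Quotient.mk_surjective)
  choose r hr using hq
  have hblock : ∀ C, (∑ g ∈ Finset.univ.filter (fun g => q g = C), χ g * conj (χ g)) =
      (Nat.card (Subgroup.center G) : ℂ) * ((n : ℂ) * (cI (r C) * conj (χ (r C)))) := by
    intro C
    set g := r C with hg
    have hmem : ∀ x : G, q x = C ↔
        ∃ z ∈ Subgroup.center G, ∃ k : G, IsConj g k ∧ z * k = x := by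
      intro x
      rw [← hr C, ← hg]
      simp only [q, ConjClasses.mk_eq_mk_iff_isConj]
      constructor
      · intro h
        obtain ⟨k, hk⟩ := isConj_iff.1 h.symm
        obtain ⟨k, rfl⟩ := QuotientGroup.mk_surjective k
        refine ⟨x * (k * g * k⁻¹)⁻¹, ?_, k * g * k⁻¹, isConj_iff.2 ⟨k, rfl⟩, by group⟩
        rw [← QuotientGroup.eq_one_iff, QuotientGroup.mk_mul, QuotientGroup.mk_inv,
          QuotientGroup.mk_mul, QuotientGroup.mk_mul, QuotientGroup.mk_inv, ← hk, mul_inv_cancel]
      · rintro ⟨z, hz, k, hk, rfl⟩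
        rw [QuotientGroup.mk_mul, (QuotientGroup.eq_one_iff z).2 hz, one_mul]
        exact ((QuotientGroup.mk' (Subgroup.center G)).map_isConj hk).symm
    have hnorm : ∀ z ∈ Subgroup.center G, ∀ k, IsConj g k →
        χ (z * k) * conj (χ (z * k)) = χ g * conj (χ g) := by
      intro z hz k hk
      obtain ⟨c, h1, h2, -⟩ := hmul z hz k
      rw [h1, ← Char.classFun_isConj (Char.isClassFunction_of_isIrr hirr) hk, map_mul]
      linear_combination (χ g * conj (χ g)) * h2
    have hrhs : (Nat.card (Subgroup.center G) : ℂ) * ((n : ℂ) * (cI g * conj (χ g))) =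
        ((Nat.card (Subgroup.center G) * (Finset.univ.filter fun k : G => IsConj g k).card : ℕ) : ℂ) *
          (χ g * conj (χ g)) := by
      rw [← hn, ← mul_assoc (χ 1), hcE]
      push_cast
      ring
    rw [hrhs]
    by_cases h0 : χ g = 0
    · rw [h0, zero_mul, mul_zero]
      refine Finset.sum_eq_zero fun x hx => ?_
      obtain ⟨z, hz, k, hk, rfl⟩ := (hmem x).1 (Finset.mem_filter.1 hx).2
      rw [hnorm z hz k hk, h0, zero_mul]
    have hbij : (∑ p ∈ (Finset.univ.filter fun z : G => z ∈ Subgroup.center G) ×ˢ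
        (Finset.univ.filter fun k : G => IsConj g k), χ g * conj (χ g)) =
        ∑ x ∈ Finset.univ.filter (fun x => q x = C), χ x * conj (χ x) := by
      refine Finset.sum_bij (fun p _ => p.1 * p.2) ?_ ?_ ?_ ?_
      · intro p hp
        simp only [Finset.mem_product, Finset.mem_filter, Finset.mem_univ, true_and] at hp ⊢
        exact (hmem _).2 ⟨p.1, hp.1, p.2, hp.2, rfl⟩
      · rintro ⟨z, k⟩ hp ⟨z', k'⟩ hp' he
        simp only [Finset.mem_product, Finset.mem_filter, Finset.mem_univ, true_and] at hp hp' he ⊢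
        have hz : z⁻¹ * z' ∈ Subgroup.center G := mul_mem (inv_mem hp.1) hp'.1
        have hk : k = z⁻¹ * z' * k' := by rw [mul_assoc, ← he, inv_mul_cancel_left]
        obtain ⟨c, h1, -, h3⟩ := hmul _ hz k'
        rw [← hk, ← Char.classFun_isConj (Char.isClassFunction_of_isIrr hirr) hp.2,
          ← Char.classFun_isConj (Char.isClassFunction_of_isIrr hirr) hp'.2] at h1
        have hc : c = 1 := mul_right_cancel₀ h0 (h1.symm.trans (one_mul _).symm)
        have hzz := h3 hc
        rw [inv_mul_eq_one] at hzz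
        subst hzz
        exact Prod.ext rfl (mul_left_cancel he)
      · intro x hx
        obtain ⟨z, hz, k, hk, rfl⟩ := (hmem x).1 (Finset.mem_filter.1 hx).2
        exact ⟨(z, k), Finset.mem_product.2 ⟨Finset.mem_filter.2 ⟨Finset.mem_univ _, hz⟩,
          Finset.mem_filter.2 ⟨Finset.mem_univ _, hk⟩⟩, rfl⟩
      · intro p hp
        simp only [Finset.mem_product, Finset.mem_filter, Finset.mem_univ, true_and] at hp
        exact (hnorm _ hp.1 _ hp.2).symm
    rw [← hbij, Finset.sum_const, nsmul_eq_mul, Finset.card_product]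
    have hZ : (Finset.univ.filter fun z : G => z ∈ Subgroup.center G).card =
        Nat.card (Subgroup.center G) := by
      rw [← Fintype.card_subtype, ← Nat.card_eq_fintype_card]
    rw [hZ]
  refine CharArith.dvd_of_eq_natCast_mul_isIntegral
    (z := ∑ C, cI (r C) * conj (χ (r C))) (IsIntegral.sum _ fun C _ => ?_) ?_
  · exact (hcI _).mul ((Char.IsChar.inv_eq_conj (Char.IsIrr.isCharacter hirr) (r C)) ▸
      Char.IsChar.isIntegral (Char.IsIrr.isCharacter hirr) (r C)⁻¹)
  · apply mul_left_cancel₀ (b := ((Subgroup.center G).index : ℂ))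
      (Char.card_ne_zero (G := Subgroup.center G))
    rw [← Nat.cast_mul, Subgroup.card_mul_index, ← hsum,
      ← Finset.sum_fiberwise Finset.univ q, Finset.sum_congr rfl fun C _ => hblock C,
      Finset.mul_sum, Finset.mul_sum]

/-- The degree of an irreducible representation divides the index of the centre. -/
theorem finrank_dvd_index_center {V : Type*} [AddCommGroup V] [Module ℂ V]
    [FiniteDimensional ℂ V] (ρ : Representation ℂ G V) (hρ : ρ.IsIrreducible) :
    finrank ℂ V ∣ (Subgroup.center G).index := by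
  obtain ⟨n, σ, hσ, hc⟩ := Char.isIrrCharacter_of_rep ρ hρ
  have hn : n = finrank ℂ V := by
    have h1 := congrFun hc 1
    rw [σ.char_one, ρ.char_one, Module.finrank_fin_fun] at h1
    exact_mod_cast h1
  let τ : Representation ℂ σ.toHomUnits.range (Fin n → ℂ) :=
    (Units.coeHom _).comp σ.toHomUnits.range.subtype
  haveI : Finite σ.toHomUnits.range :=
    Finite.of_surjective _ σ.toHomUnits.rangeRestrict_surjective
  have hτ : τ.IsIrreducible := by
    obtain ⟨hnt, hi⟩ := Char.isIrreducible_iff.1 hσ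
    exact Char.isIrreducible_iff.2
      ⟨hnt, fun U hU => hi U fun g v hv => hU (σ.toHomUnits.rangeRestrict g) v hv⟩
  have h := dvd_index_center_of_injective τ hτ fun a b e => Subtype.ext (Units.ext e)
  rw [← hn]
  refine h.trans (dvd_trans (Subgroup.index_dvd_of_le ?_)
    ((Subgroup.center G).index_map_dvd σ.toHomUnits.rangeRestrict_surjective))
  rintro _ ⟨z, hz, rfl⟩
  rw [Subgroup.mem_center_iff]
  intro y
  obtain ⟨g, rfl⟩ := σ.toHomUnits.rangeRestrict_surjective y
  rw [← map_mul, ← map_mul, Subgroup.mem_center_iff.1 hz g]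

/-- The degree of an irreducible projective representation which is scalar on `N` divides the
index of `N`. -/
theorem finrank_dvd_index_of_projective (N : Subgroup G) {M : Type*} [AddCommGroup M]
    [Module ℂ M] [FiniteDimensional ℂ M] [Nontrivial M] (Y : G → (Module.End ℂ M)ˣ)
    (hY : ∀ g h, ∃ c : ℂˣ,
      Y g * Y h = Units.map (algebraMap ℂ (Module.End ℂ M)).toMonoidHom c * Y (g * h))
    (hN : ∀ n ∈ N, ∃ c : ℂˣ, Y n = Units.map (algebraMap ℂ (Module.End ℂ M)).toMonoidHom c)
    (hirr : ∀ U : Submodule ℂ M, (∀ g, ∀ v ∈ U, (Y g : Module.End ℂ M) v ∈ U) → U = ⊥ ∨ U = ⊤) :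
    finrank ℂ M ∣ N.index := by
  set sc : ℂˣ →* (Module.End ℂ M)ˣ := Units.map (algebraMap ℂ (Module.End ℂ M)).toMonoidHom
  have hscval : ∀ c, (sc c : Module.End ℂ M) = algebraMap ℂ _ (c : ℂ) := fun c => rfl
  have hcomm : ∀ c u, sc c * u = u * sc c := fun c u =>
    Units.ext (Algebra.commutes (c : ℂ) (u : Module.End ℂ M))
  haveI : sc.range.Normal := ⟨by
    rintro _ ⟨c, rfl⟩ u
    exact ⟨c, by rw [← hcomm, mul_inv_cancel_right]⟩⟩
  let π : G →* (Module.End ℂ M)ˣ ⧸ sc.range :=
    MonoidHom.mk' (fun g => QuotientGroup.mk (Y g)) fun g h => by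
      obtain ⟨c, hc⟩ := hY g h
      rw [← QuotientGroup.mk_mul, hc, QuotientGroup.mk_mul,
        (QuotientGroup.eq_one_iff (sc c)).2 (MonoidHom.mem_range.2 ⟨c, rfl⟩), one_mul]
  let detH : (Module.End ℂ M)ˣ →* ℂˣ := Units.map LinearMap.det
  let Γ : Subgroup (Module.End ℂ M)ˣ :=
    π.range.comap (QuotientGroup.mk' sc.range) ⊓ detH.ker
  let φ : Γ →* π.range :=
    ((QuotientGroup.mk' sc.range).comp Γ.subtype).codRestrict π.range fun u => u.2.1
  set e := finrank ℂ M with he
  have he0 : 0 < e := finrank_pos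
  haveI : NeZero e := ⟨he0.ne'⟩
  have hdet : ∀ c, detH (sc c) = c ^ e := by
    intro c
    ext
    simp [detH, hscval, Algebra.algebraMap_eq_smul_one, LinearMap.det_smul, he]
  have hlift : ∀ g : G, ∃ s : ℂˣ, sc s * Y g ∈ Γ := by
    intro g
    obtain ⟨s, hs⟩ := exists_root (detH (Y g))⁻¹ e he0
    refine ⟨s, ⟨g, ?_⟩, ?_⟩
    · show QuotientGroup.mk (Y g) = QuotientGroup.mk (sc s * Y g)
      rw [QuotientGroup.mk_mul, (QuotientGroup.eq_one_iff (sc s)).2 (MonoidHom.mem_range.2 ⟨s, rfl⟩), one_mul]
    · show detH (sc s * Y g) = 1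
      rw [map_mul, hdet, hs, inv_mul_cancel]
  have hφ : Function.Surjective φ := by
    rintro ⟨_, g, rfl⟩
    obtain ⟨s, hs⟩ := hlift g
    refine ⟨⟨_, hs⟩, Subtype.ext ?_⟩
    show QuotientGroup.mk (sc s * Y g) = QuotientGroup.mk (Y g)
    rw [QuotientGroup.mk_mul, (QuotientGroup.eq_one_iff (sc s)).2 (MonoidHom.mem_range.2 ⟨s, rfl⟩), one_mul]
  have hker : ∀ u ∈ φ.ker, ∃ c : rootsOfUnity e ℂ, sc c = (u : (Module.End ℂ M)ˣ) := by
    intro u hu
    obtain ⟨c, hc⟩ := (QuotientGroup.eq_one_iff (u : (Module.End ℂ M)ˣ)).1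
      (congrArg Subtype.val (MonoidHom.mem_ker.1 hu))
    refine ⟨⟨c, ?_⟩, hc⟩
    rw [mem_rootsOfUnity, ← hdet, hc]
    exact u.2.2
  haveI : Finite φ.ker := by
    choose c hc using fun u : φ.ker => hker u.1 u.2
    refine Finite.of_injective c fun u v h => ?_
    exact Subtype.ext (Subtype.ext ((hc u).symm.trans ((congrArg (fun x : rootsOfUnity e ℂ => sc x) h).trans (hc v))))
  haveI : Finite π.range := Finite.of_surjective _ π.rangeRestrict_surjective
  have hidx : φ.ker.index = Nat.card π.range := by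
    rw [Subgroup.index_ker, MonoidHom.range_eq_top.2 hφ, Subgroup.card_top]
  haveI : Finite Γ := Nat.finite_of_card_ne_zero (by
    rw [← φ.ker.card_mul_index, hidx]
    exact mul_ne_zero Nat.card_pos.ne' Nat.card_pos.ne')
  let τ : Representation ℂ Γ M := (Units.coeHom _).comp Γ.subtype
  have hτ : τ.IsIrreducible := by
    refine Char.isIrreducible_iff.2 ⟨inferInstance, fun U hU => hirr U fun g v hv => ?_⟩
    obtain ⟨s, hs⟩ := hlift g
    have h1 := hU ⟨_, hs⟩ v hv
    have h2 : (((sc s * Y g : (Module.End ℂ M)ˣ)) : Module.End ℂ M) v =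
        (s : ℂ) • (Y g : Module.End ℂ M) v := by
      simp [hscval, Algebra.algebraMap_eq_smul_one]
    change (((sc s * Y g : (Module.End ℂ M)ˣ)) : Module.End ℂ M) v ∈ U at h1
    rw [h2] at h1
    exact (Submodule.smul_mem_iff U s.ne_zero).1 h1
  refine (finrank_dvd_index_center τ hτ).trans ((Subgroup.index_dvd_of_le (H := φ.ker) ?_).trans ((dvd_of_eq hidx).trans ?_))
  · intro u hu
    obtain ⟨c, hc⟩ := hker u hu
    exact Subgroup.mem_center_iff.2 fun y => Subtype.ext (by
      show (y : (Module.End ℂ M)ˣ) * u = u * y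
      rw [← hc, hcomm])
  · rw [show Nat.card π.range = π.ker.index from (Subgroup.index_ker π).symm]
    exact Subgroup.index_dvd_of_le fun n hn => by
      obtain ⟨c, hc⟩ := hN n hn
      exact MonoidHom.mem_ker.2 ((QuotientGroup.eq_one_iff (Y n)).2 ⟨c, hc.symm⟩)

end Center

section Isotypic

variable {G : Type*} [Group G] [Finite G] (N : Subgroup G) [N.Normal]

/-- If an irreducible character restricts to `e` times an irreducible character of the normal
subgroup `N` then `e` divides the index of `N`. -/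
theorem dvd_index_of_isotypic {χ : G → ℂ} (hχ : IsIrrCharacter G χ) {θ : N → ℂ}
    (hθ : IsIrrCharacter N θ) {e : ℕ} (h : ∀ n : N, χ n = e * θ n) : e ∣ N.index := by
  have := Fintype.ofFinite N
  have hcf := Char.isClassFunction_of_isIrr hχ
  have he0 : e ≠ 0 := by
    rintro rfl
    exact Char.IsIrr.one_ne_zero hχ (by simpa using h 1)
  have hinv : ∀ (g : G) (n : N),
      θ ⟨g * n * g⁻¹, (inferInstance : N.Normal).conj_mem (n : G) n.2 g⟩ = θ n := by
    intro g n
    have h1 := h ⟨g * n * g⁻¹, (inferInstance : N.Normal).conj_mem (n : G) n.2 g⟩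
    rw [hcf (n : G) g, h n] at h1
    exact (mul_left_cancel₀ (Nat.cast_ne_zero.2 he0) h1).symm
  obtain ⟨D⟩ := exists_data hθ hinv
  obtain ⟨m, σ, hσ, rfl⟩ := hχ
  let σN : Representation ℂ N (Fin m → ℂ) := σ.comp N.subtype
  have hM : finrank ℂ (Representation.IntertwiningMap D.ρ σN) = e := by
    have h1 := Char.classInner_character_eq_finrank σN D.ρ
    have h2 : σN.character = (e : ℂ) • θ := funext fun n => h n
    rw [D.char_eq, h2, Char.classInner_smul_left, Char.classInner_irr_self hθ, mul_one] at h1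
    exact_mod_cast h1.symm
  haveI : Nontrivial (Representation.IntertwiningMap D.ρ σN) :=
    Module.nontrivial_of_finrank_pos (R := ℂ) (hM ▸ Nat.pos_of_ne_zero he0)
  haveI : FiniteDimensional ℂ (Representation.IntertwiningMap D.ρ σN) :=
    Module.finite_of_finrank_pos (hM ▸ Nat.pos_of_ne_zero he0)
  have hXinv : ∀ (g : G) (n : N) (v : Fin D.d → ℂ),
      ((D.X g)⁻¹ : EndU D.d).1 (D.ρ n v) =
        D.ρ ⟨g⁻¹ * n * g, by simpa using (inferInstance : N.Normal).conj_mem (n : G) n.2 g⁻¹⟩
          (((D.X g)⁻¹ : EndU D.d).1 v) := by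
    intro g n v
    set m' : N := ⟨g⁻¹ * n * g,
      by simpa using (inferInstance : N.Normal).conj_mem (n : G) n.2 g⁻¹⟩
    have h1 : D.X g * D.X m' = D.X n * D.X g := by
      rw [D.mul, D.mul, D.cocycle.right_one _ _ m'.2, D.cocycle.left_one _ n.2]
      simp [m', mul_assoc]
    have h2 : (D.X g)⁻¹ * D.X n = D.X m' * (D.X g)⁻¹ := by
      rw [inv_mul_eq_iff_eq_mul, ← mul_assoc, h1, mul_inv_cancel_right]
    have h3 := congrArg (fun u : EndU D.d => u.1 v) h2
    simpa [D.X_coe] using h3
  have hmem : ∀ (g : G) (f : Representation.IntertwiningMap D.ρ σN) (n : N) (v : Fin D.d → ℂ),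
      σ g (f.toLinearMap (((D.X g)⁻¹ : EndU D.d).1 (D.ρ n v))) =
        σN n (σ g (f.toLinearMap (((D.X g)⁻¹ : EndU D.d).1 v))) := by
    intro g f n v
    rw [hXinv]
    refine (congrArg (σ g) (Representation.IntertwiningMap.isIntertwining _ _ f _ _)).trans ?_
    show σ g (σ (g⁻¹ * n * g) _) = σ n (σ g _)
    rw [← Module.End.mul_apply, ← map_mul, ← Module.End.mul_apply (σ n), ← map_mul]
    simp [mul_assoc]
  let Yl : G → Module.End ℂ (Representation.IntertwiningMap D.ρ σN) := fun g =>
    { toFun := fun f => ⟨σ g ∘ₗ f.toLinearMap ∘ₗ ((D.X g)⁻¹ : EndU D.d).1,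
        fun n => LinearMap.ext fun v => hmem g f n v⟩
      map_add' := fun f f' => Representation.IntertwiningMap.ext (LinearMap.ext fun v => by simp)
      map_smul' := fun c f => Representation.IntertwiningMap.ext (LinearMap.ext fun v => by simp) }
  have hYl : ∀ g f v, (Yl g f).toLinearMap v =
      σ g (f.toLinearMap (((D.X g)⁻¹ : EndU D.d).1 v)) := fun _ _ _ => rfl
  have hinjY : ∀ g, Function.Injective (Yl g) := by
    intro g f f' hff
    refine Representation.IntertwiningMap.ext (LinearMap.ext fun v => ?_)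
    have h1 := congrArg (fun x : Representation.IntertwiningMap D.ρ σN =>
      x.toLinearMap ((D.X g : EndU D.d).1 v)) hff
    simp only [hYl, ← Module.End.mul_apply, Units.inv_mul] at h1
    have h2 := congrArg (σ g⁻¹) h1
    simpa [← Module.End.mul_apply, ← map_mul] using h2
  let Y : G → (Module.End ℂ (Representation.IntertwiningMap D.ρ σN))ˣ := fun g =>
    (LinearMap.GeneralLinearGroup.generalLinearEquiv ℂ _).symm
      (LinearEquiv.ofInjectiveEndo (Yl g) (hinjY g))
  have hYv : ∀ g, (Y g : Module.End ℂ (Representation.IntertwiningMap D.ρ σN)) = Yl g := fun g =>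
    LinearMap.ext fun f => rfl
  rw [← hM]
  refine finrank_dvd_index_of_projective N Y (fun g k => ⟨(D.f g k)⁻¹, ?_⟩)
    (fun n hn => ⟨1, ?_⟩) fun U hU => ?_
  · refine Units.ext (LinearMap.ext fun f => Representation.IntertwiningMap.ext
      (LinearMap.ext fun v => ?_))
    simp only [Units.val_mul, Module.End.mul_apply, hYv, hYl, Units.coe_map,
      RingHom.toMonoidHom_eq_coe, MonoidHom.coe_coe, Module.algebraMap_end_apply,
      Representation.IntertwiningMap.toLinearMap_smul, LinearMap.smul_apply]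
    have h1 : (D.X k)⁻¹ * (D.X g)⁻¹ = scalarU D.d (D.f g k)⁻¹ * (D.X (g * k))⁻¹ := by
      rw [← mul_inv_rev, D.mul, mul_inv_rev, map_inv, (scalarU_comm D.d _ _).inv_inv.eq]
    have h2 := congrArg (fun u : EndU D.d => u.1 v) h1
    simp only [Units.val_mul, Module.End.mul_apply, scalarU_val, Module.algebraMap_end_apply] at h2
    rw [h2, map_smul, map_smul, map_smul, map_mul, Module.End.mul_apply]
  · refine Units.ext (LinearMap.ext fun f => Representation.IntertwiningMap.ext
      (LinearMap.ext fun v => ?_))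
    rw [map_one, Units.val_one, Module.End.one_apply, hYv, hYl]
    refine (Representation.IntertwiningMap.isIntertwining _ _ f ⟨n, hn⟩ _).symm.trans ?_
    rw [← D.X_coe ⟨n, hn⟩, ← Module.End.mul_apply, Units.mul_inv, Module.End.one_apply]
    rfl
  · -- irreducibility
    rw [or_iff_not_imp_left]
    intro hU0
    obtain ⟨hnt, hi⟩ := Char.isIrreducible_iff.1 hσ
    haveI : Module.Free ℂ U := Module.Free.of_divisionRing ℂ U
    let b := Module.finBasis ℂ U
    let L : (Fin (finrank ℂ U) → Fin D.d → ℂ) →ₗ[ℂ] (Fin m → ℂ) :=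
      ∑ i, (b i : Representation.IntertwiningMap D.ρ σN).toLinearMap ∘ₗ LinearMap.proj i
    have hfL : ∀ f ∈ U, ∀ v, f.toLinearMap v ∈ LinearMap.range L := by
      intro f hf v
      obtain ⟨c, hc⟩ : ∃ c : Fin (finrank ℂ U) → ℂ, ∑ i, c i • b i = (⟨f, hf⟩ : U) :=
        ⟨fun i => b.repr ⟨f, hf⟩ i, b.sum_repr _⟩
      have hc' := congrArg Subtype.val hc
      simp only [AddSubmonoidClass.coe_finsetSum, Submodule.coe_smul] at hc'
      let ev : Representation.IntertwiningMap D.ρ σN →ₗ[ℂ] (Fin m → ℂ) :=
        { toFun := fun f => f.toLinearMap v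
          map_add' := fun _ _ => rfl
          map_smul' := fun _ _ => rfl }
      refine ⟨fun i => c i • v, ?_⟩
      show _ = ev f
      rw [← hc', map_sum]
      simp [L, ev]
    have htop : LinearMap.range L = ⊤ := by
      refine (hi _ fun g v hv => ?_).resolve_left fun hbot => hU0 ?_
      · obtain ⟨w, rfl⟩ := hv
        simp only [L, LinearMap.sum_apply, LinearMap.comp_apply, LinearMap.proj_apply, map_sum]
        refine Submodule.sum_mem _ fun i _ => ?_
        have h1 : σ g ((b i : Representation.IntertwiningMap D.ρ σN).toLinearMap (w i)) =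
            (Yl g (b i)).toLinearMap ((D.X g : EndU D.d).1 (w i)) := by
          rw [hYl, ← Module.End.mul_apply ((D.X g)⁻¹ : EndU D.d).1, Units.inv_mul,
            Module.End.one_apply]
        rw [h1]
        exact hfL _ (hYv g ▸ hU g _ (b i).2) _
      · rw [eq_bot_iff]
        intro f hf
        rw [Submodule.mem_bot]
        refine Representation.IntertwiningMap.ext (LinearMap.ext fun v => ?_)
        have h1 := hfL f hf v
        rw [hbot, Submodule.mem_bot] at h1
        simpa using h1
    have hdim : m ≤ finrank ℂ U * D.d := by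
      have h1 := LinearMap.finrank_range_le L
      rw [htop, finrank_top] at h1
      simpa [Module.finrank_pi_fintype] using h1
    have hm : m = e * D.d := by
      have h1 := h 1
      rw [D.θ_one, OneMemClass.coe_one, σ.char_one, Module.finrank_fin_fun] at h1
      exact_mod_cast h1
    refine Submodule.eq_top_of_finrank_eq (le_antisymm (Submodule.finrank_le U) ?_)
    rw [hM]
    exact Nat.le_of_mul_le_mul_right (hm ▸ hdim) D.d_pos

end Isotypic

end Cfsg.Agent.ProjExt
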