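import Mathlib.GroupTheory.Index
import Mathlib.GroupTheory.SpecificGroups.Cyclic
import Mathlib.GroupTheory.QuotientGroup.Basic
import Mathlib.GroupTheory.GroupAction.Quotient
import Mathlib.Algebra.BigOperators.Group.Finset.Basic
import Mathlib.RingTheory.Int.Basic
import Mathlib.Tactic.Group
import Mathlib.GroupTheory.Archimedean

/-!
Two-cocycles on a group that are trivial on a normal subgroup, with values in a commutative group:
splitting on subgroups, the transfer bound on the exponent, and the cyclic case.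
-/

namespace Cfsg.Agent.ProjExt

variable {G : Type*} [Group G] {M : Type*} [CommGroup M] {N P : Subgroup G}

/-- A two-cocycle which is trivial as soon as one argument lies in `N`. -/
structure IsCocycle (N : Subgroup G) (f : G → G → M) : Prop where
  assoc : ∀ a b c, f a b * f (a * b) c = f a (b * c) * f b c
  left_one : ∀ n ∈ N, ∀ g, f n g = 1
  right_one : ∀ g, ∀ n ∈ N, f g n = 1

/-- The cocycle is the coboundary, on `P`, of a function equal to one on `N`. -/
def Splits (N P : Subgroup G) (f : G → G → M) : Prop :=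
  ∃ β : G → M, (∀ n ∈ N, β n = 1) ∧ ∀ g ∈ P, ∀ h ∈ P, f g h = β g * β h * (β (g * h))⁻¹

theorem Splits.mul {f f' : G → G → M} (h : Splits N P f) (h' : Splits N P f') :
    Splits N P (fun a b => f a b * f' a b) := by
  obtain ⟨β, hβ1, hβ⟩ := h
  obtain ⟨γ, hγ1, hγ⟩ := h'
  refine ⟨fun g => β g * γ g, fun n hn => by simp [hβ1 n hn, hγ1 n hn], fun a ha b hb => ?_⟩
  simp only
  rw [hβ a ha b hb, hγ a ha b hb, mul_inv, mul_mul_mul_comm, mul_mul_mul_comm (β a)]

theorem Splits.inv {f : G → G → M} (h : Splits N P f) : Splits N P (fun a b => (f a b)⁻¹) := by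
  obtain ⟨β, hβ1, hβ⟩ := h
  refine ⟨fun g => (β g)⁻¹, fun n hn => by simp [hβ1 n hn], fun a ha b hb => ?_⟩
  simp only
  rw [hβ a ha b hb, mul_inv, mul_inv]

/-- The exponents at which the cocycle splits. -/
def splitExp (N P : Subgroup G) (f : G → G → M) : AddSubgroup ℤ where
  carrier := {m | Splits N P fun a b => f a b ^ m}
  zero_mem' := ⟨fun _ => 1, fun _ _ => rfl, fun _ _ _ _ => by simp⟩
  add_mem' {a b} ha hb := by
    have := Splits.mul ha hb
    simpa only [Set.mem_ofPred_eq, zpow_add] using this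
  neg_mem' {a} ha := by
    have := Splits.inv ha
    simpa only [Set.mem_ofPred_eq, zpow_neg] using this

theorem mem_splitExp {f : G → G → M} {m : ℤ} :
    m ∈ splitExp N P f ↔ Splits N P fun a b => f a b ^ m := Iff.rfl

theorem one_mem_splitExp {f : G → G → M} : (1 : ℤ) ∈ splitExp N P f ↔ Splits N P f := by
  simp [mem_splitExp]

/-- If no prime divides all exponents in a subset, the cocycle splits. -/
theorem splits_of_forall_prime {f : G → G → M} {a : ℕ} (ha : (a : ℤ) ∈ splitExp N P f)
    (ha0 : a ≠ 0)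
    (h : ∀ p : ℕ, p.Prime → p ∣ a → ∃ b : ℕ, (b : ℤ) ∈ splitExp N P f ∧ ¬ p ∣ b) :
    Splits N P f := by
  rw [← one_mem_splitExp]
  obtain ⟨d, hd⟩ := Int.subgroup_cyclic (splitExp N P f)
  have hdvd : ∀ x ∈ splitExp N P f, d ∣ x := by
    intro x hx
    rw [hd, AddSubgroup.mem_closure_singleton] at hx
    obtain ⟨k, rfl⟩ := hx
    exact ⟨k, by simp [mul_comm]⟩
  have hd1 : d.natAbs = 1 := by
    by_contra hne
    obtain ⟨p, hp, hpd⟩ := Nat.exists_prime_and_dvd hne
    obtain ⟨b, hb, hpb⟩ := h p hp (hpd.trans (Int.natAbs_dvd_natAbs.2 (hdvd _ ha)))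
    exact hpb (hpd.trans (Int.natAbs_dvd_natAbs.2 (hdvd _ hb)))
  have hdmem : d ∈ splitExp N P f := hd ▸ AddSubgroup.subset_closure rfl
  rcases Int.natAbs_eq d with h' | h' <;> rw [hd1] at h'
  · simpa [h'] using hdmem
  · simpa [h'] using neg_mem hdmem

theorem splits_of_coprime {f : G → G → M} {a b : ℕ} (ha : (a : ℤ) ∈ splitExp N P f)
    (hb : (b : ℤ) ∈ splitExp N P f) (ha0 : a ≠ 0) (hab : Nat.Coprime a b) : Splits N P f :=
  splits_of_forall_prime ha ha0 fun _ hp hpa =>
    ⟨b, hb, fun hpb => hp.one_lt.ne' (Nat.eq_one_of_dvd_coprimes hab hpa hpb)⟩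

namespace IsCocycle

variable {f : G → G → M}

theorem zpow (hf : IsCocycle N f) (m : ℤ) : IsCocycle N fun a b => f a b ^ m where
  assoc a b c := by rw [← mul_zpow, ← mul_zpow, hf.assoc]
  left_one n hn g := by rw [hf.left_one n hn, one_zpow]
  right_one g n hn := by rw [hf.right_one g n hn, one_zpow]

theorem splits_self (hf : IsCocycle N f) : Splits N N f :=
  ⟨fun _ => 1, fun _ _ => rfl, fun g hg h _ => by simp [hf.left_one g hg h]⟩

theorem congr_mk [N.Normal] (hf : IsCocycle N f) {a a' b b' : G}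
    (ha : (QuotientGroup.mk a : G ⧸ N) = QuotientGroup.mk a')
    (hb : (QuotientGroup.mk b : G ⧸ N) = QuotientGroup.mk b') : f a b = f a' b' := by
  have hright : ∀ a b n, n ∈ N → f a (b * n) = f a b := fun a b n hn => by
    have := hf.assoc a b n
    rwa [hf.right_one _ n hn, hf.right_one _ n hn, mul_one, mul_one, eq_comm] at this
  have hleft : ∀ a b n, n ∈ N → f (a * n) b = f a b := fun a b n hn => by
    have := hf.assoc a n b
    rw [hf.right_one _ n hn, hf.left_one n hn, one_mul, mul_one] at this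
    rw [this, show n * b = b * (b⁻¹ * n * b) by group]
    exact hright _ _ _ (by simpa using (inferInstance : N.Normal).conj_mem n hn b⁻¹)
  rw [QuotientGroup.eq] at ha hb
  calc f a b = f a (b * (b⁻¹ * b')) := (hright _ _ _ hb).symm
    _ = f (a * (a⁻¹ * a')) (b * (b⁻¹ * b')) := (hleft _ _ _ ha).symm
    _ = f a' b' := by rw [mul_inv_cancel_left, mul_inv_cancel_left]

/-- Transfer: if the cocycle splits on `P` then its power with exponent the index of `P` splits. -/
theorem splits_index [Finite G] [N.Normal] (hf : IsCocycle N f) (hNP : N ≤ P)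
    (h : Splits N P f) : (P.index : ℤ) ∈ splitExp N ⊤ f := by
  classical
  obtain ⟨β, hβ1, hβ⟩ := h
  have : Fintype (G ⧸ P) := Fintype.ofFinite _
  let t : G ⧸ P → G := fun q => q.out
  let r : G → G ⧸ P → G := fun g q => (t (g • q))⁻¹ * g * t q
  have htmk : ∀ q, (QuotientGroup.mk (t q) : G ⧸ P) = q := fun q => q.out_eq
  have hr : ∀ g q, r g q ∈ P := fun g q => by
    have h1 : (QuotientGroup.mk (t (g • q)) : G ⧸ P) = QuotientGroup.mk (g * t q) := by
      rw [htmk, ← smul_eq_mul, ← MulAction.Quotient.smul_mk, htmk]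
    rw [QuotientGroup.eq] at h1
    simpa [r, mul_assoc] using h1
  have hmul : ∀ g q, g * t q = t (g • q) * r g q := fun g q => by simp [r, mul_assoc]
  let c : G → G ⧸ P → M := fun g q => f g (t q) * (f (t (g • q)) (r g q))⁻¹ * β (r g q)
  have key : ∀ g h q, f g h = c g (h • q) * c h q * (c (g * h) q)⁻¹ := by
    intro g h q
    have hrr : r (g * h) q = r g (h • q) * r h q := by
      simp [r, mul_smul, mul_assoc]
    have hb := hβ _ (hr g (h • q)) _ (hr h q)
    rw [← hrr] at hb
    have e1 := hf.assoc g h (t q)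
    rw [hmul h q] at e1
    have e2 := hf.assoc g (t (h • q)) (r h q)
    rw [hmul g (h • q)] at e2
    have e3 := hf.assoc (t (g • h • q)) (r g (h • q)) (r h q)
    rw [← hrr] at e3
    simp only [c, mul_smul]
    generalize f g h = A, f (g * h) (t q) = B, f g (t (h • q) * r h q) = C, f h (t q) = D,
      f g (t (h • q)) = E, f (t (g • h • q)) (r (g * h) q) = F, f (t (h • q)) (r h q) = I,
      f (t (g • h • q)) (r g (h • q)) = J, f (t (g • h • q) * r g (h • q)) (r h q) = K,
      f (r g (h • q)) (r h q) = L, β (r g (h • q)) = U, β (r h q) = V,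
      β (r (g * h) q) = W at *
    have hA : A = C * D * B⁻¹ := by rw [← e1, mul_inv_cancel_right]
    have hC : C = E * K * I⁻¹ := by rw [e2, mul_inv_cancel_right]
    have hK : K = F * L * J⁻¹ := by rw [← e3, mul_comm J K, mul_inv_cancel_right]
    rw [hA, hC, hK, hb]
    simp [mul_comm, mul_left_comm, mul_assoc]
  refine ⟨fun g => ∏ q, c g q, fun n hn => Finset.prod_eq_one fun q _ => ?_, fun g _ h _ => ?_⟩
  · have hn' : (t q)⁻¹ * n * t q ∈ N := by
      simpa using (inferInstance : N.Normal).conj_mem n hn (t q)⁻¹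
    have hq : n • q = q := by
      conv_rhs => rw [← htmk q]
      conv_lhs => rw [← htmk q]
      rw [MulAction.Quotient.smul_mk, smul_eq_mul, QuotientGroup.eq]
      simpa [mul_assoc] using inv_mem (hNP hn')
    have hr' : r n q ∈ N := by simpa [r, hq] using hn'
    simp [c, hf.left_one n hn, hf.right_one _ _ hr', hβ1 _ hr']
  · show f g h ^ (P.index : ℤ) = (∏ q, c g q) * (∏ q, c h q) * (∏ q, c (g * h) q)⁻¹
    rw [zpow_natCast, Subgroup.index_eq_card, Nat.card_eq_fintype_card, ← Finset.card_univ,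
      ← Finset.prod_const, Finset.prod_congr rfl fun q _ => key g h q, Finset.prod_mul_distrib,
      Finset.prod_mul_distrib, Finset.prod_inv_distrib]
    congr 2
    exact Equiv.prod_comp (MulAction.toPerm h) (fun q => c g q)

theorem index_mem_splitExp [Finite G] [N.Normal] (hf : IsCocycle N f) :
    (N.index : ℤ) ∈ splitExp N ⊤ f := hf.splits_index le_rfl hf.splits_self

theorem splits_mono_exp [Finite G] [N.Normal] (hf : IsCocycle N f) (hNP : N ≤ P) {m : ℕ}
    (h : (m : ℤ) ∈ splitExp N P f) : ((m * P.index : ℕ) : ℤ) ∈ splitExp N ⊤ f := by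
  have h1 := (hf.zpow (m : ℤ)).splits_index hNP h
  rw [mem_splitExp] at h1 ⊢
  simpa only [← zpow_mul, Nat.cast_mul] using h1

/-- A cocycle over a cyclic quotient splits when roots can be extracted. -/
theorem splits_of_cyclic [Finite G] [N.Normal] (hf : IsCocycle N f) (hcyc : IsCyclic (G ⧸ N))
    (hroot : ∀ (y : M) (m : ℕ), 0 < m → ∃ s : M, s ^ m = y) : Splits N ⊤ f := by
  classical
  obtain ⟨u, hu⟩ := IsCyclic.exists_generator (α := G ⧸ N)
  obtain ⟨x, rfl⟩ := QuotientGroup.mk_surjective u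
  set m := orderOf (QuotientGroup.mk x : G ⧸ N) with hm
  have hxm : x ^ m ∈ N := by
    rw [← QuotientGroup.eq_one_iff, QuotientGroup.mk_pow, hm, pow_orderOf_eq_one]
  obtain ⟨s, hs⟩ := hroot (∏ k ∈ Finset.range m, f (x ^ k) x)⁻¹ m (orderOf_pos _)
  let e : ℕ → M := fun i => (∏ k ∈ Finset.range i, f (x ^ k) x) * s ^ i
  have e0 : e 0 = 1 := by simp [e]
  have esucc : ∀ i, e (i + 1) = e i * f (x ^ i) x * s := fun i => by
    simp [e, Finset.prod_range_succ, pow_succ, mul_comm, mul_left_comm, mul_assoc]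
  have eadd : ∀ i j, e (i + j) = e i * e j * f (x ^ i) (x ^ j) := by
    intro i j
    induction j with
    | zero => simp [e0, hf.right_one _ 1 (one_mem N)]
    | succ j ih =>
      rw [← add_assoc, esucc, esucc, ih, pow_add]
      have ha := hf.assoc (x ^ i) (x ^ j) x
      rw [← pow_succ] at ha
      calc e i * e j * f (x ^ i) (x ^ j) * f (x ^ i * x ^ j) x * s
          = e i * e j * (f (x ^ i) (x ^ j) * f (x ^ i * x ^ j) x) * s := by
            rw [mul_assoc (e i * e j)]
        _ = e i * (e j * f (x ^ j) x * s) * f (x ^ i) (x ^ (j + 1)) := by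
            rw [ha]; simp [mul_comm, mul_left_comm, mul_assoc]
  have em : e m = 1 := by simp [e, hs]
  have emul : ∀ k, e (m * k) = 1 := fun k => by
    induction k with
    | zero => simpa using e0
    | succ k ih =>
      rw [Nat.mul_succ, eadd, ih, em, hf.right_one _ _ hxm, one_mul, one_mul]
  have emod : ∀ i, e i = e (i % m) := fun i => by
    conv_lhs => rw [← Nat.div_add_mod i m]
    rw [eadd, emul, one_mul, hf.left_one _ (by rw [pow_mul]; exact pow_mem hxm _), mul_one]
  have econg : ∀ i j, (QuotientGroup.mk x : G ⧸ N) ^ i = QuotientGroup.mk x ^ j → e i = e j :=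
    fun i j h => by rw [emod i, emod j, pow_eq_pow_iff_modEq.1 h]
  have hex : ∀ g : G, ∃ i : ℕ, (QuotientGroup.mk x : G ⧸ N) ^ i = QuotientGroup.mk g := by
    intro g
    obtain ⟨i, hi⟩ := (isOfFinOrder_of_finite (QuotientGroup.mk x : G ⧸ N)).mem_zpowers_iff_mem_range_orderOf.1 (hu (QuotientGroup.mk g)) |> Finset.mem_image.1
    exact ⟨i, hi.2⟩
  choose i hi using hex
  refine ⟨fun g => (e (i g))⁻¹, fun n hn => ?_, fun g _ h _ => ?_⟩
  · have : e (i n) = e 0 := econg _ _ (by rw [hi, pow_zero, (QuotientGroup.eq_one_iff n).2 hn])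
    simp [this, e0]
  · have h1 : e (i (g * h)) = e (i g + i h) :=
      econg _ _ (by rw [hi, pow_add, hi, hi, QuotientGroup.mk_mul])
    have h2 : f g h = f (x ^ i g) (x ^ i h) :=
      hf.congr_mk (by rw [QuotientGroup.mk_pow, hi]) (by rw [QuotientGroup.mk_pow, hi])
    show f g h = (e (i g))⁻¹ * (e (i h))⁻¹ * (e (i (g * h)))⁻¹⁻¹
    rw [h1, eadd, inv_inv, h2]
    simp [mul_comm, mul_left_comm, mul_assoc]

end IsCocycle

end Cfsg.Agent.ProjExt
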