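import Mathlib.Data.ZMod.QuotientGroup
import Mathlib.Tactic.LinearCombination
import Mathlib.Tactic.Ring
import Mathlib.GroupTheory.SpecificGroups.Cyclic
import Cfsg.Prelude.Def_KGroupFacts

/-!
Small Schur multipliers through stem extensions.

* `hasCyclicSchurMultiplier_of` / `hasCyclicSchurMultiplier_one` : criteria.
* `Heis` : the central extension by a bilinear cocycle given by two homomorphisms to `ZMod r`.
* `commutator_le_zpowers` : two generators modulo the centre.
-/

set_option autoImplicit false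

namespace Cfsg.Agent.ProjExt.Stem

open Subgroup
open scoped commutatorElement

universe u v

/-- A cyclic subgroup of order dividing `n` is an image of `ZMod n`. -/
theorem exists_surjective_zmod {Γ : Type u} [Group Γ] (K : Subgroup Γ) (n : ℕ) {z : Γ}
    (hz : z ∈ K) (hK : K ≤ zpowers z) (hzn : z ^ n = 1) :
    ∃ π : Multiplicative (ZMod n) →* K, Function.Surjective π := by
  let f : ℤ →+ Additive K := zmultiplesHom _ (Additive.ofMul (⟨z, hz⟩ : K))
  have hf : f n = 0 := by
    show (n : ℤ) • Additive.ofMul (⟨z, hz⟩ : K) = 0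
    rw [natCast_zsmul, ← ofMul_pow, ofMul_eq_zero]
    exact Subtype.ext hzn
  refine ⟨AddMonoidHom.toMultiplicativeLeft (ZMod.lift n ⟨f, hf⟩), fun y => ?_⟩
  obtain ⟨j, hj⟩ := hK y.2
  refine ⟨Multiplicative.ofAdd (j : ZMod n), Subtype.ext ?_⟩
  show ((Additive.toMul (ZMod.lift n ⟨f, hf⟩ (j : ZMod n)) : K) : Γ) = y
  rw [ZMod.lift_coe]
  show ((Additive.toMul (j • Additive.ofMul (⟨z, hz⟩ : K)) : K) : Γ) = y
  rw [← ofMul_zpow, toMul_ofMul, SubgroupClass.coe_zpow]
  exact hj

/-- The criterion for a cyclic multiplier of order `n`. -/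
theorem hasCyclicSchurMultiplier_of {G : Type u} [Group G] {n : ℕ}
    {Γ₀ : Type u} [Group Γ₀] [Finite Γ₀] (σ₀ : Γ₀ →* G) (h₀ : Cfsg.IsStemExtension σ₀)
    (e : σ₀.ker ≃* Multiplicative (ZMod n))
    (h : ∀ (Γ : Type u) [Group Γ] [Finite Γ] (σ : Γ →* G), Cfsg.IsStemExtension σ →
      ∃ z ∈ σ.ker, σ.ker ≤ zpowers z ∧ z ^ n = 1) :
    Cfsg.HasCyclicSchurMultiplier G n :=
  ⟨⟨Γ₀, inferInstance, inferInstance, σ₀, h₀, ⟨e⟩⟩, fun Γ _ _ σ hσ => by
    obtain ⟨z, hz, hK, hzn⟩ := h Γ σ hσ
    exact exists_surjective_zmod σ.ker n hz hK hzn⟩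

/-- The criterion for a trivial multiplier. -/
theorem hasCyclicSchurMultiplier_one {G : Type u} [Group G] [Finite G]
    (h : ∀ (Γ : Type u) [Group Γ] [Finite Γ] (σ : Γ →* G), Cfsg.IsStemExtension σ → σ.ker = ⊥) :
    Cfsg.HasCyclicSchurMultiplier G 1 := by
  have hker : (MonoidHom.id G).ker = ⊥ := MonoidHom.ker_id
  have : Subsingleton (MonoidHom.id G).ker := by rw [hker]; infer_instance
  have : Unique (Multiplicative (ZMod 1)) := uniqueOfSubsingleton 1
  have : Unique (MonoidHom.id G).ker := uniqueOfSubsingleton 1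
  refine hasCyclicSchurMultiplier_of (MonoidHom.id G)
    ⟨Function.surjective_id, hker.le.trans bot_le, hker.le.trans bot_le⟩ MulEquiv.ofUnique
    fun Γ _ _ σ hσ => ⟨1, one_mem _, ?_, one_pow _⟩
  rw [h Γ σ hσ]; exact bot_le

/-- The kernel is trivial when the multiplier is. -/
theorem ker_eq_bot_of_trivial {G : Type u} [Group G] (h : Cfsg.HasCyclicSchurMultiplier G 1)
    (Γ : Type u) [Group Γ] [Finite Γ] (σ : Γ →* G) (hσ : Cfsg.IsStemExtension σ) : σ.ker = ⊥ := by
  obtain ⟨π, hπ⟩ := h.2 Γ σ hσ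
  rw [eq_bot_iff]
  intro x hx
  obtain ⟨m, hm⟩ := hπ ⟨x, hx⟩
  rw [Subsingleton.elim m 1, map_one] at hm
  exact (congrArg Subtype.val hm).symm

/-- Modulo central elements a group with two generators has its derived subgroup normally generated
by their commutator; if that commutator spans a subgroup stable under both generators it is the
whole derived subgroup. -/
theorem commutator_le_zpowers {Γ : Type u} [Group Γ] {a b c : Γ}
    (hgen : closure ({a, b} : Set Γ) ⊔ center Γ = ⊤)
    (hc : ∃ k ∈ zpowers c, b * a * b⁻¹ * a⁻¹ = k)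
    (ha : a * c * a⁻¹ ∈ zpowers c) (ha' : a⁻¹ * c * a ∈ zpowers c)
    (hb : b * c * b⁻¹ ∈ zpowers c) (hb' : b⁻¹ * c * b ∈ zpowers c) :
    commutator Γ ≤ zpowers c := by
  have hnorm : ∀ {g : Γ}, g * c * g⁻¹ ∈ zpowers c → g⁻¹ * c * g ∈ zpowers c →
      g ∈ normalizer ((zpowers c : Subgroup Γ) : Set Γ) := by
    intro g h1 h2
    rw [mem_normalizer_iff]
    intro y
    constructor
    · rintro ⟨j, rfl⟩
      show g * c ^ j * g⁻¹ ∈ zpowers c
      rw [← conj_zpow]
      exact zpow_mem h1 j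
    · rintro ⟨j, hj⟩
      have h3 : y = (g⁻¹ * c * g) ^ j := by
        rw [show g⁻¹ * c * g = g⁻¹ * c * g⁻¹⁻¹ by rw [inv_inv], conj_zpow, inv_inv]
        rw [show c ^ j = g * y * g⁻¹ from hj]
        group
      rw [h3]
      exact zpow_mem h2 j
  have hn : (zpowers c).Normal := by
    rw [← normalizer_eq_top_iff, eq_top_iff, ← hgen, sup_le_iff, closure_le]
    refine ⟨?_, center_le_normalizer _⟩
    rintro g (rfl | rfl)
    · exact hnorm ha ha'
    · exact hnorm hb hb'
  rw [_root_.commutator_def]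
  have hab : Commute (QuotientGroup.mk' (zpowers c) b) (QuotientGroup.mk' (zpowers c) a) := by
    obtain ⟨k, hk, he⟩ := hc
    rw [← commutatorElement_eq_one_iff_commute, ← map_commutatorElement, QuotientGroup.mk'_apply,
      QuotientGroup.eq_one_iff, commutatorElement_def, he]
    exact hk
  rw [commutator_le]
  intro x _ y _
  rw [← QuotientGroup.eq_one_iff]
  show QuotientGroup.mk' (zpowers c) ⁅x, y⁆ = 1
  rw [map_commutatorElement, commutatorElement_eq_one_iff_commute]
  set f := QuotientGroup.mk' (zpowers c)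
  have key : ∀ (T : Γ ⧸ zpowers c), (∀ g ∈ ({a, b} : Set Γ), Commute T (f g)) →
      (∀ g ∈ center Γ, Commute T (f g)) → ∀ z, Commute T (f z) := by
    intro T h1 h2 z
    have hle : closure ({a, b} : Set Γ) ⊔ center Γ ≤ (centralizer ({T} : Set (Γ ⧸ zpowers c))).comap f := by
      refine sup_le ((closure_le _).mpr fun g hg => ?_) fun g hg => ?_
      · exact mem_centralizer_singleton_iff.mpr (h1 g hg).eq.symm
      · exact mem_centralizer_singleton_iff.mpr (h2 g hg).eq.symm
    rw [hgen] at hle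
    exact (mem_centralizer_singleton_iff.mp (hle (mem_top z))).symm
  have hcen : ∀ g ∈ center Γ, ∀ z, Commute (f z) (f g) := fun g hg z =>
    (show Commute z g from mem_center_iff.mp hg z).map f
  refine key (f x) (fun g hg => (key (f g) (fun g' hg' => ?_) (fun g' hg' => hcen g' hg' g) x).symm)
    (fun g hg => hcen g hg x) y
  rcases hg with rfl | rfl <;> rcases hg' with rfl | rfl
  · exact Commute.refl _
  · exact hab.symm
  · exact hab
  · exact Commute.refl _

/-- A group surjecting with central kernel is generated by lifts of generators and the centre. -/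
theorem closure_sup_center_eq_top {Γ : Type u} {G : Type v} [Group Γ] [Group G] (σ : Γ →* G)
    (hσ : σ.ker ≤ center Γ) {S : Set Γ} (hS : closure (σ '' S) = ⊤) :
    closure S ⊔ center Γ = ⊤ := by
  rw [eq_top_iff]
  intro x _
  have h : σ x ∈ (closure S).map σ := by rw [MonoidHom.map_closure, hS]; exact mem_top _
  obtain ⟨y, hy, hxy⟩ := h
  rw [show x = y * (y⁻¹ * x) by group]
  refine mul_mem_sup hy (hσ ?_)
  rw [MonoidHom.mem_ker, map_mul, map_inv, hxy, inv_mul_cancel]

/-! ### The bilinear extension -/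

/-- The central extension of `G` by `ZMod r` with cocycle `φ g * ψ h`. -/
@[ext] structure Heis {G : Type u} [CommGroup G] {r : ℕ} (φ ψ : G →* Multiplicative (ZMod r)) where
  /-- the image in `G` -/
  g : G
  /-- the central coordinate -/
  z : ZMod r

namespace Heis

variable {G : Type u} [CommGroup G] {r : ℕ} {φ ψ : G →* Multiplicative (ZMod r)}

instance : Group (Heis φ ψ) where
  mul x y := ⟨x.g * y.g, x.z + y.z + (φ x.g).toAdd * (ψ y.g).toAdd⟩
  one := ⟨1, 0⟩
  inv x := ⟨x.g⁻¹, -x.z + (φ x.g).toAdd * (ψ x.g).toAdd⟩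
  mul_assoc x y w := by
    refine Heis.ext (mul_assoc _ _ _) ?_
    show x.z + y.z + _ + w.z + (φ (x.g * y.g)).toAdd * (ψ w.g).toAdd =
      x.z + (y.z + w.z + _) + (φ x.g).toAdd * (ψ (y.g * w.g)).toAdd
    simp only [map_mul, toAdd_mul]
    ring
  one_mul x := by
    refine Heis.ext (one_mul _) ?_
    show 0 + x.z + (φ 1).toAdd * (ψ x.g).toAdd = x.z
    simp
  mul_one x := by
    refine Heis.ext (mul_one _) ?_
    show x.z + 0 + (φ x.g).toAdd * (ψ 1).toAdd = x.z
    simp
  inv_mul_cancel x := by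
    refine Heis.ext (inv_mul_cancel _) ?_
    show -x.z + (φ x.g).toAdd * (ψ x.g).toAdd + x.z + (φ x.g⁻¹).toAdd * (ψ x.g).toAdd = 0
    simp only [map_inv, toAdd_inv]
    ring

instance [Finite G] [NeZero r] : Finite (Heis φ ψ) :=
  Finite.of_equiv (G × ZMod r)
    ⟨fun p => ⟨p.1, p.2⟩, fun x => (x.g, x.z), fun _ => rfl, fun _ => rfl⟩

/-- The projection to `G`. -/
def proj : Heis φ ψ →* G where
  toFun x := x.g
  map_one' := rfl
  map_mul' _ _ := rfl

/-- The kernel of the projection. -/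
def kerEquiv : (proj (φ := φ) (ψ := ψ)).ker ≃* Multiplicative (ZMod r) where
  toFun x := Multiplicative.ofAdd x.1.z
  invFun z := ⟨⟨1, z.toAdd⟩, rfl⟩
  left_inv x := Subtype.ext (Heis.ext (x.2 : x.1.g = 1).symm rfl)
  right_inv _ := rfl
  map_mul' x y := by
    apply Multiplicative.toAdd.injective
    show x.1.z + y.1.z + (φ x.1.g).toAdd * (ψ y.1.g).toAdd = x.1.z + y.1.z
    rw [show x.1.g = 1 from x.2]
    simp

/-- If two elements have determinant one, the extension is a stem extension. -/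
theorem isStemExtension {a b : G}
    (hab : (φ a).toAdd * (ψ b).toAdd - (φ b).toAdd * (ψ a).toAdd = 1) :
    Cfsg.IsStemExtension (proj (φ := φ) (ψ := ψ)) := by
  have hcen : ∀ s : ZMod r, ∀ x : Heis φ ψ, x * ⟨1, s⟩ = ⟨1, s⟩ * x := by
    intro s x
    refine Heis.ext ((mul_one _).trans (one_mul _).symm) ?_
    show x.z + s + (φ x.g).toAdd * (ψ 1).toAdd = s + x.z + (φ 1).toAdd * (ψ x.g).toAdd
    simp [add_comm]
  have hmem : ∀ x ∈ (proj (φ := φ) (ψ := ψ)).ker, x = ⟨1, x.z⟩ := fun x hx =>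
    Heis.ext (show x.g = 1 from hx) rfl
  refine ⟨fun g => ⟨⟨g, 0⟩, rfl⟩, fun x hx => ?_, fun x hx => ?_⟩
  · rw [mem_center_iff, hmem x hx]
    exact hcen _
  · set c : Heis φ ψ := ⟨1, 1⟩
    have hc : c ∈ commutator (Heis φ ψ) := by
      have e : c = ⁅(⟨a, 0⟩ : Heis φ ψ), (⟨b, 0⟩ : Heis φ ψ)⁆ := by
        rw [commutatorElement_def, eq_mul_inv_iff_mul_eq, eq_mul_inv_iff_mul_eq]
        refine Heis.ext (show 1 * b * a = a * b by rw [one_mul, mul_comm]) ?_
        show (1 + 0 + (φ 1).toAdd * (ψ b).toAdd) + 0 + (φ (1 * b)).toAdd * (ψ a).toAdd =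
          0 + 0 + (φ a).toAdd * (ψ b).toAdd
        simp only [map_one, toAdd_one, one_mul]
        linear_combination -hab
      rw [e, _root_.commutator_def]
      exact commutator_mem_commutator (mem_top _) (mem_top _)
    have hpow : ∀ j : ℕ, c ^ j = ⟨1, (j : ZMod r)⟩ := by
      intro j
      induction j with
      | zero => rw [pow_zero, Nat.cast_zero]; rfl
      | succ j ih =>
        rw [pow_succ, ih]
        refine Heis.ext (one_mul _) ?_
        show (j : ZMod r) + 1 + (φ 1).toAdd * (ψ 1).toAdd = ((j + 1 : ℕ) : ZMod r)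
        simp
    obtain ⟨j, hj⟩ := ZMod.intCast_surjective x.z
    rw [hmem x hx, ← hj]
    have : (⟨1, (j : ZMod r)⟩ : Heis φ ψ) = c ^ j := by
      obtain ⟨k, rfl | rfl⟩ := Int.eq_nat_or_neg j
      · rw [zpow_natCast, hpow, Int.cast_natCast]
      · rw [zpow_neg, zpow_natCast, hpow, eq_comm, inv_eq_iff_mul_eq_one]
        refine Heis.ext (one_mul _) ?_
        show (k : ZMod r) + ((-(k : ℤ) : ℤ) : ZMod r) + (φ 1).toAdd * (ψ 1).toAdd = 0
        simp
    rw [this]
    exact zpow_mem hc j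

end Heis

end Cfsg.Agent.ProjExt.Stem
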