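import Cfsg.Agent.Char.Clifford
import Cfsg.Agent.Char.Induced
import Mathlib.GroupTheory.Sylow

/-!
An invariant irreducible character of a normal subgroup of `p`-power index has, on some
`p`-elementary supplement, an invariant constituent of multiplicity prime to `p`; this is derived
from the local induction statement for the constant function.
-/

namespace Cfsg.Agent.ProjExt

open scoped ComplexConjugate

universe u

/-- An invariant integer weighting of a set with a `p`-group action whose values at fixed points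
are divisible by `p` has total divisible by `p`. -/
theorem dvd_sum_of_fixed {p : ℕ} [Fact p.Prime] {P : Type*} [Group P] (hP : IsPGroup p P)
    {X : Type*} [Fintype X] [MulAction P X] (w : X → ℕ) (hw : ∀ (g : P) x, w (g • x) = w x)
    (hfix : ∀ x, (∀ g : P, g • x = x) → p ∣ w x) : p ∣ ∑ x, w x := by
  classical
  rw [← Finset.sum_fiberwise_of_maps_to (g := w) (t := Finset.univ.image w)
    fun x _ => Finset.mem_image_of_mem w (Finset.mem_univ x)]
  refine Finset.dvd_sum fun v _ => ?_
  rw [Finset.sum_congr rfl (fun x hx => (Finset.mem_filter.1 hx).2), Finset.sum_const,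
    smul_eq_mul]
  by_cases hv : p ∣ v
  · exact dvd_mul_of_dvd_right hv _
  refine dvd_mul_of_dvd_left ?_ _
  let s : SubMulAction P X :=
    { carrier := {x | w x = v}, smul_mem' := fun g x (hx : w x = v) => (hw g x).trans hx }
  have hcard : (Finset.univ.filter fun x => w x = v).card = Nat.card s := by
    rw [← Fintype.card_subtype, ← Nat.card_eq_fintype_card]
    rfl
  rw [hcard, ← Nat.modEq_zero_iff_dvd]
  refine (hP.card_modEq_card_fixedPoints s).trans ?_
  haveI : IsEmpty (MulAction.fixedPoints P s) := by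
    refine ⟨fun x => hv ?_⟩
    have := hfix x.1.1 fun g => congrArg Subtype.val (MulAction.mem_fixedPoints.1 x.2 g)
    rwa [show w x.1.1 = v from x.1.2] at this
  rw [Nat.card_of_isEmpty]

open Char

variable {G : Type u} [Group G] [Fintype G]

theorem sum_indFun_mul_invariant {N : Subgroup G} [N.Normal] [Fintype N] (E : Subgroup G)
    [Fintype (N.subgroupOf E)] (φ : E → ℂ) (R : N → ℂ) (hR : ∀ g : G, conjFun g R = R) :
    (Nat.card E : ℂ) * ∑ n : N, indFun E φ n * R n =
      (Nat.card G : ℂ) * ∑ y : N.subgroupOf E,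
        φ y * R ⟨((y : E) : G), Subgroup.mem_subgroupOf.1 y.2⟩ := by
  classical
  have hconj : ∀ x : G, ∑ n : N, extendByZero E φ (x⁻¹ * n * x) * R n =
      ∑ n : N, extendByZero E φ n * R n := by
    intro x
    refine Fintype.sum_equiv (MulAut.conjNormal x⁻¹ : MulAut N).toEquiv _ _ fun n => ?_
    have h1 : R ((MulAut.conjNormal x⁻¹ : MulAut N) n) = R n := by
      rw [← congrFun (hR x) ((MulAut.conjNormal x⁻¹ : MulAut N) n), conjFun_apply]
      exact congrArg R (Subtype.ext (by simp [mul_assoc]))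
    show _ = extendByZero E φ (((MulAut.conjNormal x⁻¹ : MulAut N) n : N) : G) *
      R ((MulAut.conjNormal x⁻¹ : MulAut N) n)
    rw [h1]
    congr 2
    simp
  have hres : ∑ n : N, extendByZero E φ n * R n =
      ∑ y : N.subgroupOf E, φ y * R ⟨((y : E) : G), Subgroup.mem_subgroupOf.1 y.2⟩ := by
    refine (Finset.sum_of_injOn
      (fun y : N.subgroupOf E => (⟨((y : E) : G), Subgroup.mem_subgroupOf.1 y.2⟩ : N))
      ?_ ?_ ?_ ?_).symm
    · intro a _ b _ h
      simp only [Subtype.mk.injEq] at h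
      exact Subtype.ext (Subtype.ext h)
    · intro y _
      simp
    · intro n _ hn
      rw [extendByZero_of_not_mem, zero_mul]
      intro hmem
      exact hn ⟨⟨⟨n, hmem⟩, Subgroup.mem_subgroupOf.2 n.2⟩, Finset.mem_univ _, rfl⟩
    · intro y _
      rw [extendByZero_coe E φ y]
  have hE : (Nat.card E : ℂ) ≠ 0 := Nat.cast_ne_zero.2 Nat.card_pos.ne'
  simp only [indFun, Finset.sum_mul, Finset.mul_sum, ← mul_assoc, mul_inv_cancel₀ hE, one_mul]
  rw [Finset.sum_comm, Finset.sum_congr rfl fun x _ => (hconj x).trans hres, Finset.sum_const,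
    Finset.card_univ, nsmul_eq_mul, Nat.card_eq_fintype_card, Finset.mul_sum]
  simp only [mul_assoc]

theorem classInner_conjFun_right {H : Type u} [Group H] {M : Subgroup H} [M.Normal] [Fintype M]
    (g : H) (f α : M → ℂ) (hf : conjFun g f = f) :
    classInner f (conjFun g α) = classInner f α := by
  conv_lhs => rw [← hf]
  exact classInner_conjFun g f α

theorem classInner_mul_conjFun {H : Type u} [Group H] {M : Subgroup H} [M.Normal] [Fintype M]
    (g : H) (f h α : M → ℂ) (hf : conjFun g f = f) (hh : conjFun g h = h) :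
    classInner (f * conjFun g α) h = classInner (f * α) h := by
  conv_lhs => rw [← hf, ← hh]
  exact classInner_conjFun g (f * α) h

/-- The statement of the local induction theorem for the constant function. -/
def LocalInduction (p : ℕ) (G : Type u) [Group G] [Fintype G] : Prop :=
  ∃ (m : ℤ) (l : List ((E : Subgroup G) × ((E → ℂ) × ℤ))), ¬ (p : ℤ) ∣ m ∧
    (∀ t ∈ l, IsElementary p t.1 ∧ IsCharacter t.1 t.2.1) ∧
    (fun _ : G => (m : ℂ)) = (l.map fun t => (t.2.2 : ℂ) • indFun t.1 t.2.1).sum

theorem exists_elementary_constituent {p : ℕ} (hp : p.Prime) (hB : LocalInduction p G)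
    (N : Subgroup G) [N.Normal] [Fintype N] (hind : ∃ k : ℕ, N.index = p ^ k) {θ : N → ℂ}
    (hθ : IsIrrCharacter N θ) (hinv : ∀ g : G, conjFun g θ = θ) :
    ∃ (E : Subgroup G) (_ : Fintype (N.subgroupOf E)) (α : N.subgroupOf E → ℂ) (m : ℕ),
      IsElementary p E ∧ E ⊔ N = ⊤ ∧ IsIrrCharacter (N.subgroupOf E) α ∧
      (∀ g : E, conjFun g α = α) ∧ ¬ p ∣ m ∧
      classInner (fun y : N.subgroupOf E => θ ⟨((y : E) : G), Subgroup.mem_subgroupOf.1 y.2⟩) α =
        m := by
  classical
  have := Fact.mk hp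
  obtain ⟨m, l, hm, hl, hsum⟩ := hB
  obtain ⟨k, hk⟩ := hind
  let R : N → ℂ := fun n => θ n * conj (θ n)
  have hR : ∀ g : G, conjFun g R = R := fun g => by
    funext n
    simp only [R, conjFun_apply]
    rw [← conjFun_apply g θ n, hinv g]
  have hres : ∀ E : Subgroup G, IsCharacter (N.subgroupOf E)
      (fun y => θ ⟨((y : E) : G), Subgroup.mem_subgroupOf.1 y.2⟩) := fun E =>
    isCharacter_comp (MonoidHom.mk' (fun y : N.subgroupOf E =>
      (⟨((y : E) : G), Subgroup.mem_subgroupOf.1 y.2⟩ : N)) fun _ _ => rfl) (IsIrr.isCharacter hθ)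
  -- the contribution of one term
  have hterm : ∀ (E : Subgroup G) (φ : E → ℂ), IsCharacter E φ →
      ∃ J : ℕ, (∑ n : N, indFun E φ n * R n) = (Nat.card N : ℂ) * ((E ⊔ N).index : ℂ) * J ∧
        classInner (fun y : N.subgroupOf E =>
          φ y * θ ⟨((y : E) : G), Subgroup.mem_subgroupOf.1 y.2⟩)
          (fun y : N.subgroupOf E => θ ⟨((y : E) : G), Subgroup.mem_subgroupOf.1 y.2⟩) = J := by
    intro E φ hφ
    obtain ⟨J, hJ⟩ := classInner_isCharacter_eq_natCast
      (isCharacter_mul (isCharacter_res (N.subgroupOf E) hφ) (hres E)) (hres E)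
    refine ⟨J, ?_, hJ⟩
    have h1 := sum_indFun_mul_invariant E φ R hR
    have hQ : (Nat.card (N.subgroupOf E) : ℂ) ≠ 0 := Nat.cast_ne_zero.2 Nat.card_pos.ne'
    have h2 : ∑ y : N.subgroupOf E, φ y * R ⟨((y : E) : G), Subgroup.mem_subgroupOf.1 y.2⟩ =
        (Nat.card (N.subgroupOf E) : ℂ) * J := by
      rw [← hJ, classInner, mul_inv_cancel_left₀ hQ]
      exact Finset.sum_congr rfl fun y _ => by simp [R, mul_assoc]
    have hcard : Nat.card G * Nat.card (N.subgroupOf E) =
        Nat.card E * (Nat.card N * (E ⊔ N).index) := by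
      rw [← Subgroup.card_mul_index N, ← Subgroup.relIndex_mul_index (le_sup_right : N ≤ E ⊔ N),
        Subgroup.relIndex_sup_right, ← (N.subgroupOf E).card_mul_index]
      rw [show (N.subgroupOf E).index = N.relIndex E from rfl]
      ring
    rw [h2, ← mul_assoc, ← Nat.cast_mul, hcard, Nat.cast_mul, mul_assoc (Nat.card E : ℂ)] at h1
    rw [mul_left_cancel₀ (Nat.cast_ne_zero.2 (Nat.card_pos (α := E)).ne') h1, Nat.cast_mul]
  -- some term has index and inner product prime to `p`
  obtain ⟨t, ht, J, hJ, hEN, hpJ⟩ : ∃ t ∈ l, ∃ J : ℕ,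
      classInner (fun y : N.subgroupOf t.1 =>
          t.2.1 y * θ ⟨((y : t.1) : G), Subgroup.mem_subgroupOf.1 y.2⟩)
          (fun y : N.subgroupOf t.1 => θ ⟨((y : t.1) : G), Subgroup.mem_subgroupOf.1 y.2⟩) = J ∧
      t.1 ⊔ N = ⊤ ∧ ¬ p ∣ J := by
    by_contra hno
    push Not at hno
    have key : ∀ l' : List ((E : Subgroup G) × ((E → ℂ) × ℤ)), (∀ t ∈ l', t ∈ l) →
        ∃ z : ℤ, (p : ℤ) ∣ z ∧
          ∑ n : N, (l'.map fun t => (t.2.2 : ℂ) • indFun t.1 t.2.1).sum (n : G) * R n =
            (Nat.card N : ℂ) * z := by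
      intro l' hl'
      induction l' with
      | nil => exact ⟨0, dvd_zero _, by simp⟩
      | cons a l' ih =>
        obtain ⟨z, hz, hz'⟩ := ih fun t ht => hl' t (List.mem_cons_of_mem _ ht)
        have ha := hl' a List.mem_cons_self
        obtain ⟨J, hJ1, hJ2⟩ := hterm a.1 a.2.1 (hl a ha).2
        have hdvd : p ∣ (a.1 ⊔ N).index * J := by
          have hi : (a.1 ⊔ N).index ∣ p ^ k :=
            hk ▸ Subgroup.index_dvd_of_le (le_sup_right : N ≤ a.1 ⊔ N)
          obtain ⟨j, -, hj⟩ := (Nat.dvd_prime_pow hp).1 hi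
          rcases Nat.eq_zero_or_pos j with rfl | hj0
          · rw [pow_zero] at hj
            exact dvd_mul_of_dvd_right (hno a ha J hJ2 (Subgroup.index_eq_one.1 hj)) _
          · exact dvd_mul_of_dvd_left (hj ▸ dvd_pow_self p hj0.ne') _
        refine ⟨a.2.2 * (((a.1 ⊔ N).index * J : ℕ) : ℤ) + z,
          dvd_add (dvd_mul_of_dvd_right (Int.natCast_dvd_natCast.2 hdvd) _) hz, ?_⟩
        simp only [List.map_cons, List.sum_cons, Pi.add_apply, Pi.smul_apply, smul_eq_mul,
          add_mul, Finset.sum_add_distrib, mul_assoc, ← Finset.mul_sum]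
        rw [hJ1]
        simp only [mul_assoc] at hz' ⊢
        rw [hz']
        push_cast
        ring
    obtain ⟨z, hz, hz'⟩ := key l fun _ h => h
    have h1 : ∑ n : N, R n = (Nat.card N : ℂ) := by
      have h := classInner_irr_self hθ
      rwa [classInner, inv_mul_eq_one₀ card_ne_zero, eq_comm] at h
    rw [← hsum, ← Finset.mul_sum, h1, mul_comm] at hz'
    have h2 : m = z := by exact_mod_cast mul_left_cancel₀ card_ne_zero hz'
    exact hm (h2 ▸ hz)
  obtain ⟨E, φ, c⟩ := t
  obtain ⟨hEl, hφ⟩ := hl _ ht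
  simp only at hJ hEN hEl hφ ⊢
  set θQ : N.subgroupOf E → ℂ := fun y => θ ⟨((y : E) : G), Subgroup.mem_subgroupOf.1 y.2⟩
    with hθQ
  have hθQinv : ∀ g : E, conjFun g θQ = θQ := fun g => by
    funext y
    have := congrFun (hinv (g : G)) ⟨((y : E) : G), Subgroup.mem_subgroupOf.1 y.2⟩
    exact this
  set φQ : N.subgroupOf E → ℂ := fun y => φ y with hφQdef
  have hφQinv : ∀ g : E, conjFun g φQ = φQ := fun g =>
    conjFun_res g (isClassFunction_of_isCharacter hφ)
  choose a ha using fun α : IrrCharacter (N.subgroupOf E) =>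
    classInner_isCharacter_eq_natCast (hres E) (IsIrr.isCharacter α.2)
  choose b hb using fun α : IrrCharacter (N.subgroupOf E) =>
    classInner_isCharacter_eq_natCast
      (isCharacter_mul (isCharacter_res (N.subgroupOf E) hφ) (IsIrr.isCharacter α.2)) (hres E)
  have hJsum : J = ∑ α, a α * b α := by
    have h : (J : ℂ) = ((∑ α, a α * b α : ℕ) : ℂ) := by
      rw [← hJ, Nat.cast_sum]
      have hexp := classFun_expansion (isClassFunction_of_isCharacter (hres E))
      have hfun : (fun y : N.subgroupOf E =>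
          φ y * θ ⟨((y : E) : G), Subgroup.mem_subgroupOf.1 y.2⟩) =
          ∑ α : IrrCharacter (N.subgroupOf E),
            (a α : ℂ) • (fun y : N.subgroupOf E => φ y * (α : N.subgroupOf E → ℂ) y) := by
        funext y
        have := congrFun hexp y
        simp only [Finset.sum_apply, Pi.smul_apply, smul_eq_mul, ha] at this ⊢
        rw [this, Finset.mul_sum]
        exact Finset.sum_congr rfl fun α _ => by ring
      rw [hfun, classInner_sum_left]
      refine Finset.sum_congr rfl fun α _ => ?_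
      rw [classInner_smul_left, Nat.cast_mul, ← hb α]
      rfl
    exact_mod_cast h
  obtain ⟨x, hxc, hxcop, j, hxidx⟩ := hEl
  let S : Sylow p E := Classical.arbitrary _
  letI : MulAction S (IrrCharacter (N.subgroupOf E)) :=
    { smul := fun g α => ⟨conjFun ((g : E))⁻¹ α, isIrr_conjFun _ α.2⟩
      one_smul := fun α => Subtype.ext (by
        show conjFun ((1 : S) : E)⁻¹ (α : N.subgroupOf E → ℂ) = α
        simp)
      mul_smul := fun g h α => Subtype.ext (by
        show conjFun ((g * h : S) : E)⁻¹ (α : N.subgroupOf E → ℂ) =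
          conjFun ((g : E))⁻¹ (conjFun ((h : E))⁻¹ (α : N.subgroupOf E → ℂ))
        rw [conjFun_conjFun, ← mul_inv_rev]
        rfl) }
  have hsmul : ∀ (g : S) (α : IrrCharacter (N.subgroupOf E)),
      ((g • α : IrrCharacter (N.subgroupOf E)) : N.subgroupOf E → ℂ) = conjFun (g : E)⁻¹ (α : N.subgroupOf E → ℂ) :=
    fun _ _ => rfl
  obtain ⟨α, hα, hpa⟩ : ∃ α : IrrCharacter (N.subgroupOf E), (∀ g : S, g • α = α) ∧ ¬ p ∣ a α := by
    by_contra hno
    push Not at hno
    refine hpJ (hJsum ▸ dvd_sum_of_fixed S.isPGroup' _ (fun g α => ?_) fun α hα =>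
      dvd_mul_of_dvd_left (hno α hα) _)
    have e1 : a (g • α) = a α := by
      have : ((a (g • α) : ℕ) : ℂ) = a α := by
        rw [← ha, ← ha, hsmul]
        exact classInner_conjFun_right _ θQ _ (hθQinv _)
      exact_mod_cast this
    have e2 : b (g • α) = b α := by
      have : ((b (g • α) : ℕ) : ℂ) = b α := by
        rw [← hb, ← hb, hsmul]
        exact classInner_mul_conjFun _ φQ θQ _ (hφQinv _) (hθQinv _)
      exact_mod_cast this
    rw [e1, e2]
  have hfix : ∀ g : E, conjFun g (α : N.subgroupOf E → ℂ) = (α : N.subgroupOf E → ℂ) := by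
    have hS : (S : Subgroup E) ≤ inertia (α : N.subgroupOf E → ℂ) := fun g hg => by
      have := congrArg Subtype.val (hα ⟨g⁻¹, inv_mem hg⟩)
      have h' : conjFun (g⁻¹⁻¹) (α : N.subgroupOf E → ℂ) = (α : N.subgroupOf E → ℂ) := this
      rwa [inv_inv] at h'
    have hx : Subgroup.zpowers x ≤ inertia (α : N.subgroupOf E → ℂ) := by
      rw [Subgroup.zpowers_le]
      show conjFun x (α : N.subgroupOf E → ℂ) = (α : N.subgroupOf E → ℂ)
      funext y
      refine congrArg (α : N.subgroupOf E → ℂ) (Subtype.ext ?_)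
      show x * (y : E) * x⁻¹ = (y : E)
      rw [← Subgroup.mem_center_iff.1 hxc (y : E), mul_inv_cancel_right]
    have h1 : (inertia (α : N.subgroupOf E → ℂ)).index = 1 := by
      obtain ⟨i, -, hi⟩ := (Nat.dvd_prime_pow hp).1 (hxidx ▸ Subgroup.index_dvd_of_le hx)
      rcases Nat.eq_zero_or_pos i with rfl | hi0
      · simpa using hi
      · exact absurd ((hi ▸ dvd_pow_self p hi0.ne').trans (Subgroup.index_dvd_of_le hS))
          S.not_dvd_index
    intro g
    exact (Subgroup.index_eq_one.1 h1).ge (Subgroup.mem_top g)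
  exact ⟨E, inferInstance, α, a α, ⟨x, hxc, hxcop, j, hxidx⟩, hEN, α.2, hfix, hpa, ha α⟩

end Cfsg.Agent.ProjExt
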