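import Mathlib.GroupTheory.Schreier
import Mathlib.GroupTheory.FreeGroup.IsFreeGroup
import Mathlib.GroupTheory.Abelianization.Defs
import Mathlib.LinearAlgebra.FreeModule.PID
import Mathlib.Algebra.EuclideanDomain.Int
import Mathlib.RingTheory.PrincipalIdealDomain
import Mathlib.GroupTheory.Index
import Mathlib.Algebra.Module.Projective
import Cfsg.Prelude.Def_KGroupFacts

/-!
# The Schur multiplier through a presentation

For a surjection `π : F →* Q` the group `E π = F ⧸ [ker π, F]` is a central extension of `Q` by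
`rbar π`; `mult π = rbar π ⊓ (E π)'` is the multiplier when `F` is free.

* `exists_lift` : `E π` maps to every central extension.
* `map_mult_eq_ker` / `surjective_of_stem` : for a stem extension the map is onto and `mult π` goes
  onto the kernel.
* `exists_cover` / `hasSchurMultiplier` : covers exist; the multiplier of `Q` is `mult (std Q)`.
* `cover_bijective` : on a cover the multiplier maps isomorphically onto the kernel.
-/

set_option autoImplicit false

namespace Cfsg.Agent.ProjExt.Schur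

open Subgroup
open scoped commutatorElement

universe u v w

variable {F : Type u} [Group F] {Q : Type v} [Group Q] (π : F →* Q)

/-- The universal central extension attached to a presentation. -/
abbrev E : Type u := F ⧸ ⁅π.ker, (⊤ : Subgroup F)⁆

theorem commutator_ker_le : ⁅π.ker, (⊤ : Subgroup F)⁆ ≤ π.ker := by
  rw [commutator_le]
  intro a ha b _
  rw [MonoidHom.mem_ker, map_commutatorElement, MonoidHom.mem_ker.mp ha, commutatorElement_one_left]

/-- The projection of `E π` to `Q`. -/
def proj : E π →* Q := QuotientGroup.lift _ π (commutator_ker_le π)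

theorem proj_mk (x : F) : proj π (QuotientGroup.mk x) = π x := rfl

theorem proj_surjective (hπ : Function.Surjective π) : Function.Surjective (proj π) := fun q => by
  obtain ⟨x, rfl⟩ := hπ q
  exact ⟨QuotientGroup.mk x, rfl⟩

theorem ker_le_center : (proj π).ker ≤ center (E π) := by
  intro x hx
  obtain ⟨a, rfl⟩ := QuotientGroup.mk_surjective x
  rw [mem_center_iff]
  intro y
  obtain ⟨b, rfl⟩ := QuotientGroup.mk_surjective y
  symm
  rw [← commutatorElement_eq_one_iff_mul_comm]
  show ⁅QuotientGroup.mk' _ a, QuotientGroup.mk' _ b⁆ = 1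
  rw [← map_commutatorElement, QuotientGroup.mk'_apply, QuotientGroup.eq_one_iff]
  exact commutator_mem_commutator (show a ∈ π.ker from hx) (mem_top b)

/-- The multiplier of the presentation. -/
def mult : Subgroup (E π) := (proj π).ker ⊓ _root_.commutator (E π)

theorem mult_le_ker : mult π ≤ (proj π).ker := inf_le_left

theorem mult_le_commutator : mult π ≤ _root_.commutator (E π) := inf_le_right

theorem mult_le_center : mult π ≤ center (E π) := inf_le_left.trans (ker_le_center π)

instance : IsMulCommutative (mult π) :=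
  ⟨⟨fun a b => Subtype.ext (mem_center_iff.mp (mult_le_center π b.2) a)⟩⟩

theorem finite_commutatorSet [Finite Q] : Finite (commutatorSet (E π)) := by
  classical
  let f : E π → (proj π).range := fun x => ⟨proj π x, x, rfl⟩
  have hs : Function.Surjective f := fun ⟨_, x, hx⟩ => ⟨x, Subtype.ext hx⟩
  let s := Function.surjInv hs
  let c : (proj π).range × (proj π).range → E π := fun p => ⁅s p.1, s p.2⁆
  refine (Set.Finite.subset (Set.finite_range c) ?_).to_subtype
  rintro _ ⟨a, b, rfl⟩
  refine ⟨(f a, f b), ?_⟩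
  have key : ∀ x : E π, ∃ k ∈ center (E π), x = s (f x) * k := fun x => by
    refine ⟨(s (f x))⁻¹ * x, ker_le_center π ?_, by group⟩
    rw [MonoidHom.mem_ker, map_mul, map_inv,
      show proj π (s (f x)) = proj π x from congrArg Subtype.val (Function.surjInv_eq hs (f x)),
      inv_mul_cancel]
  obtain ⟨k, hk, ha⟩ := key a
  obtain ⟨l, hl, hb⟩ := key b
  show ⁅s (f a), s (f b)⁆ = ⁅a, b⁆
  have e1 : ∀ x y z : E π, z ∈ center (E π) → ⁅x * z, y⁆ = ⁅x, y⁆ := fun x y z hz => by
    simp only [commutatorElement_def, mul_inv_rev]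
    calc x * z * y * (z⁻¹ * x⁻¹) * y⁻¹ = x * (z * y) * z⁻¹ * x⁻¹ * y⁻¹ := by group
      _ = x * (y * z) * z⁻¹ * x⁻¹ * y⁻¹ := by rw [mem_center_iff.mp hz y]
      _ = x * y * x⁻¹ * y⁻¹ := by group
  conv_rhs => rw [ha, hb, e1 _ _ _ hk, ← commutatorElement_inv, e1 _ _ _ hl, commutatorElement_inv]

theorem finite_commutator [Finite Q] : Finite (_root_.commutator (E π)) :=
  have := finite_commutatorSet π
  inferInstance

instance finite_mult [Finite Q] : Finite (mult π) :=
  have := finite_commutator π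
  Finite.of_injective _ (Subgroup.inclusion_injective (mult_le_commutator π))

variable {π}

/-- Descent to `E π`. -/
theorem exists_descent {Δ : Type w} [Group Δ] (φ : F →* Δ)
    (h : ∀ r ∈ π.ker, φ r ∈ center Δ) :
    ∃ ψ : E π →* Δ, ∀ x : F, ψ (QuotientGroup.mk x) = φ x := by
  refine ⟨QuotientGroup.lift _ φ ?_, fun x => rfl⟩
  rw [commutator_le]
  intro a ha b _
  rw [MonoidHom.mem_ker, map_commutatorElement, commutatorElement_eq_one_iff_mul_comm]
  exact (mem_center_iff.mp (h a ha) (φ b)).symm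

/-- `E π` maps to every central extension of a group receiving `Q`. -/
theorem exists_lift [IsFreeGroup F] {Q' : Type w} [Group Q'] {Δ : Type*} [Group Δ] (τ : Δ →* Q')
    (hc : τ.ker ≤ center Δ) (η : Q →* Q') (hη : η.range ≤ τ.range) :
    ∃ ψ : E π →* Δ, τ.comp ψ = η.comp (proj π) := by
  choose s hs using fun a : IsFreeGroup.Generators F => hη ⟨π (IsFreeGroup.of a), rfl⟩
  let φ : F →* Δ := IsFreeGroup.lift s
  have hφ : τ.comp φ = η.comp π := IsFreeGroup.ext_hom fun a => by
    show τ (φ (IsFreeGroup.of a)) = η (π (IsFreeGroup.of a))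
    rw [IsFreeGroup.lift_of, hs]
  have hx : ∀ x, τ (φ x) = η (π x) := fun x => DFunLike.congr_fun hφ x
  obtain ⟨ψ, hψ⟩ := exists_descent (π := π) φ fun r hr => hc (by
    rw [MonoidHom.mem_ker, hx, MonoidHom.mem_ker.mp hr, map_one])
  refine ⟨ψ, MonoidHom.ext fun y => ?_⟩
  obtain ⟨x, rfl⟩ := QuotientGroup.mk_surjective y
  show τ (ψ (QuotientGroup.mk x)) = η (π x)
  rw [hψ, hx]

section Onto

variable {Q' : Type w} [Group Q'] {Δ : Type*} [Group Δ] {τ : Δ →* Q'}

/-- A subgroup that covers the quotient of a central extension contains the derived group. -/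
theorem commutator_le_range {Γ : Type*} [Group Γ] (ψ : Γ →* Δ) (hc : τ.ker ≤ center Δ)
    (hψ : Function.Surjective (τ.comp ψ)) :
    _root_.commutator Δ ≤ (_root_.commutator Γ).map ψ := by
  rw [_root_.commutator_def, commutator_le]
  intro a _ b _
  have key : ∀ d : Δ, ∃ x : Γ, ∃ k ∈ center Δ, d = ψ x * k := fun d => by
    obtain ⟨x, hx⟩ := hψ (τ d)
    refine ⟨x, (ψ x)⁻¹ * d, hc ?_, by group⟩
    rw [MonoidHom.mem_ker, map_mul, map_inv]
    rw [MonoidHom.comp_apply] at hx
    rw [hx, inv_mul_cancel]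
  obtain ⟨x, k, hk, rfl⟩ := key a
  obtain ⟨y, l, hl, rfl⟩ := key b
  refine ⟨⁅x, y⁆, commutator_mem_commutator (mem_top x) (mem_top y), ?_⟩
  rw [map_commutatorElement]
  simp only [commutatorElement_def, mul_inv_rev]
  symm
  calc ψ x * k * (ψ y * l) * (k⁻¹ * (ψ x)⁻¹) * (l⁻¹ * (ψ y)⁻¹)
      = ψ x * (k * (ψ y * l)) * k⁻¹ * (ψ x)⁻¹ * l⁻¹ * (ψ y)⁻¹ := by group
    _ = ψ x * ((ψ y * l) * k) * k⁻¹ * (ψ x)⁻¹ * l⁻¹ * (ψ y)⁻¹ := by rw [mem_center_iff.mp hk (ψ y * l)]
    _ = ψ x * ψ y * (l * (ψ x)⁻¹) * l⁻¹ * (ψ y)⁻¹ := by group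
    _ = ψ x * ψ y * ((ψ x)⁻¹ * l) * l⁻¹ * (ψ y)⁻¹ := by rw [mem_center_iff.mp hl (ψ x)⁻¹]
    _ = ψ x * ψ y * (ψ x)⁻¹ * (ψ y)⁻¹ := by group

variable {η : Q →* Q'} {ψ : E π →* Δ}

/-- Over an isomorphism the multiplier maps onto `ker τ ⊓ Δ'`. -/
theorem map_mult_eq (hπ : Function.Surjective π) (hc : τ.ker ≤ center Δ) (hη : Function.Bijective η)
    (hψ : τ.comp ψ = η.comp (proj π)) :
    (mult π).map ψ = τ.ker ⊓ _root_.commutator Δ := by
  have hx : ∀ x, τ (ψ x) = η (proj π x) := fun x => DFunLike.congr_fun hψ x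
  refine le_antisymm ?_ ?_
  · rintro _ ⟨m, ⟨hm, hm'⟩, rfl⟩
    refine ⟨?_, ?_⟩
    · show ψ m ∈ τ.ker
      rw [MonoidHom.mem_ker, hx, show proj π m = 1 from hm, map_one]
    · have h : (_root_.commutator (E π)).map ψ ≤ _root_.commutator Δ := by
        rw [_root_.commutator_def, _root_.commutator_def, Subgroup.map_commutator]
        exact commutator_mono le_top le_top
      exact h ⟨m, hm', rfl⟩
  · rintro d ⟨hd, hd'⟩
    have hs : Function.Surjective (τ.comp ψ) := by
      rw [hψ]; exact hη.2.comp (proj_surjective π hπ)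
    obtain ⟨e, he, rfl⟩ := commutator_le_range (τ := τ) ψ hc hs hd'
    refine ⟨e, ⟨?_, he⟩, rfl⟩
    show proj π e = 1
    apply hη.1
    rw [← hx, map_one]
    exact hd

/-- For a stem extension the multiplier maps onto the kernel. -/
theorem map_mult_eq_ker (hπ : Function.Surjective π) (hτ : Cfsg.IsStemExtension τ)
    (hη : Function.Bijective η) (hψ : τ.comp ψ = η.comp (proj π)) :
    (mult π).map ψ = τ.ker := by
  rw [map_mult_eq hπ hτ.2.1 hη hψ, inf_eq_left.mpr hτ.2.2]

/-- For a stem extension the map is onto. -/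
theorem surjective_of_stem (hπ : Function.Surjective π) (hτ : Cfsg.IsStemExtension τ)
    (hη : Function.Bijective η) (hψ : τ.comp ψ = η.comp (proj π)) : Function.Surjective ψ := by
  intro d
  obtain ⟨x, hx⟩ := proj_surjective π hπ ((MulEquiv.ofBijective η hη).symm (τ d))
  have hk : (ψ x)⁻¹ * d ∈ τ.ker := by
    rw [MonoidHom.mem_ker, map_mul, map_inv, show τ (ψ x) = η (proj π x) from DFunLike.congr_fun hψ x, hx,
      show η ((MulEquiv.ofBijective η hη).symm (τ d)) = τ d from
        (MulEquiv.ofBijective η hη).apply_symm_apply _, inv_mul_cancel]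
  rw [← map_mult_eq_ker hπ hτ hη hψ] at hk
  obtain ⟨m, -, hm⟩ := hk
  exact ⟨x * m, by rw [map_mul, hm, mul_inv_cancel_left]⟩

end Onto

/-! ### The standard presentation -/

/-- The presentation of `Q` on all its elements. -/
def std (Q : Type u) [Group Q] : FreeGroup Q →* Q := FreeGroup.lift id

theorem std_surjective (Q : Type u) [Group Q] : Function.Surjective (std Q) :=
  fun q => ⟨FreeGroup.of q, FreeGroup.lift_apply_of⟩

variable {R : Type u} [Group R]

/-- The exponent sums. -/
noncomputable def weight (R : Type u) [Group R] : E (std R) →* Multiplicative (R →₀ ℤ) :=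
  QuotientGroup.lift _ (FreeGroup.lift fun q => Multiplicative.ofAdd (Finsupp.single q 1)) (by
    rw [commutator_le]
    intro a _ b _
    rw [MonoidHom.mem_ker, map_commutatorElement, commutatorElement_eq_one_iff_mul_comm, mul_comm])

theorem weight_ker : (weight R).ker = _root_.commutator (E (std R)) := by
  refine le_antisymm ?_ (Abelianization.commutator_subset_ker _)
  let back : (R →₀ ℤ) →+ Additive (Abelianization (E (std R))) :=
    Finsupp.liftAddHom fun q =>
      zmultiplesHom _ (Additive.ofMul (Abelianization.of (QuotientGroup.mk (FreeGroup.of q) : E (std R))))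
  have h : ∀ x : E (std R), back (weight R x).toAdd = Additive.ofMul (Abelianization.of x) := by
    intro x
    obtain ⟨y, rfl⟩ := QuotientGroup.mk_surjective x
    induction y using FreeGroup.induction_on with
    | C1 => simp [QuotientGroup.mk_one]
    | of q =>
      show back (Multiplicative.toAdd (FreeGroup.lift (fun q => Multiplicative.ofAdd (Finsupp.single q 1)) (FreeGroup.of q))) = _
      rw [FreeGroup.lift_apply_of, toAdd_ofAdd, Finsupp.liftAddHom_apply_single, zmultiplesHom_apply, one_zsmul]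
    | inv_of q ih =>
      rw [QuotientGroup.mk_inv, map_inv (weight R), toAdd_inv, map_neg, ih, map_inv Abelianization.of, ofMul_inv]
    | mul a b iha ihb =>
      rw [QuotientGroup.mk_mul, map_mul (weight R), toAdd_mul, map_add, iha, ihb, map_mul Abelianization.of, ofMul_mul]
  intro x hx
  have h1 := h x
  rw [MonoidHom.mem_ker.mp hx, toAdd_one, map_zero] at h1
  have h2 : Abelianization.of x = 1 := Additive.ofMul.injective h1.symm
  rwa [← MonoidHom.mem_ker, Abelianization.ker_of] at h2

/-- A complement to the multiplier inside `ker proj`, killed by a given homomorphism that is onto on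
the multiplier. -/
theorem exists_complement [Finite R] {W : Type w} [CommGroup W] (χ : (proj (std R)).ker →* W)
    (hχ : ∀ x, ∃ m : (proj (std R)).ker, (m : E (std R)) ∈ mult (std R) ∧ χ m = χ x) :
    ∃ C : Subgroup (E (std R)), C ≤ (proj (std R)).ker ∧ C ⊓ mult (std R) = ⊥ ∧
      C ⊔ mult (std R) = (proj (std R)).ker ∧ ∀ c : (proj (std R)).ker, (c : E (std R)) ∈ C → χ c = 1 := by
  classical
  have : IsMulCommutative (proj (std R)).ker := ⟨⟨fun a b => Subtype.ext (mem_center_iff.mp (ker_le_center _ b.2) a)⟩⟩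
  open scoped IsMulCommutative in
  let θ : Additive (proj (std R)).ker →ₗ[ℤ] (R →₀ ℤ) :=
    (MonoidHom.toAdditiveLeft ((weight R).comp (proj (std R)).ker.subtype)).toIntLinearMap
  let χa : Additive (proj (std R)).ker →ₗ[ℤ] Additive χ.range := (MonoidHom.toAdditive χ.rangeRestrict).toIntLinearMap
  let big : Additive (proj (std R)).ker →ₗ[ℤ] (LinearMap.range θ) × Additive χ.range := LinearMap.prod θ.rangeRestrict χa
  have hθ0 : ∀ m : (proj (std R)).ker, (m : E (std R)) ∈ _root_.commutator (E (std R)) → θ (Additive.ofMul m) = 0 := fun m hm => by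
    show Multiplicative.toAdd (weight R (m : E (std R))) = 0
    rw [MonoidHom.mem_ker.mp (weight_ker.ge hm), toAdd_one]
  have hbig : Function.Surjective big := by
    rintro ⟨⟨_, x, rfl⟩, z⟩
    obtain ⟨y, rfl⟩ : ∃ y : (proj (std R)).ker, Additive.ofMul (χ.rangeRestrict y) = z := by
      obtain ⟨⟨_, y, rfl⟩, rfl⟩ := Additive.ofMul.surjective z
      exact ⟨y, rfl⟩
    obtain ⟨m, hm, hme⟩ := hχ ((Additive.toMul x)⁻¹ * y)
    refine ⟨x + Additive.ofMul m, Prod.ext (Subtype.ext ?_) ?_⟩
    · show θ (x + Additive.ofMul m) = θ x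
      rw [map_add, hθ0 m (mult_le_commutator _ hm), add_zero]
    · apply Additive.toMul.injective
      apply Subtype.ext
      show χ (Additive.toMul x * m) = χ y
      rw [map_mul, hme, map_mul, map_inv, mul_inv_cancel_left]
  have hfree : Module.Free ℤ (LinearMap.range θ) := by
    obtain ⟨k, ⟨b⟩⟩ := Submodule.nonempty_basis_of_pid (Finsupp.basisSingleOne (R := ℤ) (ι := R)) (LinearMap.range θ)
    exact Module.Free.of_basis b
  obtain ⟨sec, hsec⟩ := Module.projective_lifting_property big (LinearMap.inl ℤ (LinearMap.range θ) (Additive χ.range)) hbig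
  have hsec' : ∀ a, big (sec a) = (a, 0) := fun a => LinearMap.congr_fun hsec a
  let f : Multiplicative (LinearMap.range θ) →* E (std R) :=
    (proj (std R)).ker.subtype.comp (AddMonoidHom.toMultiplicativeLeft sec.toAddMonoidHom)
  have hf : ∀ a : LinearMap.range θ, f (Multiplicative.ofAdd a) = ((Additive.toMul (sec a) : (proj (std R)).ker) : E (std R)) :=
    fun a => rfl
  refine ⟨f.range, ?_, ?_, ?_, ?_⟩
  · rintro _ ⟨a, rfl⟩
    exact (Additive.toMul (sec a.toAdd) : (proj (std R)).ker).2
  · rw [eq_bot_iff]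
    rintro _ ⟨⟨a, rfl⟩, hm⟩
    have h1 : θ (sec a.toAdd) = (a.toAdd : R →₀ ℤ) := congrArg (fun z => ((z.1 : LinearMap.range θ) : R →₀ ℤ)) (hsec' a.toAdd)
    have h2 := hθ0 (Additive.toMul (sec a.toAdd)) (mult_le_commutator _ hm)
    rw [ofMul_toMul, h1] at h2
    have h3 : a.toAdd = 0 := Subtype.ext h2
    rw [mem_bot]
    show ((Additive.toMul (sec a.toAdd) : (proj (std R)).ker) : E (std R)) = 1
    rw [h3, map_zero]; rfl
  · refine le_antisymm (sup_le ?_ (mult_le_ker _)) fun x hx => ?_
    · rintro _ ⟨a, rfl⟩; exact (Additive.toMul (sec a.toAdd) : (proj (std R)).ker).2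
    · set b : LinearMap.range θ := θ.rangeRestrict (Additive.ofMul (⟨x, hx⟩ : (proj (std R)).ker))
      rw [show x = f (Multiplicative.ofAdd b) * ((f (Multiplicative.ofAdd b))⁻¹ * x) by group]
      refine mul_mem_sup ⟨_, rfl⟩ ⟨?_, ?_⟩
      · exact (proj (std R)).ker.mul_mem ((proj (std R)).ker.inv_mem (Additive.toMul (sec b) : (proj (std R)).ker).2) hx
      · show _ ∈ _root_.commutator (E (std R))
        rw [← weight_ker, MonoidHom.mem_ker, map_mul, map_inv, hf]
        apply Multiplicative.toAdd.injective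
        rw [toAdd_mul, toAdd_inv, toAdd_one]
        have h1 : θ (sec b) = θ (Additive.ofMul (⟨x, hx⟩ : (proj (std R)).ker)) :=
          congrArg (fun z => ((z.1 : LinearMap.range θ) : R →₀ ℤ)) (hsec' b)
        show -θ (sec b) + θ (Additive.ofMul (⟨x, hx⟩ : (proj (std R)).ker)) = 0
        rw [h1, neg_add_cancel]
  · rintro c ⟨a, ha⟩
    have hc : c = (Additive.toMul (sec a.toAdd) : (proj (std R)).ker) := Subtype.ext ha.symm
    have h1 : Additive.toMul (χa (sec a.toAdd)) = 1 := by
      rw [show χa (sec a.toAdd) = (big (sec a.toAdd)).2 from rfl, hsec']; rfl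
    rw [hc]
    exact congrArg Subtype.val h1

/-- The cover attached to a complement. -/
theorem exists_cover_of_complement [Finite R] {C : Subgroup (E (std R))} (hC : C ≤ (proj (std R)).ker)
    (hCm : C ⊓ mult (std R) = ⊥) (hsup : C ⊔ mult (std R) = (proj (std R)).ker) :
    ∃ (_ : C.Normal) (σ : E (std R) ⧸ C →* R), σ.comp (QuotientGroup.mk' C) = proj (std R) ∧
      Finite (E (std R) ⧸ C) ∧ Cfsg.IsStemExtension σ ∧ Nonempty (σ.ker ≃* mult (std R)) := by
  have hn : C.Normal := ⟨fun c hc g => by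
    rw [mem_center_iff.mp (ker_le_center _ (hC hc)) g, mul_inv_cancel_right]; exact hc⟩
  let σ : E (std R) ⧸ C →* R := QuotientGroup.lift C (proj (std R)) hC
  have hker : σ.ker = (mult (std R)).map (QuotientGroup.mk' C) := by
    rw [QuotientGroup.ker_lift, ← hsup, Subgroup.map_sup,
      (Subgroup.map_eq_bot_iff C).mpr (QuotientGroup.ker_mk' C).ge, bot_sup_eq]
  have hinj : Function.Injective ((QuotientGroup.mk' C).subgroupMap (mult (std R))) := by
    rw [injective_iff_map_eq_one]
    rintro ⟨m, hm⟩ h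
    have h' : m ∈ C := (QuotientGroup.eq_one_iff m).mp (congrArg Subtype.val h)
    exact Subtype.ext ((Subgroup.eq_bot_iff_forall _).mp hCm m ⟨h', hm⟩)
  let e : σ.ker ≃* mult (std R) :=
    (MulEquiv.subgroupCongr hker).trans (MulEquiv.ofBijective _ ⟨hinj, MonoidHom.subgroupMap_surjective _ _⟩).symm
  have hfin : Finite σ.ker := Finite.of_equiv _ e.toEquiv.symm
  refine ⟨hn, σ, MonoidHom.ext fun x => rfl, ?_, ⟨?_, ?_, ?_⟩, ⟨e⟩⟩
  · have : Finite ((E (std R) ⧸ C) ⧸ σ.ker) := Finite.of_injective _ (QuotientGroup.kerLift_injective σ)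
    exact Finite.of_equiv _ (Subgroup.groupEquivQuotientProdSubgroup (s := σ.ker)).symm
  · intro q
    obtain ⟨x, hx⟩ := proj_surjective _ (std_surjective R) q
    exact ⟨QuotientGroup.mk x, hx⟩
  · rw [hker]
    rintro _ ⟨m, hm, rfl⟩
    rw [mem_center_iff]
    intro y
    obtain ⟨y, rfl⟩ := QuotientGroup.mk_surjective y
    rw [QuotientGroup.mk'_apply, ← QuotientGroup.mk_mul, ← QuotientGroup.mk_mul, mem_center_iff.mp (mult_le_center _ hm) y]
  · rw [hker]
    refine (Subgroup.map_mono (mult_le_commutator _)).trans ?_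
    rw [_root_.commutator_def, _root_.commutator_def, Subgroup.map_commutator]
    exact commutator_mono le_top le_top

/-- A cover exists above any stem extension. -/
theorem exists_cover_over [Finite R] {Δ : Type w} [Group Δ] (τ : Δ →* R) (hτ : Cfsg.IsStemExtension τ) :
    ∃ (Γ : Type u) (_ : Group Γ) (_ : Finite Γ) (σ : Γ →* R), Cfsg.IsStemExtension σ ∧
      Nonempty (σ.ker ≃* mult (std R)) ∧ ∃ β : Γ →* Δ, Function.Surjective β ∧ τ.comp β = σ := by
  obtain ⟨ψ, hψ⟩ := exists_lift (π := std R) τ hτ.2.1 (MonoidHom.id R)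
    (fun _ _ => hτ.1 _ |>.elim fun x hx => ⟨x, hx⟩)
  have hmap := map_mult_eq_ker (std_surjective R) hτ Function.bijective_id hψ
  letI : CommGroup τ.ker :=
    { (inferInstance : Group τ.ker) with
      mul_comm := fun a b => Subtype.ext (mem_center_iff.mp (hτ.2.1 b.2) a) }
  have hin : ∀ x : (proj (std R)).ker, ψ (x : E (std R)) ∈ τ.ker := fun x => by
    rw [MonoidHom.mem_ker, show τ (ψ (x : E (std R))) = proj (std R) (x : E (std R)) from DFunLike.congr_fun hψ _]
    exact x.2
  let χ : (proj (std R)).ker →* τ.ker := (ψ.comp (proj (std R)).ker.subtype).codRestrict _ hin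
  obtain ⟨C, hC, hCm, hsup, hCχ⟩ := exists_complement χ (fun x => by
    obtain ⟨m, hm, hme⟩ := hmap.ge (hin x)
    exact ⟨⟨m, mult_le_ker _ hm⟩, hm, Subtype.ext hme⟩)
  obtain ⟨hn, σ, hσ, hfin, hst, he⟩ := exists_cover_of_complement hC hCm hsup
  have hCk : C ≤ ψ.ker := fun c hc => by
    have h := hCχ ⟨c, hC hc⟩ hc
    exact congrArg Subtype.val h
  refine ⟨E (std R) ⧸ C, inferInstance, hfin, σ, hst, he, QuotientGroup.lift C ψ hCk, ?_, ?_⟩
  · intro d
    obtain ⟨x, hx⟩ := surjective_of_stem (std_surjective R) hτ Function.bijective_id hψ d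
    exact ⟨QuotientGroup.mk x, hx⟩
  · refine MonoidHom.ext fun y => ?_
    obtain ⟨x, rfl⟩ := QuotientGroup.mk_surjective y
    show τ (ψ x) = σ (QuotientGroup.mk' C x)
    rw [show τ (ψ x) = proj (std R) x from DFunLike.congr_fun hψ x, ← hσ]; rfl

/-- Covers exist. -/
theorem exists_cover (R : Type u) [Group R] [Finite R] :
    ∃ (Γ : Type u) (_ : Group Γ) (_ : Finite Γ) (σ : Γ →* R), Cfsg.IsStemExtension σ ∧
      Nonempty (σ.ker ≃* mult (std R)) := by
  obtain ⟨Γ, i, j, σ, h, e, -⟩ := exists_cover_over (MonoidHom.id R)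
    ⟨Function.surjective_id, by rw [MonoidHom.ker_id]; exact bot_le, by rw [MonoidHom.ker_id]; exact bot_le⟩
  exact ⟨Γ, i, j, σ, h, e⟩

/-- The multiplier maps onto the kernel of every stem extension. -/
theorem exists_surjective {Δ : Type w} [Group Δ] (τ : Δ →* R) (hτ : Cfsg.IsStemExtension τ) :
    ∃ f : mult (std R) →* τ.ker, Function.Surjective f := by
  obtain ⟨ψ, hψ⟩ := exists_lift (π := std R) τ hτ.2.1 (MonoidHom.id R)
    (fun _ _ => hτ.1 _ |>.elim fun x hx => ⟨x, hx⟩)
  have hmap := map_mult_eq_ker (std_surjective R) hτ Function.bijective_id hψ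
  refine ⟨(MulEquiv.subgroupCongr hmap).toMonoidHom.comp (ψ.subgroupMap (mult (std R))), ?_⟩
  exact (MulEquiv.subgroupCongr hmap).surjective.comp (MonoidHom.subgroupMap_surjective _ _)

/-- The multiplier of a finite group. -/
theorem hasSchurMultiplier_of_equiv [Finite R] {A : Type w} [CommGroup A] (e : mult (std R) ≃* A) :
    Cfsg.HasSchurMultiplier R A := by
  refine ⟨?_, fun Δ _ _ τ hτ => ?_⟩
  · obtain ⟨Γ, i, j, σ, hσ, ⟨f⟩⟩ := exists_cover R
    exact ⟨Γ, i, j, σ, hσ, ⟨f.trans e⟩⟩
  · obtain ⟨f, hf⟩ := exists_surjective τ hτ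
    exact ⟨f.comp e.symm.toMonoidHom, hf.comp e.symm.surjective⟩

/-- The multiplier is unique. -/
theorem equiv_of_hasSchurMultiplier [Finite R] {A : Type w} [CommGroup A]
    (hA : Cfsg.HasSchurMultiplier R A) : Nonempty (mult (std R) ≃* A) := by
  obtain ⟨Γ, i, j, σ, hσ, ⟨e⟩⟩ := hA.1
  obtain ⟨f, hf⟩ := exists_surjective σ hσ
  obtain ⟨Γ', i', j', σ', hσ', ⟨e'⟩⟩ := exists_cover R
  obtain ⟨g, hg⟩ := hA.2 Γ' σ' hσ'
  have : Finite A := Finite.of_equiv _ e.toEquiv
  have h1 : Nat.card (mult (std R)) ≤ Nat.card A :=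
    Nat.card_le_card_of_surjective (e' ∘ g) (e'.surjective.comp hg)
  exact ⟨MulEquiv.ofBijective (e.toMonoidHom.comp f) ((e.surjective.comp hf).bijective_of_nat_card_le h1)⟩

/-- On a cover the multiplier maps isomorphically onto the kernel. -/
theorem cover_bijective [Finite R] {Γ : Type w} [Group Γ] {σ : Γ →* R} (hσ : Cfsg.IsStemExtension σ)
    (hcard : Nat.card (mult (std R)) ≤ Nat.card σ.ker) {ψ : E (std R) →* Γ} (hψ : σ.comp ψ = proj (std R)) :
    ∀ m ∈ mult (std R), ψ m = 1 → m = 1 := by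
  have hψ' : σ.comp ψ = (MonoidHom.id R).comp (proj (std R)) := hψ
  have hmap := map_mult_eq_ker (std_surjective R) hσ Function.bijective_id hψ'
  have hb : Function.Bijective (ψ.subgroupMap (mult (std R))) :=
    (MonoidHom.subgroupMap_surjective _ _).bijective_of_nat_card_le (by rwa [hmap])
  intro m hm h
  exact congrArg Subtype.val ((injective_iff_map_eq_one _).mp hb.1 ⟨m, hm⟩ (Subtype.ext h))

end Cfsg.Agent.ProjExt.Schur
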