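import Cfsg.Agent.ProjExt.Schur
import Mathlib.Algebra.Category.Grp.Injective
import Mathlib.LinearAlgebra.Matrix.GeneralLinearGroup.Basic
import Mathlib.Analysis.Complex.Polynomial.Basic
import Mathlib.GroupTheory.FiniteAbelian.Duality
import Mathlib.RingTheory.RootsOfUnity.AlgebraicallyClosed

/-!
# Lifting projective representations to a covering group

* `exists_extension` : homomorphisms into divisible abelian groups extend from subgroups meeting the
  derived group trivially.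
* `exists_monomial` : a central character gives a matrix representation, scalar on the subgroup.
* `exists_lift_rep` / `injective_of_lifting` : lifting of projective representations characterises covers.
-/

set_option autoImplicit false

namespace Cfsg.Agent.ProjExt.Schur

open Subgroup
open scoped commutatorElement

universe u v w

/-- Extension into a divisible abelian group. -/
theorem exists_extension {G : Type u} [Group G] {W : Type w} [CommGroup W]
    (hdiv : ∀ (x : W) (n : ℕ), n ≠ 0 → ∃ y, y ^ n = x) (C : Subgroup G)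
    (hC : C ⊓ _root_.commutator G = ⊥) (χ : C →* W) : ∃ f : G →* W, ∀ c : C, f c = χ c := by
  classical
  have : IsMulCommutative C := ⟨⟨fun a b => by
    have h : ⁅(a : G), (b : G)⁆ ∈ C ⊓ _root_.commutator G :=
      ⟨C.mul_mem (C.mul_mem (C.mul_mem a.2 b.2) (C.inv_mem a.2)) (C.inv_mem b.2),
        commutator_mem_commutator (mem_top _) (mem_top _)⟩
    rw [hC, mem_bot, commutatorElement_eq_one_iff_mul_comm] at h
    exact Subtype.ext h⟩⟩
  open scoped IsMulCommutative in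
  letI : DivisibleBy (Additive W) ℕ :=
    { div := fun x n => if h : n = 0 then 0 else Additive.ofMul (hdiv (Additive.toMul x) n h).choose
      div_zero := fun x => by simp
      div_cancel := fun {n} x hn => by
        simp only [hn, dite_false]
        rw [← ofMul_pow, (hdiv (Additive.toMul x) n hn).choose_spec, ofMul_toMul] }
  letI := AddGroup.divisibleByIntOfDivisibleByNat (Additive W)
  let ι : Additive C →+ Additive (Abelianization G) :=
    MonoidHom.toAdditive (Abelianization.of.comp C.subtype)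
  have hι : Function.Injective ι := by
    intro a b h
    have h' : Abelianization.of ((Additive.toMul a : C) : G) = Abelianization.of ((Additive.toMul b : C) : G) := h
    have h2 : ((Additive.toMul a)⁻¹ * Additive.toMul b : C) = 1 := by
      refine Subtype.ext ((eq_bot_iff_forall _).mp hC _ ⟨((Additive.toMul a)⁻¹ * Additive.toMul b).2, ?_⟩)
      rw [← Abelianization.ker_of]
      show Abelianization.of (((Additive.toMul a : C) : G)⁻¹ * ((Additive.toMul b : C) : G)) = 1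
      rw [map_mul, map_inv, h', inv_mul_cancel]
    exact Additive.toMul.injective (inv_mul_eq_one.mp h2)
  obtain ⟨h, hh⟩ := Module.Baer.extension_property_addMonoidHom (Module.Baer.of_divisible (Additive W))
    ι hι (MonoidHom.toAdditive χ)
  refine ⟨(MonoidHom.toAdditive.symm h).comp Abelianization.of, fun c => ?_⟩
  exact congrArg Additive.toMul (DFunLike.congr_fun hh (Additive.ofMul c))

/-- The centre of `GL n ℂ` is divisible. -/
theorem center_GL_divisible (n : ℕ) (x : center (GL (Fin n) ℂ)) (k : ℕ) (hk : k ≠ 0) :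
    ∃ y : center (GL (Fin n) ℂ), y ^ k = x := by
  obtain ⟨c, hc⟩ : (x : GL (Fin n) ℂ) ∈ (Matrix.GeneralLinearGroup.scalar (R := ℂ) (Fin n)).range := by
    rw [← Matrix.GeneralLinearGroup.center_eq_range_scalar]; exact x.2
  obtain ⟨d, hd⟩ := IsAlgClosed.exists_pow_nat_eq (c : ℂ) (Nat.pos_of_ne_zero hk)
  have hd0 : d ≠ 0 := fun e => c.ne_zero (by rw [← hd, e, zero_pow hk])
  refine ⟨⟨Matrix.GeneralLinearGroup.scalar (Fin n) (Units.mk0 d hd0), ?_⟩, Subtype.ext ?_⟩
  · rw [Matrix.GeneralLinearGroup.center_eq_range_scalar]; exact ⟨_, rfl⟩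
  · rw [SubmonoidClass.coe_pow, ← map_pow, ← hc]
    exact congrArg _ (Units.ext hd)

/-- A central subgroup with a character gives a monomial representation, scalar on the subgroup. -/
theorem exists_monomial {Γ : Type u} [Group Γ] {R : Type v} [Group R] [Finite R] (σ : Γ →* R)
    (hσ : Function.Surjective σ) (hc : σ.ker ≤ center Γ) (χ : σ.ker →* ℂˣ) :
    ∃ ρ : Γ →* GL (Fin (Nat.card R)) ℂ,
      ∀ k : σ.ker, ρ (k : Γ) = Matrix.GeneralLinearGroup.scalar (Fin (Nat.card R)) (χ k) := by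
  classical
  have := Fintype.ofFinite R
  let e : R ≃ Fin (Nat.card R) := Finite.equivFin R
  let t := Function.surjInv hσ
  have ht : ∀ q, σ (t q) = q := Function.surjInv_eq hσ
  have hmem : ∀ g q, (t (σ g * q))⁻¹ * g * t q ∈ σ.ker := fun g q => by
    rw [MonoidHom.mem_ker, map_mul, map_mul, map_inv, ht, ht]; group
  let a : Γ → R → ℂˣ := fun g q => χ ⟨_, hmem g q⟩
  have ha : ∀ g h q, a (g * h) q = a g (σ h * q) * a h q := fun g h q => by
    simp only [a]
    rw [← map_mul]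
    congr 1
    apply Subtype.ext
    show (t (σ (g * h) * q))⁻¹ * (g * h) * t q =
      (t (σ g * (σ h * q)))⁻¹ * g * t (σ h * q) * ((t (σ h * q))⁻¹ * h * t q)
    rw [map_mul, mul_assoc (σ g)]; group
  have ha1 : ∀ (k : σ.ker) (q : R), a (k : Γ) q = χ k := fun k q => by
    simp only [a]
    congr 1
    apply Subtype.ext
    show (t (σ (k : Γ) * q))⁻¹ * (k : Γ) * t q = (k : Γ)
    rw [MonoidHom.mem_ker.mp k.2, one_mul, mul_assoc, ← mem_center_iff.mp (hc k.2) (t q), inv_mul_cancel_left]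
  let M : Γ → Matrix (Fin (Nat.card R)) (Fin (Nat.card R)) ℂ := fun g =>
    Matrix.of fun i j => if e.symm i = σ g * e.symm j then ((a g (e.symm j) : ℂˣ) : ℂ) else 0
  have hk : ∀ k : σ.ker, M (k : Γ) = Matrix.scalar (Fin (Nat.card R)) ((χ k : ℂˣ) : ℂ) := fun k => by
    ext i j
    simp only [M, Matrix.of_apply, Matrix.scalar_apply, Matrix.diagonal_apply, MonoidHom.mem_ker.mp k.2, one_mul,
      e.symm.injective.eq_iff, ha1]
  have hmul : ∀ g h, M (g * h) = M g * M h := fun g h => by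
    ext i j
    rw [Matrix.mul_apply, Finset.sum_eq_single (e (σ h * e.symm j))]
    · simp only [M, Matrix.of_apply, Equiv.symm_apply_apply, map_mul, mul_assoc, if_true, ha, Units.val_mul]
      split_ifs with h1
      · rfl
      · rw [zero_mul]
    · intro b _ hb
      simp only [M, Matrix.of_apply]
      by_cases h1 : e.symm b = σ h * e.symm j
      · exact absurd (by rw [← h1, Equiv.apply_symm_apply]) hb
      · rw [if_neg h1, mul_zero]
    · intro h1; exact absurd (Finset.mem_univ _) h1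
  have h1 : M 1 = 1 := by
    have := hk 1
    simpa using this
  let Mh : Γ →* Matrix (Fin (Nat.card R)) (Fin (Nat.card R)) ℂ := { toFun := M, map_one' := h1, map_mul' := hmul }
  exact ⟨Mh.toHomUnits, fun k => Units.ext (hk k)⟩

variable {R : Type u} [Group R] [Finite R]

/-- Projective representations lift to covers. -/
theorem exists_lift_rep {Γ : Type w} [Group Γ] {σ : Γ →* R} (hσ : Cfsg.IsStemExtension σ)
    (hcard : Nat.card (mult (std R)) ≤ Nat.card σ.ker) (n : ℕ)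
    (γ : R →* GL (Fin n) ℂ ⧸ center (GL (Fin n) ℂ)) :
    ∃ ρ : Γ →* GL (Fin n) ℂ, (QuotientGroup.mk' (center (GL (Fin n) ℂ))).comp ρ = γ.comp σ := by
  classical
  obtain ⟨ψ, hψ⟩ := exists_lift (π := std R) σ hσ.2.1 (MonoidHom.id R)
    (fun q _ => (hσ.1 q).elim fun x hx => ⟨x, hx⟩)
  have hs := surjective_of_stem (std_surjective R) hσ Function.bijective_id hψ
  obtain ⟨ρ', hρ'⟩ := exists_lift (π := std R) (QuotientGroup.mk' (center (GL (Fin n) ℂ)))
    (QuotientGroup.ker_mk' _).le γ (by rw [MonoidHom.range_eq_top.mpr (QuotientGroup.mk'_surjective _)]; exact le_top)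
  have hCk : ψ.ker ≤ (proj (std R)).ker := fun x hx => by
    rw [MonoidHom.mem_ker, ← show σ (ψ x) = proj (std R) x from DFunLike.congr_fun hψ x,
      MonoidHom.mem_ker.mp hx, map_one]
  have hCc : ψ.ker ⊓ _root_.commutator (E (std R)) = ⊥ := by
    rw [eq_bot_iff]
    rintro x ⟨h1, h2⟩
    exact (mem_bot).mpr (cover_bijective hσ hcard (hψ.trans (MonoidHom.id_comp _)) x ⟨hCk h1, h2⟩ h1)
  have hmem : ∀ c : ψ.ker, ρ' (c : E (std R)) ∈ center (GL (Fin n) ℂ) := fun c => by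
    rw [← QuotientGroup.eq_one_iff]
    refine (DFunLike.congr_fun hρ' (c : E (std R))).trans ?_
    show γ (proj (std R) (c : E (std R))) = 1
    rw [MonoidHom.mem_ker.mp (hCk c.2), map_one]
  have hZ : IsMulCommutative (center (GL (Fin n) ℂ)) := inferInstance
  open scoped IsMulCommutative in
  obtain ⟨f, hf⟩ := exists_extension (center_GL_divisible n) ψ.ker hCc
    ((ρ'.comp ψ.ker.subtype).codRestrict _ hmem)
  let ρ₀ : E (std R) →* GL (Fin n) ℂ := MonoidHom.mk' (fun x => ρ' x * ((f x : center (GL (Fin n) ℂ)) : GL (Fin n) ℂ)⁻¹)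
    fun x y => by
      rw [map_mul, map_mul, Subgroup.coe_mul, mul_inv_rev]
      have h1 := mem_center_iff.mp (inv_mem (f x).2) (ρ' y * ((f y : center (GL (Fin n) ℂ)) : GL (Fin n) ℂ)⁻¹)
      calc ρ' x * ρ' y * ((↑(f y) : GL (Fin n) ℂ)⁻¹ * (↑(f x) : GL (Fin n) ℂ)⁻¹)
          = ρ' x * ((ρ' y * (↑(f y) : GL (Fin n) ℂ)⁻¹) * (↑(f x) : GL (Fin n) ℂ)⁻¹) := by group
        _ = _ := by rw [h1]; group
  have hker : ψ.ker ≤ ρ₀.ker := fun x hx => by
    show ρ' x * ((f x : center (GL (Fin n) ℂ)) : GL (Fin n) ℂ)⁻¹ = 1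
    rw [show f x = _ from hf ⟨x, hx⟩]
    exact mul_inv_cancel _
  refine ⟨ψ.liftOfSurjective hs ⟨ρ₀, hker⟩, MonoidHom.ext fun y => ?_⟩
  obtain ⟨x, rfl⟩ := hs y
  show QuotientGroup.mk' _ (ψ.liftOfSurjective hs ⟨ρ₀, hker⟩ (ψ x)) = γ (σ (ψ x))
  rw [MonoidHom.liftOfRightInverse_comp_apply, show σ (ψ x) = proj (std R) x from DFunLike.congr_fun hψ x,
    ← show QuotientGroup.mk' (center (GL (Fin n) ℂ)) (ρ' x) = γ (proj (std R) x) from DFunLike.congr_fun hρ' x]
  show QuotientGroup.mk' (center (GL (Fin n) ℂ)) (ρ' x * _) = _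
  rw [map_mul, show QuotientGroup.mk' (center (GL (Fin n) ℂ)) (((f x : center (GL (Fin n) ℂ)) : GL (Fin n) ℂ)⁻¹) = 1
    from (QuotientGroup.eq_one_iff _).mpr (inv_mem (f x).2), mul_one]

/-- If all projective representations lift to `Γ` then `Γ` receives the multiplier injectively. -/
theorem injective_of_lifting {Γ : Type w} [Group Γ] {σ : Γ →* R}
    (hlift : ∀ (n : ℕ) (γ : R →* GL (Fin n) ℂ ⧸ center (GL (Fin n) ℂ)),
      ∃ ρ : Γ →* GL (Fin n) ℂ, (QuotientGroup.mk' (center (GL (Fin n) ℂ))).comp ρ = γ.comp σ)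
    {ψ : E (std R) →* Γ} (hψ : σ.comp ψ = proj (std R)) :
    ∀ m ∈ mult (std R), ψ m = 1 → m = 1 := by
  intro m hm hm1
  by_contra hne
  obtain ⟨Γ₀, i₀, j₀, σ₀, hσ₀, ⟨e⟩⟩ := exists_cover R
  obtain ⟨ψ₀, hψ₀⟩ := exists_lift (π := std R) σ₀ hσ₀.2.1 (MonoidHom.id R)
    (fun q _ => (hσ₀.1 q).elim fun x hx => ⟨x, hx⟩)
  have hk : ψ₀ m ∈ σ₀.ker := by
    rw [MonoidHom.mem_ker, show σ₀ (ψ₀ m) = proj (std R) m from DFunLike.congr_fun hψ₀ m]
    exact hm.1
  have hk1 : (⟨ψ₀ m, hk⟩ : σ₀.ker) ≠ 1 := fun h => hne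
    (cover_bijective hσ₀ (Nat.card_congr e.toEquiv).ge (hψ₀.trans (MonoidHom.id_comp _)) m hm (congrArg Subtype.val h))
  letI : CommGroup σ₀.ker :=
    { (inferInstance : Group σ₀.ker) with
      mul_comm := fun a b => Subtype.ext (mem_center_iff.mp (hσ₀.2.1 b.2) a) }
  obtain ⟨χ, hχ⟩ := CommGroup.exists_apply_ne_one_of_hasEnoughRootsOfUnity σ₀.ker ℂ hk1
  obtain ⟨ρ₀, hρ₀⟩ := exists_monomial σ₀ hσ₀.1 hσ₀.2.1 χ
  set Z := center (GL (Fin (Nat.card R)) ℂ)
  have hle : σ₀.ker ≤ ((QuotientGroup.mk' Z).comp ρ₀).ker := fun x hx => by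
    show QuotientGroup.mk' Z (ρ₀ x) = 1
    rw [QuotientGroup.mk'_apply, QuotientGroup.eq_one_iff, show ρ₀ x = _ from hρ₀ ⟨x, hx⟩]
    show _ ∈ center (GL (Fin (Nat.card R)) ℂ)
    rw [Matrix.GeneralLinearGroup.center_eq_range_scalar]
    exact ⟨_, rfl⟩
  set γ := σ₀.liftOfSurjective hσ₀.1 ⟨_, hle⟩
  obtain ⟨ρ, hρ⟩ := hlift _ γ
  have hd : ∀ x, (ρ (ψ x))⁻¹ * ρ₀ (ψ₀ x) ∈ Z := fun x => by
    rw [← QuotientGroup.eq_one_iff, QuotientGroup.mk_mul, QuotientGroup.mk_inv, inv_mul_eq_one]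
    refine (DFunLike.congr_fun hρ (ψ x)).trans ?_
    show γ (σ (ψ x)) = _
    rw [show σ (ψ x) = proj (std R) x from DFunLike.congr_fun hψ x,
      ← show σ₀ (ψ₀ x) = proj (std R) x from DFunLike.congr_fun hψ₀ x]
    exact MonoidHom.liftOfRightInverse_comp_apply _ _ _ _ _
  let d : E (std R) →* Z := MonoidHom.mk' (fun x => ⟨_, hd x⟩) fun x y => by
    apply Subtype.ext
    show (ρ (ψ (x * y)))⁻¹ * ρ₀ (ψ₀ (x * y)) = (ρ (ψ x))⁻¹ * ρ₀ (ψ₀ x) * ((ρ (ψ y))⁻¹ * ρ₀ (ψ₀ y))
    simp only [map_mul, mul_inv_rev]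
    calc (ρ (ψ y))⁻¹ * (ρ (ψ x))⁻¹ * (ρ₀ (ψ₀ x) * ρ₀ (ψ₀ y))
        = (ρ (ψ y))⁻¹ * ((ρ (ψ x))⁻¹ * ρ₀ (ψ₀ x)) * ρ₀ (ψ₀ y) := by group
      _ = (ρ (ψ x))⁻¹ * ρ₀ (ψ₀ x) * (ρ (ψ y))⁻¹ * ρ₀ (ψ₀ y) := by rw [mem_center_iff.mp (hd x) (ρ (ψ y))⁻¹]
      _ = _ := by group
  have hdker : _root_.commutator (E (std R)) ≤ d.ker := by
    rw [_root_.commutator_def, commutator_le]
    intro a _ b _
    rw [MonoidHom.mem_ker, map_commutatorElement, commutatorElement_eq_one_iff_commute]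
    exact Subtype.ext (mem_center_iff.mp (d b).2 (d a : GL (Fin (Nat.card R)) ℂ))
  have h1 : (ρ (ψ m))⁻¹ * ρ₀ (ψ₀ m) = 1 := congrArg Subtype.val (hdker hm.2 : d m = 1)
  rw [hm1, map_one, inv_one, one_mul, show ρ₀ (ψ₀ m) = _ from hρ₀ ⟨ψ₀ m, hk⟩] at h1
  apply hχ
  have h2 : (Matrix.scalar (Fin (Nat.card R)) ((χ ⟨ψ₀ m, hk⟩ : ℂˣ) : ℂ)) = 1 := congrArg Units.val h1
  have h3 : 0 < Nat.card R := Nat.card_pos
  have h4 := congrArg (fun M : Matrix (Fin (Nat.card R)) (Fin (Nat.card R)) ℂ => M ⟨0, h3⟩ ⟨0, h3⟩) h2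
  simp at h4
  exact h4

end Cfsg.Agent.ProjExt.Schur
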