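import Cfsg.Agent.ProjExt.Criteria

/-!
A supplement of `N` on which some character extends gives an exponent of the obstruction cocycle:
the multiplicity of that character in the restriction.
-/

namespace Cfsg.Agent.ProjExt

open Module

universe u

variable {G : Type u} [Group G] [Finite G] {N : Subgroup G} [N.Normal] {θ : N → ℂ}

/-- The inclusion of the part of `N` lying in `E`. -/
def subgroupOfHom (N E : Subgroup G) : N.subgroupOf E →* N :=
  MonoidHom.mk' (fun y => ⟨((y : E) : G), Subgroup.mem_subgroupOf.1 y.2⟩) fun _ _ => rfl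

/-- If `E` supplements `N` and `σ` is a representation of `E` then the dimension of the space of
intertwining maps from `σ` to the representation of `N`, both restricted to `E ⊓ N`, is an
exponent at which the cocycle splits. -/
theorem Data.mult_mem_splitExp (D : Data N θ) (E : Subgroup G) (hE : E ⊔ N = ⊤) {V : Type*}
    [AddCommGroup V] [Module ℂ V] [FiniteDimensional ℂ V] (σ : Representation ℂ E V) {m : ℕ}
    (hm : finrank ℂ (Representation.IntertwiningMap (σ.comp (N.subgroupOf E).subtype)
      (D.ρ.comp (subgroupOfHom N E))) = m) (hm0 : m ≠ 0) :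
    (m : ℤ) ∈ splitExp N ⊤ D.f := by
  classical
  set σQ : Representation ℂ (N.subgroupOf E) V := σ.comp (N.subgroupOf E).subtype
  set ρQ : Representation ℂ (N.subgroupOf E) (Fin D.d → ℂ) := D.ρ.comp (subgroupOfHom N E)
  haveI : FiniteDimensional ℂ (Representation.IntertwiningMap σQ ρQ) :=
    Module.finite_of_finrank_pos (hm ▸ Nat.pos_of_ne_zero hm0)
  have hX : ∀ (g : G) (n : N) (v : Fin D.d → ℂ),
      (D.X g).1 (D.ρ ⟨g⁻¹ * n * g,
        by simpa using (inferInstance : N.Normal).conj_mem (n : G) n.2 g⁻¹⟩ v) =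
        D.ρ n ((D.X g).1 v) := by
    intro g n v
    set m' : N := ⟨g⁻¹ * n * g,
      by simpa using (inferInstance : N.Normal).conj_mem (n : G) n.2 g⁻¹⟩
    have h1 : D.X g * D.X m' = D.X n * D.X g := by
      rw [D.mul, D.mul, D.cocycle.right_one _ _ m'.2, D.cocycle.left_one _ n.2]
      simp [m', mul_assoc]
    have h3 := congrArg (fun u : EndU D.d => u.1 v) h1
    simpa [D.X_coe] using h3
  have hσ : ∀ (g : E) (y : N.subgroupOf E) (v : V),
      σ g⁻¹ (σQ y v) = σQ ⟨g⁻¹ * y * g, by
        simpa using (inferInstance : (N.subgroupOf E).Normal).conj_mem (y : E) y.2 g⁻¹⟩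
          (σ g⁻¹ v) := by
    intro g y v
    show σ g⁻¹ (σ (y : E) v) = σ (g⁻¹ * y * g) (σ g⁻¹ v)
    rw [← Module.End.mul_apply (σ g⁻¹), ← map_mul, ← Module.End.mul_apply (σ (g⁻¹ * y * g)),
      ← map_mul]
    simp [mul_assoc]
  let Yl : E → Module.End ℂ (Representation.IntertwiningMap σQ ρQ) := fun g =>
    { toFun := fun T => ⟨(D.X (g : G)).1 ∘ₗ T.toLinearMap ∘ₗ σ g⁻¹, fun y =>
        LinearMap.ext fun v => by
          show (D.X (g : G)).1 (T.toLinearMap (σ g⁻¹ (σQ y v))) =
            ρQ y ((D.X (g : G)).1 (T.toLinearMap (σ g⁻¹ v)))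
          rw [hσ]
          refine (congrArg (D.X (g : G)).1
            (Representation.IntertwiningMap.isIntertwining _ _ T _ _)).trans ?_
          exact hX (g : G) (subgroupOfHom N E y) _⟩
      map_add' := fun T T' => Representation.IntertwiningMap.ext (LinearMap.ext fun v => by simp)
      map_smul' := fun c T => Representation.IntertwiningMap.ext (LinearMap.ext fun v => by simp) }
  have hYl : ∀ g T v, (Yl g T).toLinearMap v =
      (D.X (g : G)).1 (T.toLinearMap (σ g⁻¹ v)) := fun _ _ _ => rfl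
  have hmul : ∀ g k : E, Yl g * Yl k = (D.f g k : ℂ) • Yl (g * k) := by
    intro g k
    refine LinearMap.ext fun T => Representation.IntertwiningMap.ext (LinearMap.ext fun v => ?_)
    simp only [Module.End.mul_apply, LinearMap.smul_apply,
      Representation.IntertwiningMap.toLinearMap_smul, hYl]
    rw [← Module.End.mul_apply (σ k⁻¹), ← map_mul, ← mul_inv_rev, Subgroup.coe_mul]
    have h1 := congrArg (fun u : EndU D.d => u.1 (T.toLinearMap (σ (g * k)⁻¹ v))) (D.mul g k)
    simp only [Units.val_mul, Module.End.mul_apply, scalarU_val,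
      Module.algebraMap_end_apply] at h1
    exact h1
  have hone : ∀ y : E, (y : G) ∈ N → Yl y = 1 := by
    intro y hy
    refine LinearMap.ext fun T => Representation.IntertwiningMap.ext (LinearMap.ext fun v => ?_)
    rw [Module.End.one_apply, hYl, D.X_coe ⟨y, hy⟩]
    refine (Representation.IntertwiningMap.isIntertwining _ _ T
      ⟨y, Subgroup.mem_subgroupOf.2 hy⟩ (σ y⁻¹ v)).symm.trans ?_
    show T.toLinearMap (σ y (σ y⁻¹ v)) = T.toLinearMap v
    rw [← Module.End.mul_apply, ← map_mul, mul_inv_cancel, map_one, Module.End.one_apply]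
  have hinj : ∀ g, IsUnit (LinearMap.det (Yl g)) := by
    intro g
    have h1 := congrArg LinearMap.det (hmul g⁻¹ g)
    rw [inv_mul_cancel, hone 1 N.one_mem, map_mul, LinearMap.det_smul, map_one, mul_one] at h1
    exact isUnit_of_mul_isUnit_right (h1 ▸ (D.f _ _).isUnit.pow _)
  let δ : E → ℂˣ := fun g => (hinj g).unit
  have hδ : ∀ g k : E, δ g * δ k = D.f g k ^ m * δ (g * k) := by
    intro g k
    ext
    have h1 := congrArg LinearMap.det (hmul g k)
    rw [map_mul, LinearMap.det_smul, hm] at h1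
    simpa [δ] using h1
  have hδN : ∀ y : E, (y : G) ∈ N → δ y = 1 := fun y hy => by
    ext
    simp [δ, hone y hy]
  have hδr : ∀ g k : E, (g : G)⁻¹ * k ∈ N → δ g = δ k := by
    intro g k hgk
    have h1 := hδ g (g⁻¹ * k)
    rw [mul_inv_cancel_left, hδN (g⁻¹ * k) hgk, D.cocycle.right_one _ _
      (show ((g⁻¹ * k : E) : G) ∈ N from hgk), one_pow, one_mul, mul_one] at h1
    exact h1
  have hs : ∀ g : G, ∃ e : E, (e : G)⁻¹ * g ∈ N := by
    intro g
    obtain ⟨e, he, n, hn, rfl⟩ :=
      Subgroup.mem_sup_of_normal_right.1 (hE ▸ Subgroup.mem_top g : g ∈ E ⊔ N)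
    exact ⟨⟨e, he⟩, by simpa using hn⟩
  choose s hs using hs
  refine ⟨fun g => δ (s g), fun n hn => hδN _ ?_, fun g _ k _ => ?_⟩
  · exact (inv_mem_iff).1 (by simpa using mul_mem (hs n) (inv_mem hn))
  · show D.f g k ^ (m : ℤ) = δ (s g) * δ (s k) * (δ (s (g * k)))⁻¹
    have hgk : ((s (g * k) : E) : G)⁻¹ * ((s g * s k : E) : G) ∈ N := by
      rw [← QuotientGroup.eq, Subgroup.coe_mul, QuotientGroup.mk_mul,
        QuotientGroup.eq.2 (hs (g * k)), QuotientGroup.eq.2 (hs g), QuotientGroup.eq.2 (hs k),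
        QuotientGroup.mk_mul]
    rw [hδr _ _ hgk, hδ, mul_inv_cancel_right, zpow_natCast,
      D.cocycle.congr_mk (QuotientGroup.eq.2 (hs g)) (QuotientGroup.eq.2 (hs k))]

end Cfsg.Agent.ProjExt
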