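import Cfsg.Agent.ProjExt.Dade
import Cfsg.Agent.ProjExt.Multiplicity
import Cfsg.Agent.Char.Linear
import Mathlib.GroupTheory.NoncommCoprod

/-!
Invariant characters of a normal subgroup of `p`-power index extend when the intersection with a
Sylow `p`-subgroup `P` is central in `P` and its linear characters extend to `P`.
-/

namespace Cfsg.Agent.ProjExt

open Char
open scoped ComplexConjugate

universe u

/-- A homomorphism defined on a group embedded in a commutative finite group extends. -/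
theorem exists_hom_extend {A : Type u} [Group A] [Finite A] (hA : ∀ a b : A, a * b = b * a)
    {R : Type u} [Group R] (j : R →* A) (hj : Function.Injective j) (lam : R →* ℂˣ) :
    ∃ ν : A →* ℂˣ, ∀ r, ν (j r) = lam r := by
  classical
  have := Fintype.ofFinite A
  letI := Fintype.ofFinite j.range
  let e : R ≃* j.range := MonoidHom.ofInjective hj
  let lT : j.range →* ℂˣ := lam.comp e.symm.toMonoidHom
  obtain ⟨χ, hχ⟩ := IsChar.exists_constituent
    (isCharacter_indFun j.range (isCharacter_hom lT)) (by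
      intro h
      have := congrFun h 1
      rw [indFun_apply_one, Pi.zero_apply, mul_eq_zero] at this
      simp [Subgroup.index_ne_zero_of_finite] at this)
  obtain ⟨ν, hν⟩ := IsChar.exists_hom (IsIrr.isCharacter χ.2) (IsIrr.degree_one_of_comm χ.2 hA)
  refine ⟨ν, fun r => ?_⟩
  rw [classInner_indFun_left j.range _ (isClassFunction_of_isIrr χ.2), hν] at hχ
  have h1 : (fun t : j.range => (lT t : ℂ)) = fun t : j.range => (ν t : ℂ) := by
    by_contra hne
    exact hχ (classInner_irr_ne (isIrrCharacter_hom lT)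
      (isIrrCharacter_hom (ν.comp j.range.subtype)) hne)
  have h2 := congrFun h1 (e r)
  simp only [lT, MonoidHom.comp_apply, MulEquiv.coe_toMonoidHom, MulEquiv.symm_apply_apply] at h2
  exact (Units.ext h2).symm

variable {G : Type u} [Group G] [Fintype G] {p : ℕ} [Fact p.Prime]

theorem extends_of_central_sylow (hB : LocalInduction p G) (N : Subgroup G) [N.Normal]
    [Fintype N] (hind : ∃ k : ℕ, N.index = p ^ k) (P : Sylow p G)
    (hcent : ∀ x ∈ (P : Subgroup G) ⊓ N, ∀ y ∈ (P : Subgroup G), x * y = y * x)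
    (hlin : ∀ lam : ↥((P : Subgroup G) ⊓ N) →* ℂˣ, ∃ μ : (P : Subgroup G) →* ℂˣ,
      ∀ x : ↥((P : Subgroup G) ⊓ N), μ ⟨(x : G), x.2.1⟩ = lam x)
    {θ : N → ℂ} (hθ : IsIrrCharacter N θ) (hinv : ∀ g : G, conjFun g θ = θ) :
    ∃ χ : G → ℂ, IsIrrCharacter G χ ∧ ∀ n : N, χ n = θ n := by
  classical
  have hp : p.Prime := Fact.out
  obtain ⟨E, _, α, m, ⟨x, hxc, hxcop, j, hxidx⟩, hEN, hα, -, hpm, hmult⟩ :=
    exists_elementary_constituent hp hB N hind hθ hinv
  obtain ⟨k, hk⟩ := hind
  let Q : Subgroup E := N.subgroupOf E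
  have hQidx : Q.index = p ^ k := by
    have h := Subgroup.relIndex_sup_right (H := E) (K := N)
    rw [hEN, Subgroup.relIndex_top_right, hk] at h
    exact h.symm
  -- the cyclic part lies in `N`
  have hxQ : x ∈ Q := by
    have h1 : x ^ p ^ k ∈ Q := hQidx ▸ Q.pow_index_mem x
    have h2 : Nat.Coprime (p ^ k) (orderOf x) := Nat.Coprime.pow_left _ hxcop.symm
    obtain ⟨n, hn⟩ := exists_pow_eq_self_of_coprime h2
    exact hn ▸ Q.pow_mem h1 n
  obtain ⟨S⟩ : Nonempty (Sylow p E) := inferInstance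
  -- move the Sylow subgroup of `E` into `P`
  obtain ⟨P', hP'⟩ := (S.isPGroup'.map E.subtype).exists_le_sylow
  obtain ⟨g, hg⟩ := MulAction.exists_smul_eq G P' P
  have hjmem : ∀ s : (S : Subgroup E), g * ((s : E) : G) * g⁻¹ ∈ (P : Subgroup G) := by
    intro s
    rw [← hg, Sylow.coe_subgroup_smul]
    exact Subgroup.smul_mem_pointwise_smul _ (MulAut.conj g) _
      (hP' (Subgroup.mem_map_of_mem E.subtype s.2))
  let jS : (S : Subgroup E) →* (P : Subgroup G) :=
    MonoidHom.mk' (fun s => ⟨g * ((s : E) : G) * g⁻¹, hjmem s⟩)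
      fun s t => Subtype.ext (by simp [mul_assoc])
  have hjN : ∀ s : (S : Subgroup E), (s : E) ∈ Q → (jS s : G) ∈ (P : Subgroup G) ⊓ N := fun s hs =>
    ⟨(jS s).2, (inferInstance : N.Normal).conj_mem _ (Subgroup.mem_subgroupOf.1 hs) g⟩
  have hjinj : ∀ s t : (S : Subgroup E), (jS s : G) = jS t → s = t := fun s t h =>
    Subtype.ext (Subtype.ext (mul_left_cancel (mul_right_cancel h)))
  -- `E` is the product of the two parts
  have hcomm : ∀ (c : Subgroup.zpowers x) (s : (S : Subgroup E)),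
      Commute ((Subgroup.zpowers x).subtype c) ((S : Subgroup E).subtype s) := fun c s =>
    (Subgroup.mem_center_iff.1 ((Subgroup.zpowers_le.2 hxc) c.2) _).symm
  let F := MonoidHom.noncommCoprod _ _ hcomm
  have hdisj : Disjoint (Subgroup.zpowers x) (S : Subgroup E) := by
    refine disjoint_iff.2 (Subgroup.inf_eq_bot_of_coprime ?_)
    obtain ⟨i, hi⟩ := S.isPGroup'.exists_card_eq
    rw [Nat.card_zpowers, hi]
    exact Nat.Coprime.pow_right _ hxcop
  have hsup : Subgroup.zpowers x ⊔ (S : Subgroup E) = ⊤ := by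
    rw [← Subgroup.index_eq_one]
    obtain ⟨i, -, hi⟩ := (Nat.dvd_prime_pow hp).1 (hxidx ▸ Subgroup.index_dvd_of_le
      (le_sup_left : Subgroup.zpowers x ≤ Subgroup.zpowers x ⊔ (S : Subgroup E)))
    rcases Nat.eq_zero_or_pos i with rfl | hi0
    · simpa using hi
    · exact absurd ((hi ▸ dvd_pow_self p hi0.ne').trans (Subgroup.index_dvd_of_le le_sup_right))
        S.not_dvd_index
  have hFbij : Function.Bijective F := by
    refine ⟨(MonoidHom.noncommCoprod_injective _ _ hcomm).2
      ⟨Subtype.val_injective, Subtype.val_injective, ?_⟩, ?_⟩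
    · rwa [Subgroup.range_subtype, Subgroup.range_subtype]
    · rw [← MonoidHom.range_eq_top, MonoidHom.noncommCoprod_range, Subgroup.range_subtype,
        Subgroup.range_subtype, hsup]
  -- `Q` is abelian
  have hdec : ∀ y : Q, ∃ (c : Subgroup.zpowers x) (s : (S : Subgroup E)),
      (y : E) = (c : E) * s ∧ (s : E) ∈ Q := by
    intro y
    obtain ⟨⟨c, s⟩, hcs⟩ := hFbij.2 (y : E)
    refine ⟨c, s, hcs.symm, ?_⟩
    have : (s : E) = (c : E)⁻¹ * (y : E) := by rw [← hcs]; exact (inv_mul_cancel_left _ _).symm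
    exact this ▸ Q.mul_mem (Q.inv_mem ((Subgroup.zpowers_le.2 hxQ) c.2)) y.2
  have hScomm : ∀ s t : (S : Subgroup E), (s : E) ∈ Q → s * t = t * s := fun s t hs =>
    hjinj _ _ (by
      rw [map_mul, map_mul, Subgroup.coe_mul, Subgroup.coe_mul]
      exact hcent _ (hjN s hs) _ (jS t).2)
  have hQcomm : ∀ a b : Q, a * b = b * a := by
    intro a b
    obtain ⟨c, s, hab, hs⟩ := hdec a
    refine Subtype.ext (Subgroup.mem_center_iff.1 ?_ (b : E)).symm
    rw [hab]
    refine mul_mem (Subgroup.zpowers_le.2 hxc c.2) (Subgroup.mem_center_iff.2 fun e => ?_)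
    obtain ⟨⟨c', t⟩, rfl⟩ := hFbij.2 e
    show (c' : E) * t * s = s * ((c' : E) * t)
    rw [← mul_assoc (s : E), show (s : E) * (c' : E) = (c' : E) * s from (hcomm c' s).eq.symm,
      mul_assoc, mul_assoc]
    exact congrArg ((c' : E) * ·) (congrArg Subtype.val (hScomm s t hs)).symm
  obtain ⟨a, ha⟩ := IsChar.exists_hom (IsIrr.isCharacter hα) (IsIrr.degree_one_of_comm hα hQcomm)
  -- extend `α` to `E`
  let R := Q.subgroupOf (S : Subgroup E)
  let jR : R →* ↥((P : Subgroup G) ⊓ N) :=
    MonoidHom.mk' (fun r => ⟨(jS r : G), hjN r (Subgroup.mem_subgroupOf.1 r.2)⟩)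
      fun r t => Subtype.ext (by simp [map_mul])
  obtain ⟨ν, hν⟩ := exists_hom_extend (A := ↥((P : Subgroup G) ⊓ N))
    (fun u v => Subtype.ext (hcent _ u.2 _ v.2.1)) jR
    (fun r t h => Subtype.ext (hjinj _ _ (congrArg (fun z : ↥((P : Subgroup G) ⊓ N) => (z : G)) h)))
    (a.comp (MonoidHom.mk' (fun r : R => (⟨((r : (S : Subgroup E)) : E),
      Subgroup.mem_subgroupOf.1 r.2⟩ : Q)) fun _ _ => rfl))
  obtain ⟨μ, hμ⟩ := hlin ν
  let aC : Subgroup.zpowers x →* ℂˣ :=
    a.comp (Subgroup.inclusion (Subgroup.zpowers_le.2 hxQ))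
  let ext : E →* ℂˣ :=
    (aC.coprod (μ.comp jS)).comp (MulEquiv.ofBijective F hFbij).symm.toMonoidHom
  have hext : ∀ y : Q, ext (y : E) = a y := by
    intro y
    obtain ⟨c, s, hy, hs⟩ := hdec y
    have hF : (MulEquiv.ofBijective F hFbij).symm (y : E) = (c, s) := by
      rw [MulEquiv.symm_apply_eq]; exact hy
    have hy' : y = (Subgroup.inclusion (Subgroup.zpowers_le.2 hxQ) c : Q) * ⟨(s : E), hs⟩ :=
      Subtype.ext hy
    show (aC.coprod (μ.comp jS)) ((MulEquiv.ofBijective F hFbij).symm (y : E)) = a y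
    rw [hF, MonoidHom.coprod_apply, hy', map_mul]
    refine congrArg₂ (· * ·) rfl ?_
    exact ((hμ (jR ⟨s, Subgroup.mem_subgroupOf.2 hs⟩)).trans (hν _))
  -- conclude
  obtain ⟨D⟩ := exists_data hθ fun g n => congrFun (hinv g) n
  refine D.exists_extension_of_splits ?_
  have hm0 : m ≠ 0 := fun h => hpm (h ▸ dvd_zero p)
  have hrank : Module.finrank ℂ (Representation.IntertwiningMap
      ((linRep ext).comp Q.subtype) (D.ρ.comp (subgroupOfHom N E))) = m := by
    have h1 := classInner_character_eq_finrank (D.ρ.comp (subgroupOfHom N E))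
      ((linRep ext).comp Q.subtype)
    have h2 : Representation.character ((linRep ext).comp Q.subtype) = α := by
      funext y
      rw [ha]
      exact (congrFun (character_linRep ext) (y : E)).trans (congrArg Units.val (hext y))
    have h3 : Representation.character (D.ρ.comp (subgroupOfHom N E)) =
        fun y : Q => θ ⟨((y : E) : G), Subgroup.mem_subgroupOf.1 y.2⟩ := by
      funext y
      exact congrFun D.char_eq (subgroupOfHom N E y)
    rw [h2, h3, hmult] at h1
    exact_mod_cast h1.symm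
  exact splits_of_coprime (D.mult_mem_splitExp E hEN (linRep ext) hrank hm0)
    D.cocycle.index_mem_splitExp hm0
    (hk ▸ (Nat.Coprime.pow_right _ ((Nat.Prime.coprime_iff_not_dvd hp).2 hpm).symm))

end Cfsg.Agent.ProjExt
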