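import Cfsg.Agent.ProjExt.Data
import Cfsg.Agent.Char.Ortho
import Mathlib.RingTheory.RootsOfUnity.Complex

/-!
A central element of the derived subgroup of a finite group: the cube of its order divides the
order of the group.
-/

set_option autoImplicit false

namespace Cfsg.Agent.ProjExt

open Module
open scoped ComplexConjugate

/-- On an irreducible representation a central element of the derived subgroup acts by a root of
unity of order dividing both the degree and its own order. -/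
theorem exists_central_value {Γ : Type*} [Group Γ] [Finite Γ] {χ : Γ → ℂ}
    (hχ : Cfsg.IsIrrCharacter Γ χ) {z : Γ} (hz : z ∈ Subgroup.center Γ)
    (hz' : z ∈ _root_.commutator Γ) :
    ∃ (d : ℕ) (w : ℂˣ), χ 1 = d ∧ w ^ d = 1 ∧ w ^ orderOf z = 1 ∧
      ∀ j : ℕ, χ (z ^ j) = (w : ℂ) ^ j * d := by
  classical
  obtain ⟨d, ρ, hρ, rfl⟩ := hχ
  obtain ⟨c, hc⟩ := exists_scalarU ρ hρ (ρ.toHomUnits z) fun g => by
    show ρ z * ρ g = ρ g * ρ z
    rw [← map_mul, ← map_mul, Subgroup.mem_center_iff.1 hz g]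
  have hd : 0 < d := by
    rcases Nat.eq_zero_or_pos d with rfl | h
    · exact absurd (Char.isIrreducible_iff.1 hρ).1 (not_nontrivial _)
    · exact h
  refine ⟨d, c, by rw [ρ.char_one, Module.finrank_fin_fun], ?_, ?_, fun j => ?_⟩
  · rw [← detU_scalarU d c, ← hc]
    have h : _root_.commutator Γ ≤ ((detU d).comp ρ.toHomUnits).ker :=
      Abelianization.commutator_subset_ker _
    exact h hz'
  · apply scalarU_injective hd
    rw [map_pow, ← hc, ← map_pow, pow_orderOf_eq_one, map_one, map_one]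
  · have h : ρ (z ^ j) = algebraMap ℂ _ ((c : ℂ) ^ j) := by
      rw [map_pow, map_pow, show ρ z = algebraMap ℂ _ (c : ℂ) from congrArg Units.val hc]
    show LinearMap.trace ℂ _ (ρ (z ^ j)) = _
    rw [h, Algebra.algebraMap_eq_smul_one, map_smul, LinearMap.trace_one,
      Module.finrank_fin_fun, smul_eq_mul]

theorem orderOf_pow_three_dvd_card {Γ : Type*} [Group Γ] [Finite Γ] {z : Γ}
    (hz : z ∈ Subgroup.center Γ) (hz' : z ∈ _root_.commutator Γ) :
    orderOf z ^ 3 ∣ Nat.card Γ := by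
  classical
  set e := orderOf z with he
  have he0 : e ≠ 0 := (orderOf_pos z).ne'
  choose d w h1 h2 h3 h4 using fun χ : Cfsg.IrrCharacter Γ => exists_central_value χ.2 hz hz'
  let ζ : ℂˣ := ((Complex.isPrimitiveRoot_exp e he0).isUnit he0).unit
  have hζ : IsPrimitiveRoot ζ e :=
    IsPrimitiveRoot.coe_units_iff.1 (Complex.isPrimitiveRoot_exp e he0)
  set s := Finset.univ.filter (fun χ : Cfsg.IrrCharacter Γ => w χ = ζ) with hs
  have hdvd : ∀ χ ∈ s, e ∣ d χ := fun χ hχ => by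
    rw [hζ.eq_orderOf, orderOf_dvd_iff_pow_eq_one, ← (Finset.mem_filter.1 hχ).2]
    exact h2 χ
  have hA : ∀ j ∈ Finset.range e,
      ∑ χ : Cfsg.IrrCharacter Γ, ((w χ * ζ⁻¹ : ℂˣ) : ℂ) ^ j * (d χ : ℂ) ^ 2 =
        ((ζ⁻¹ : ℂˣ) : ℂ) ^ j * if j = 0 then (Nat.card Γ : ℂ) else 0 := fun j hj => by
    have hif : (if j = 0 then (Nat.card Γ : ℂ) else 0) = if z ^ j = 1 then (Nat.card Γ : ℂ) else 0 := by
      refine if_congr ⟨fun h => by rw [h, pow_zero], fun h => ?_⟩ rfl rfl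
      exact Nat.eq_zero_of_dvd_of_lt (orderOf_dvd_of_pow_eq_one h) (Finset.mem_range.1 hj)
    rw [hif, ← Char.regular_eq_sum (z ^ j), Finset.mul_sum]
    refine Finset.sum_congr rfl fun χ _ => ?_
    rw [h1 χ, h4 χ j, Units.val_mul, mul_pow]
    ring
  have hB : ∀ χ : Cfsg.IrrCharacter Γ, ∑ j ∈ Finset.range e, ((w χ * ζ⁻¹ : ℂˣ) : ℂ) ^ j =
      if w χ = ζ then (e : ℂ) else 0 := fun χ => by
    split_ifs with h
    · simp [h]
    · have hne : ((w χ * ζ⁻¹ : ℂˣ) : ℂ) ≠ 1 := fun h' => h (mul_inv_eq_one.1 (Units.ext h'))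
      rw [geom_sum_eq hne, ← Units.val_pow_eq_pow_val, mul_pow, inv_pow, hζ.pow_eq_one, h3 χ]
      simp
  have hsum : (e : ℂ) * ∑ χ ∈ s, (d χ : ℂ) ^ 2 = (Nat.card Γ : ℂ) := by
    calc (e : ℂ) * ∑ χ ∈ s, (d χ : ℂ) ^ 2
        = ∑ χ, (∑ j ∈ Finset.range e, ((w χ * ζ⁻¹ : ℂˣ) : ℂ) ^ j) * (d χ : ℂ) ^ 2 := by
          rw [hs, Finset.sum_filter, Finset.mul_sum]
          exact Finset.sum_congr rfl fun χ _ => by rw [hB χ]; split_ifs <;> simp
      _ = ∑ j ∈ Finset.range e, ∑ χ, ((w χ * ζ⁻¹ : ℂˣ) : ℂ) ^ j * (d χ : ℂ) ^ 2 := by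
          simp_rw [Finset.sum_mul]; exact Finset.sum_comm
      _ = ∑ j ∈ Finset.range e, ((ζ⁻¹ : ℂˣ) : ℂ) ^ j * if j = 0 then (Nat.card Γ : ℂ) else 0 :=
          Finset.sum_congr rfl hA
      _ = (Nat.card Γ : ℂ) := by
          simp [mul_ite, Finset.sum_ite_eq', Nat.pos_of_ne_zero he0]
  have hnat : e * ∑ χ ∈ s, d χ ^ 2 = Nat.card Γ := by exact_mod_cast hsum
  rw [← hnat, pow_succ']
  exact mul_dvd_mul_left e (Finset.dvd_sum fun χ hχ => pow_dvd_pow_of_dvd (hdvd χ hχ) 2)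

end Cfsg.Agent.ProjExt
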