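import Cfsg.Agent.ProjExt.CliffordCorr
import Cfsg.Agent.Char.Induced
import Mathlib.GroupTheory.FiniteAbelian.Duality
import Mathlib.RingTheory.RootsOfUnity.AlgebraicallyClosed

/-!
The restriction of an invariant irreducible character along an abelian chief section.
-/

namespace Cfsg.Agent.ProjExt

open Char
open scoped ComplexConjugate commutatorElement

universe u

section Twist

variable {K : Type u} [Group K] [Fintype K]

theorem isIrr_hom_mul (ν : K →* ℂˣ) {θ : K → ℂ} (hθ : IsIrrCharacter K θ) :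
    IsIrrCharacter K (fun k => (ν k : ℂ) * θ k) := by
  have hc : IsCharacter K (fun k => (ν k : ℂ) * θ k) :=
    isCharacter_mul (isCharacter_hom ν) (IsIrr.isCharacter hθ)
  refine (isIrr_iff_norm_one hc).2 ?_
  rw [← classInner_irr_self hθ, classInner, classInner]
  congr 1
  refine Finset.sum_congr rfl fun k _ => ?_
  have h1 : (ν k : ℂ) * conj (ν k : ℂ) = 1 := by
    have hk : ((ν k : ℂ)) ^ orderOf k = 1 := by
      rw [← Units.val_pow_eq_pow_val, ← map_pow, pow_orderOf_eq_one, map_one, Units.val_one]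
    rw [Complex.mul_conj', Complex.norm_eq_one_of_pow_eq_one hk (orderOf_pos k).ne']
    simp
  simp only [map_mul]
  linear_combination (θ k * conj (θ k)) * h1

/-- Support in a normal subgroup on which the character is a multiple of an irreducible one. -/
theorem sq_eq_index_of_support {L : Subgroup K} [Fintype L] {θ : K → ℂ}
    (hθ : IsIrrCharacter K θ) {φ : L → ℂ} (hφ : IsIrrCharacter L φ) {e : ℕ}
    (hres : ∀ x : L, θ x = e * φ x) (hsupp : ∀ k, k ∉ L → θ k = 0) : e ^ 2 = L.index := by
  classical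
  have h1 := classInner_irr_self hθ
  rw [classInner, inv_mul_eq_one₀ card_ne_zero,
    ← Finset.sum_subset (Finset.subset_univ (Finset.univ.filter fun k => k ∈ L))
      (fun k _ hk => by rw [hsupp k fun h => hk (Finset.mem_filter.2 ⟨Finset.mem_univ _, h⟩), zero_mul]),
    Finset.sum_subtype _ (p := fun k => k ∈ L) (fun k => by simp)] at h1
  have h2 : ∑ x : L, θ x * conj (θ x) = ((e ^ 2 : ℕ) : ℂ) * (Nat.card L : ℂ) := by
    have h := classInner_irr_self hφ
    rw [classInner, inv_mul_eq_one₀ card_ne_zero] at h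
    rw [h, Finset.mul_sum]
    refine Finset.sum_congr rfl fun x _ => ?_
    rw [hres, map_mul, Complex.conj_natCast, Nat.cast_pow]
    ring
  rw [h2, ← Subgroup.card_mul_index L, Nat.cast_mul, mul_comm ((e ^ 2 : ℕ) : ℂ)] at h1
  exact_mod_cast (mul_left_cancel₀ (Nat.cast_ne_zero.2 Nat.card_pos.ne') h1).symm

/-- When the twists by the characters of an abelian quotient are all different the multiplicity
is one. -/
theorem multiplicity_one_of_twist {L : Subgroup K} [L.Normal] [Fintype L]
    (hab : ∀ a b : K ⧸ L, a * b = b * a) {θ : K → ℂ} (hθ : IsIrrCharacter K θ) {φ : L → ℂ}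
    (hφ : IsIrrCharacter L φ) (hinv : ∀ k : K, conjFun k φ = φ) {e : ℕ}
    (hres : ∀ x : L, θ x = e * φ x)
    (hfree : ∀ ν : K →* ℂˣ, (∀ x ∈ L, ν x = 1) → (∀ k, θ k ≠ 0 → ν k = 1) → ν = 1) : e = 1 := by
  classical
  letI : CommGroup (K ⧸ L) := { (inferInstance : Group (K ⧸ L)) with mul_comm := hab }
  haveI : NeZero ((Monoid.exponent (K ⧸ L) : ℕ) : ℂ) :=
    ⟨Nat.cast_ne_zero.2 Monoid.exponent_ne_zero_of_finite⟩
  have hcard : Nat.card ((K ⧸ L) →* ℂˣ) = L.index :=
    CommGroup.card_monoidHom_of_hasEnoughRootsOfUnity (K ⧸ L) ℂ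
  have he0 : e ≠ 0 := by
    rintro rfl
    exact IsIrr.one_ne_zero hθ (by simpa using hres 1)
  let F : ((K ⧸ L) →* ℂˣ) → IrrCharacter K := fun ν =>
    ⟨fun k => (ν.comp (QuotientGroup.mk' L) k : ℂ) * θ k,
      isIrr_hom_mul (ν.comp (QuotientGroup.mk' L)) hθ⟩
  have hone : ∀ (ν : (K ⧸ L) →* ℂˣ) (x : L), ν (QuotientGroup.mk' L (x : K)) = 1 := fun ν x => by
    show ν (QuotientGroup.mk (x : K)) = 1
    rw [(QuotientGroup.eq_one_iff (x : K)).2 x.2]; exact map_one ν
  have hFinj : Function.Injective F := by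
    intro ν μ h
    have h' := congrArg Subtype.val h
    have hq : (ν / μ).comp (QuotientGroup.mk' L) = 1 := hfree _ (fun x hx => by
        rw [MonoidHom.comp_apply]; exact hone _ ⟨x, hx⟩) fun k hk => by
      have := mul_right_cancel₀ hk (congrFun h' k)
      rw [MonoidHom.comp_apply, MonoidHom.div_apply, div_eq_one]
      exact Units.ext this
    refine div_eq_one.1 (MonoidHom.ext fun q => ?_)
    obtain ⟨k, rfl⟩ := QuotientGroup.mk_surjective q
    exact DFunLike.congr_fun hq k
  have hcoef : ∀ ν, classInner (indFun L φ) (F ν : K → ℂ) = e := by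
    intro ν
    rw [classInner_indFun_left L φ (isClassFunction_of_isIrr (F ν).2)]
    have : (fun x : L => (F ν : K → ℂ) x) = (e : ℂ) • φ := funext fun x => by
      show (ν.comp (QuotientGroup.mk' L) (x : K) : ℂ) * θ x = _
      rw [MonoidHom.comp_apply, hone, Units.val_one, one_mul, hres]
      rfl
    rw [this, ← classInner_conj_symm, classInner_smul_left, classInner_irr_self hφ, mul_one,
      Complex.conj_natCast]
  have hnorm : classInner (indFun L φ) (indFun L φ) = (L.index : ℂ) := by
    rw [classInner_indFun_indFun hφ hφ,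
      Nat.card_congr (Equiv.subtypeUnivEquiv hinv : {g : K // conjFun g φ = φ} ≃ K),
      ← Subgroup.card_mul_index L, Nat.cast_mul,
      inv_mul_cancel_left₀ (Nat.cast_ne_zero.2 Nat.card_pos.ne')]
  have hind := isCharacter_indFun L (IsIrr.isCharacter hφ)
  choose a ha using fun χ : IrrCharacter K =>
    classInner_isCharacter_eq_natCast hind (IsIrr.isCharacter χ.2)
  have hsq : L.index = ∑ χ : IrrCharacter K, a χ * a χ := by
    have h : (L.index : ℂ) = ((∑ χ : IrrCharacter K, a χ * a χ : ℕ) : ℂ) := by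
      rw [← hnorm]
      conv_lhs => arg 1; rw [classFun_expansion (isClassFunction_of_isCharacter hind)]
      rw [classInner_sum_left, Nat.cast_sum]
      refine Finset.sum_congr rfl fun χ _ => ?_
      rw [classInner_smul_left, ha, ← classInner_conj_symm, ha, Complex.conj_natCast, Nat.cast_mul]
    exact_mod_cast h
  have hFa : ∀ ν, a (F ν) = e := fun ν => by
    have := (ha (F ν)).symm.trans (hcoef ν)
    exact_mod_cast this
  letI := Fintype.ofFinite ((K ⧸ L) →* ℂˣ)
  have hle : ∑ χ ∈ Finset.univ.image F, a χ * a χ ≤ L.index :=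
    hsq ▸ Finset.sum_le_univ_sum_of_nonneg fun χ => Nat.zero_le _
  rw [Finset.sum_image fun a _ b _ h => hFinj h] at hle
  simp only [hFa, Finset.sum_const, Finset.card_univ, smul_eq_mul, ← Nat.card_eq_fintype_card,
    hcard] at hle
  have hpos : 0 < L.index := Nat.pos_of_ne_zero Subgroup.index_ne_zero_of_finite
  by_contra hne
  have h2 : 2 * 2 ≤ e * e := Nat.mul_le_mul (by omega) (by omega)
  have h3 : L.index * (2 * 2) ≤ L.index * (e * e) := Nat.mul_le_mul_left _ h2
  omega

end Twist

variable {G : Type u} [Group G] [Fintype G]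

/-- Going down along an abelian chief section. -/
theorem going_down (K L : Subgroup G) [K.Normal] [L.Normal] [Fintype K] [Fintype L]
    (hLK : L < K) (hchief : ∀ M : Subgroup G, M.Normal → L ≤ M → M ≤ K → M = L ∨ M = K)
    (hab : ⁅K, K⁆ ≤ L) {θ : K → ℂ} (hθ : IsIrrCharacter K θ)
    (hinv : ∀ g : G, conjFun g θ = θ) :
    IsIrrCharacter L (fun x : L => θ ⟨(x : G), hLK.le x.2⟩) ∨
    (∃ (φ : L → ℂ) (e : ℕ), IsIrrCharacter L φ ∧
      (fun x : L => θ ⟨(x : G), hLK.le x.2⟩) = (e : ℂ) • φ ∧ e ^ 2 = L.relIndex K) ∨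
    (∃ F : Finset (L → ℂ), (∀ φ ∈ F, IsIrrCharacter L φ) ∧ F.card = L.relIndex K ∧
      (fun x : L => θ ⟨(x : G), hLK.le x.2⟩) = ∑ φ ∈ F, φ) := by
  classical
  letI := Fintype.ofFinite (L.subgroupOf K)
  set θL : L → ℂ := fun x => θ ⟨(x : G), hLK.le x.2⟩ with hθLdef
  have hθL : IsCharacter L θL :=
    isCharacter_comp (Subgroup.inclusion hLK.le) (IsIrr.isCharacter hθ)
  have hθLinv : ∀ g : G, conjFun g θL = θL := fun g =>
    funext fun x => congrFun (hinv g) ⟨(x : G), hLK.le x.2⟩
  obtain ⟨φ, hφc⟩ := IsChar.exists_constituent hθL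
    fun h => IsIrr.one_ne_zero hθ (congrFun h 1)
  let e' : L.subgroupOf K ≃* L := Subgroup.subgroupOfEquivOfLe hLK.le
  let θ' : L.subgroupOf K → ℂ := fun x => θ x
  let tr : (L → ℂ) → (L.subgroupOf K → ℂ) := fun f x =>
    f ⟨((x : K) : G), Subgroup.mem_subgroupOf.1 x.2⟩
  have htr : ∀ f : L → ℂ, IsIrrCharacter L f → IsIrrCharacter (L.subgroupOf K) (tr f) :=
    fun f hf => (isIrrCharacter_comp_equiv e').2 hf
  have hip : ∀ f : L → ℂ, classInner θ' (tr f) = classInner θL f := fun f =>
    classInner_subgroupOf L K hLK.le θL f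
  have htrconj : ∀ (k : K) (f : L → ℂ), conjFun k (tr f) = tr (conjFun (k : G) f) :=
    fun _ _ => rfl
  have hφ' := htr _ φ.2
  have hc' : classInner θ' (tr φ) ≠ 0 := by rw [hip]; exact hφc
  have hcl := clifford hθ hφ' hc'
  -- the inertia subgroup inside `K` is normal in `G`
  set T : Subgroup G := inertia (φ : L → ℂ) ⊓ K with hT
  have hLT : L ≤ T := le_inf (le_inertia (isClassFunction_of_isIrr φ.2)) hLK.le
  have hmemT : ∀ k : K, (k : G) ∈ T ↔ conjFun (k : G) (φ : L → ℂ) = φ :=
    fun k => ⟨fun h => h.1, fun h => ⟨h, k.2⟩⟩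
  have hTnormal : T.Normal := by
    refine ⟨fun t ht g => ?_⟩
    have hc : classInner θ' (tr (conjFun g (φ : L → ℂ))) ≠ 0 := by
      rw [hip]
      conv in θL => rw [← hθLinv g]
      rw [classInner_conjFun]
      exact hφc
    obtain ⟨k, hk⟩ := mem_orbit.1
      (constituent_mem_orbit hθ hφ' (htr _ (isIrr_conjFun g φ.2)) hc' hc)
    rw [htrconj] at hk
    have hkg : conjFun (k : G) (φ : L → ℂ) = conjFun g φ := by
      funext x
      exact congrFun hk ⟨⟨(x : G), hLK.le x.2⟩, Subgroup.mem_subgroupOf.2 x.2⟩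
    -- `g * k⁻¹` lies in the inertia group
    have hi : g * (k : G)⁻¹ ∈ inertia (φ : L → ℂ) := by
      show conjFun (g * (k : G)⁻¹) (φ : L → ℂ) = φ
      rw [← conjFun_conjFun, ← hkg, conjFun_inv_cancel]
    have hkT : (k : G) * t * (k : G)⁻¹ ∈ T := by
      have h1 : ⁅(k : G), t⁆ ∈ T := hLT (hab (Subgroup.commutator_mem_commutator k.2 ht.2))
      have h2 := T.mul_mem h1 ht
      rwa [commutatorElement_def, inv_mul_cancel_right] at h2
    refine ⟨?_, (inferInstance : K.Normal).conj_mem t ht.2 g⟩
    have h3 : g * t * g⁻¹ =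
        (g * (k : G)⁻¹) * ((k : G) * t * (k : G)⁻¹) * (g * (k : G)⁻¹)⁻¹ := by group
    rw [h3]
    exact (inertia (φ : L → ℂ)).mul_mem ((inertia (φ : L → ℂ)).mul_mem hi hkT.1)
      ((inertia (φ : L → ℂ)).inv_mem hi)
  obtain ⟨e, he⟩ := classInner_isCharacter_eq_natCast hθL (IsIrr.isCharacter φ.2)
  have horb : ∀ k : K, k ∈ inertia (tr φ) ↔ (k : G) ∈ T := by
    intro k
    rw [hmemT, mem_inertia, htrconj]
    refine ⟨fun h => funext fun x => ?_, fun h => by rw [h]⟩
    exact congrFun h ⟨⟨(x : G), hLK.le x.2⟩, Subgroup.mem_subgroupOf.2 x.2⟩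
  rcases hchief T hTnormal hLT inf_le_right with hTL | hTK
  · -- all conjugates differ
    have hin : inertia (tr (φ : L → ℂ)) = L.subgroupOf K := by
      ext k
      rw [horb, hTL, Subgroup.mem_subgroupOf]
    have hind : IsIrrCharacter K (indFun (L.subgroupOf K) (tr φ)) :=
      isIrr_indFun_of_inertia hφ' hin
    have hθind : indFun (L.subgroupOf K) (tr φ) = θ := by
      by_contra hne
      apply hc'
      rw [← classInner_conj_symm]
      have h0 := classInner_irr_ne hind hθ hne
      rw [classInner_indFun_left _ _ (isClassFunction_of_isIrr hθ)] at h0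
      rw [h0, map_zero]
    have hce : classInner θ' (tr (φ : L → ℂ)) = 1 := by
      have h1 := classInner_irr_self hθ
      conv at h1 => lhs; arg 1; rw [← hθind]
      rw [classInner_indFun_left _ _ (isClassFunction_of_isIrr hθ)] at h1
      rw [← classInner_conj_symm, h1, map_one]
    let back : (L.subgroupOf K → ℂ) → (L → ℂ) := fun f x =>
      f ⟨⟨(x : G), hLK.le x.2⟩, Subgroup.mem_subgroupOf.2 x.2⟩
    have hback : Function.Injective back := fun f f' h => funext fun x =>
      congrFun h ⟨((x : K) : G), Subgroup.mem_subgroupOf.1 x.2⟩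
    refine Or.inr (Or.inr ⟨(orbit (tr (φ : L → ℂ))).image back, ?_, ?_, ?_⟩)
    · intro f hf
      obtain ⟨f', hf', rfl⟩ := Finset.mem_image.1 hf
      obtain ⟨k, rfl⟩ := mem_orbit.1 hf'
      exact isIrr_conjFun (k : G) φ.2
    · rw [Finset.card_image_of_injective _ hback, card_orbit, hin]
      rfl
    · rw [Finset.sum_image fun a _ b _ h => hback h]
      funext x
      have := congrFun hcl ⟨⟨(x : G), hLK.le x.2⟩, Subgroup.mem_subgroupOf.2 x.2⟩
      rw [Pi.smul_apply, Finset.sum_apply] at this
      rw [Finset.sum_apply]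
      refine this.trans ?_
      rw [show classInner (fun n : L.subgroupOf K => θ n) (tr φ) = 1 from hce, one_smul]
  · -- the constituent is invariant
    have hkinv : ∀ k : K, conjFun k (tr (φ : L → ℂ)) = tr φ := fun k =>
      (horb k).2 (hTK.symm.le k.2)
    have horb1 : orbit (tr (φ : L → ℂ)) = {tr (φ : L → ℂ)} :=
      Finset.eq_singleton_iff_unique_mem.2 ⟨self_mem_orbit _, fun η hη => by
        obtain ⟨k, rfl⟩ := mem_orbit.1 hη
        exact hkinv k⟩
    have hres : ∀ x : L.subgroupOf K, θ x = e * tr (φ : L → ℂ) x := by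
      intro x
      have := congrFun hcl x
      rw [horb1, Finset.sum_singleton, Pi.smul_apply, smul_eq_mul,
        show classInner (fun n : L.subgroupOf K => θ n) (tr φ) = e from (hip _).trans he] at this
      exact this
    have hsmul : θL = (e : ℂ) • (φ : L → ℂ) := funext fun x =>
      hres ⟨⟨(x : G), hLK.le x.2⟩, Subgroup.mem_subgroupOf.2 x.2⟩
    -- the subgroup generated by the support
    set s : Set G := {g | g ∈ L ∨ ∃ h : g ∈ K, θ ⟨g, h⟩ ≠ 0} with hs
    have hsconj : ∀ g ∈ s, ∀ c : G, c * g * c⁻¹ ∈ s := by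
      rintro g (hg | ⟨hg, hne⟩) c
      · exact Or.inl ((inferInstance : L.Normal).conj_mem g hg c)
      · refine Or.inr ⟨(inferInstance : K.Normal).conj_mem g hg c, ?_⟩
        rw [← congrFun (hinv c) ⟨g, hg⟩] at hne
        exact hne
    have hnorm : (Subgroup.closure s).Normal := by
      have : Group.conjugatesOfSet s = s := by
        refine Set.Subset.antisymm ?_ Group.subset_conjugatesOfSet
        intro x hx
        obtain ⟨a, ha, hax⟩ := Group.mem_conjugatesOfSet_iff.1 hx
        obtain ⟨c, rfl⟩ := isConj_iff.1 hax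
        exact hsconj a ha c
      rw [← this]
      exact Subgroup.normalClosure_normal
    have hsK : Subgroup.closure s ≤ K := by
      rw [Subgroup.closure_le]
      rintro g (hg | ⟨hg, -⟩)
      · exact hLK.le hg
      · exact hg
    rcases hchief _ hnorm (fun x hx => Subgroup.subset_closure (Or.inl hx)) hsK with hM | hM
    · refine Or.inr (Or.inl ⟨φ, e, φ.2, hsmul, ?_⟩)
      refine sq_eq_index_of_support hθ hφ' hres fun k hk => ?_
      by_contra hne
      exact hk (Subgroup.mem_subgroupOf.2 (hM ▸ Subgroup.subset_closure (Or.inr ⟨k.2, hne⟩)))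
    · have he1 : e = 1 := by
        refine multiplicity_one_of_twist ?_ hθ hφ' hkinv hres fun ν hνL hν => ?_
        · rintro ⟨a⟩ ⟨b⟩
          show (QuotientGroup.mk (a * b) : K ⧸ L.subgroupOf K) = QuotientGroup.mk (b * a)
          rw [QuotientGroup.eq, Subgroup.mem_subgroupOf]
          have h := hab (Subgroup.commutator_mem_commutator (K.inv_mem b.2) (K.inv_mem a.2))
          simpa [commutatorElement_def, mul_assoc] using h
        · refine MonoidHom.ext fun k => ?_
          have hk : (k : G) ∈ Subgroup.closure s := hM.symm ▸ k.2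
          have key : ∀ g ∈ Subgroup.closure s, ∀ h : g ∈ K, ν ⟨g, h⟩ = 1 := by
            intro g hg
            induction hg using Subgroup.closure_induction with
            | mem x hx =>
              intro h
              rcases hx with hx | ⟨hxK, hne⟩
              · exact hνL ⟨x, h⟩ (Subgroup.mem_subgroupOf.2 hx)
              · exact hν ⟨x, h⟩ hne
            | one => intro h; exact map_one ν
            | mul x y hx hy ihx ihy =>
              intro h
              rw [show (⟨x * y, h⟩ : K) = ⟨x, hsK hx⟩ * ⟨y, hsK hy⟩ from rfl, map_mul,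
                ihx (hsK hx), ihy (hsK hy), one_mul]
            | inv x hx ih =>
              intro h
              rw [show (⟨x⁻¹, h⟩ : K) = (⟨x, hsK hx⟩ : K)⁻¹ from rfl, map_inv, ih (hsK hx),
                inv_one]
          exact key (k : G) hk k.2
      refine Or.inl ?_
      rw [hsmul, he1, Nat.cast_one, one_smul]
      exact φ.2

end Cfsg.Agent.ProjExt
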