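import Cfsg.Agent.ProjExt.GoingDown
import Mathlib.GroupTheory.Solvable

/-!
Every irreducible character is induced from one that restricts irreducibly to `N` when `G ⧸ N` is
solvable and no chief section above `N` has square order.
-/

namespace Cfsg.Agent.ProjExt

open Char
open scoped commutatorElement

universe u

/-- The condition on the chief sections. -/
def NoSquareSection {G : Type u} [Group G] (N : Subgroup G) : Prop :=
  ∀ (H K L : Subgroup G), N ≤ L → L < K → K ≤ H → (∀ h ∈ H, ∀ k ∈ K, h * k * h⁻¹ ∈ K) →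
    (∀ h ∈ H, ∀ l ∈ L, h * l * h⁻¹ ∈ L) → (∀ M : Subgroup G, L ≤ M → M ≤ K →
      (∀ h ∈ H, ∀ m ∈ M, h * m * h⁻¹ ∈ M) → M = L ∨ M = K) → ¬ IsSquare (L.relIndex K)

theorem NoSquareSection.subgroupOf {G : Type u} [Group G] {N : Subgroup G}
    (h : NoSquareSection N) {I : Subgroup G} (hNI : N ≤ I) :
    NoSquareSection (N.subgroupOf I) := by
  intro H K L hNL hLK hKH hK hL hM hsq
  have hinj : Function.Injective I.subtype := Subtype.val_injective
  have hconj : ∀ A : Subgroup I, (∀ x ∈ H, ∀ a ∈ A, x * a * x⁻¹ ∈ A) →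
      ∀ x ∈ H.map I.subtype, ∀ a ∈ A.map I.subtype, x * a * x⁻¹ ∈ A.map I.subtype := by
    rintro A hA _ ⟨x, hx, rfl⟩ _ ⟨a, ha, rfl⟩
    exact ⟨x * a * x⁻¹, hA x hx a ha, rfl⟩
  refine h (H.map I.subtype) (K.map I.subtype) (L.map I.subtype) ?_ ?_ (Subgroup.map_mono hKH)
    (hconj K hK) (hconj L hL) (fun M hLM hMK hMH => ?_) ?_
  · intro n hn
    exact ⟨⟨n, hNI hn⟩, hNL (Subgroup.mem_subgroupOf.2 hn), rfl⟩
  · exact (Subgroup.map_lt_map_iff_of_injective hinj).2 hLK
  · have hMI : M ≤ I := hMK.trans (Subgroup.map_subtype_le K)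
    have e : (M.subgroupOf I).map I.subtype = M := Subgroup.map_subgroupOf_eq_of_le hMI
    rcases hM (M.subgroupOf I) (fun l hl => Subgroup.mem_subgroupOf.2 (hLM ⟨l, hl, rfl⟩))
      (fun m hm => by
        obtain ⟨k, hk, hkm⟩ := hMK (Subgroup.mem_subgroupOf.1 hm)
        exact Subtype.ext hkm ▸ hk)
      (fun x hx m hm => Subgroup.mem_subgroupOf.2
        (hMH _ ⟨x, hx, rfl⟩ _ (Subgroup.mem_subgroupOf.1 hm))) with h1 | h1
    · exact Or.inl (by rw [← e, h1])
    · exact Or.inr (by rw [← e, h1])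
  · rwa [Subgroup.relIndex_map_map_of_injective _ _ hinj]

theorem indFun_congr {G : Type u} [Group G] [Fintype G] {H₁ H₂ : Subgroup G} (h : H₁ = H₂)
    {f₁ : H₁ → ℂ} {f₂ : H₂ → ℂ} (hf : ∀ x : H₁, f₁ x = f₂ ⟨x, h ▸ x.2⟩) :
    indFun H₁ f₁ = indFun H₂ f₂ := by
  subst h
  exact congrArg (indFun H₁) (funext hf)

/-- The conclusion. -/
def InducedFromIrr {G : Type u} [Group G] [Fintype G] (N : Subgroup G) (χ : G → ℂ) : Prop :=
  ∃ (H : Subgroup G) (hNH : N ≤ H) (ψ : H → ℂ), IsIrrCharacter H ψ ∧ indFun H ψ = χ ∧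
    IsIrrCharacter N (fun n : N => ψ ⟨(n : G), hNH n.2⟩)

theorem inducedFromIrr_aux (m : ℕ) : ∀ (G : Type u) [Group G] [Fintype G] (N : Subgroup G)
    [N.Normal], Nat.card G ≤ m → Group.IsSolvable (G ⧸ N) → NoSquareSection N →
    ∀ χ : G → ℂ, IsIrrCharacter G χ → InducedFromIrr N χ := by
  induction m with
  | zero =>
    intro G _ _ N _ hcard
    exact absurd hcard (Nat.not_le.2 Nat.card_pos)
  | succ m ih =>
    intro G _ _ N _ hcard hsolv hsq χ hχ
    classical
    by_cases hN : IsIrrCharacter N (fun n : N => χ n)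
    · refine ⟨⊤, le_top, fun x => χ x, ?_, ?_, hN⟩
      · exact (isIrrCharacter_comp_equiv (Subgroup.topEquiv : (⊤ : Subgroup G) ≃* G)).2 hχ
      · funext g
        rw [indFun_apply]
        have : ∀ x : G, extendByZero (⊤ : Subgroup G) (fun y => χ y) (x⁻¹ * g * x) = χ g := by
          intro x
          rw [extendByZero_of_mem _ _ (Subgroup.mem_top _)]
          simpa using isClassFunction_of_isIrr hχ g x⁻¹
        rw [Finset.sum_congr rfl fun x _ => this x, Finset.sum_const, Finset.card_univ,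
          nsmul_eq_mul, Subgroup.card_top, Nat.card_eq_fintype_card, ← mul_assoc,
          inv_mul_cancel₀ (Nat.cast_ne_zero.2 Fintype.card_ne_zero), one_mul]
    let P : Set (Subgroup G) := {K | K.Normal ∧ N ≤ K ∧ IsIrrCharacter K (fun k : K => χ k)}
    obtain ⟨K, ⟨hKn, hNK, hKirr⟩, hKmin⟩ := (wellFounded_lt (α := Subgroup G)).has_min P ⟨⊤, inferInstance, le_top,
      (isIrrCharacter_comp_equiv (Subgroup.topEquiv : (⊤ : Subgroup G) ≃* G)).2 hχ⟩
    have hNK' : N < K := lt_of_le_of_ne hNK fun h => hN (h ▸ hKirr)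
    let Q : Set (Subgroup G) := {L | L.Normal ∧ N ≤ L ∧ L < K}
    obtain ⟨L, ⟨hLn, hNL, hLK⟩, hLmax⟩ := (wellFounded_gt (α := Subgroup G)).has_min Q ⟨N, inferInstance, le_rfl, hNK'⟩
    have hchief : ∀ M : Subgroup G, M.Normal → L ≤ M → M ≤ K → M = L ∨ M = K := by
      intro M hMn hLM hMK
      rcases eq_or_lt_of_le hMK with h | h
      · exact Or.inr h
      · refine Or.inl ?_
        by_contra hne
        exact hLmax M ⟨hMn, hNL.trans hLM, h⟩ (lt_of_le_of_ne hLM (Ne.symm hne))
    have hab : ⁅K, K⁆ ≤ L := by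
      rcases hchief (⁅K, K⁆ ⊔ L) inferInstance le_sup_right
        (sup_le (Subgroup.commutator_le_right K K) hLK.le) with h | h
      · exact h ▸ le_sup_left
      · exfalso
        let f : G ⧸ N →* G ⧸ L := QuotientGroup.map N L (MonoidHom.id G) (by simpa using hNL)
        have : Group.IsSolvable (G ⧸ L) := Group.isSolvable_of_surjective (f := f) (by
          intro q
          obtain ⟨g, rfl⟩ := QuotientGroup.mk_surjective q
          exact ⟨QuotientGroup.mk g, rfl⟩)
        obtain ⟨k, hk⟩ := (Group.isSolvable_def (G ⧸ L)).1 this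
        have hperf : ∀ j, K.map (QuotientGroup.mk' L) ≤ derivedSeries (G ⧸ L) j := by
          intro j
          induction j with
          | zero => exact le_top
          | succ j ihj =>
            rw [derivedSeries_succ]
            refine le_trans ?_ (Subgroup.commutator_mono ihj ihj)
            rw [← Subgroup.map_commutator]
            conv_lhs => rw [← h, Subgroup.map_sup, QuotientGroup.map_mk'_self, sup_bot_eq]
        have h0 := hperf k
        rw [hk, le_bot_iff, Subgroup.map_eq_bot_iff, QuotientGroup.ker_mk'] at h0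
        exact not_le_of_gt hLK h0
    letI := Fintype.ofFinite K
    letI := Fintype.ofFinite L
    rcases going_down K L hLK hchief hab hKirr (fun g => conjFun_res g (isClassFunction_of_isIrr hχ))
      with h | ⟨φ, e, -, -, he⟩ | ⟨F, hF, hFcard, hsum⟩
    · exact absurd hLK (hKmin L ⟨hLn, hNL, h⟩)
    · refine absurd ⟨e, by rw [← he, pow_two]⟩ (hsq ⊤ K L hNL hLK le_top
        (fun x _ k hk => hKn.conj_mem k hk x) (fun x _ l hl => hLn.conj_mem l hl x)
        fun M hLM hMK hM => hchief M ⟨fun a ha x => hM x trivial a ha⟩ hLM hMK)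
    have hc : ∀ φ ∈ F, classInner (fun x : L => χ x) φ ≠ 0 := by
      intro φ hφ
      change classInner (fun x : L => (fun k : K => χ k) ⟨(x : G), hLK.le x.2⟩) φ ≠ 0
      rw [hsum, classInner_sum_left, Finset.sum_eq_single φ]
      · rw [classInner_irr_self (hF φ hφ)]; exact one_ne_zero
      · intro ψ hψ hne
        exact classInner_irr_ne (hF ψ hψ) (hF φ hφ) hne
      · exact fun h => absurd hφ h
    obtain ⟨φ, hφ, φ', hφ', hne⟩ : ∃ φ ∈ F, ∃ φ' ∈ F, φ ≠ φ' := by
      refine Finset.one_lt_card.1 (hFcard ▸ ?_)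
      rcases Nat.lt_or_ge 1 (L.relIndex K) with h | h
      · exact h
      · exfalso
        rcases Nat.le_one_iff_eq_zero_or_eq_one.1 h with h0 | h1
        · exact Subgroup.index_ne_zero_of_finite (H := L.subgroupOf K) h0
        · exact not_le_of_gt hLK (Subgroup.relIndex_eq_one.1 h1)
    set I := inertia φ with hI
    have hLI : L ≤ I := le_inertia (isClassFunction_of_isIrr (hF φ hφ))
    have hItop : I ≠ ⊤ := by
      intro htop
      obtain ⟨g, hg⟩ := mem_orbit.1
        (constituent_mem_orbit hχ (hF φ hφ) (hF φ' hφ') (hc φ hφ) (hc φ' hφ'))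
      exact hne ((htop.ge (Subgroup.mem_top g) : g ∈ inertia φ).symm.trans hg)
    obtain ⟨ψ, hψ, hind, -⟩ := exists_correspondent (hF φ hφ) hI.symm hLI hχ (hc φ hφ)
    have hNI : N ≤ I := hNL.trans hLI
    have hIcard : Nat.card I ≤ m := by
      have h1 : Nat.card I < Nat.card G := by
        refine lt_of_le_of_ne (Subgroup.card_le_card_group I) fun h => hItop ?_
        exact Subgroup.eq_top_of_card_eq I h
      omega
    have hsolvI : Group.IsSolvable (I ⧸ N.subgroupOf I) := by
      refine Group.isSolvable_of_isSolvable_injective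
        (f := QuotientGroup.map (N.subgroupOf I) N I.subtype le_rfl) ?_
      rw [injective_iff_map_eq_one]
      intro q hq
      obtain ⟨x, rfl⟩ := QuotientGroup.mk_surjective q
      exact (QuotientGroup.eq_one_iff x).2
        (Subgroup.mem_subgroupOf.2 ((QuotientGroup.eq_one_iff (x : G)).1 hq))
    obtain ⟨H', hNH', ψ', hψ', hind', hres'⟩ :=
      ih I (N.subgroupOf I) hIcard hsolvI (hsq.subgroupOf hNI) ψ hψ
    have hNH : N ≤ H'.map I.subtype := fun n hn =>
      ⟨⟨n, hNI hn⟩, hNH' (Subgroup.mem_subgroupOf.2 hn), rfl⟩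
    let e : H' ≃* H'.map I.subtype :=
      H'.equivMapOfInjective I.subtype Subtype.val_injective
    refine ⟨H'.map I.subtype, hNH, fun y => ψ' (e.symm y),
      (isIrrCharacter_comp_equiv e.symm).2 hψ', ?_, ?_⟩
    · rw [← indFun_indFun (K := I) (H := H'.map I.subtype) (Subgroup.map_subtype_le H')
        (fun y => ψ' (e.symm y)), ← hind]
      refine congrArg (indFun I) ?_
      rw [← hind']
      refine (indFun_congr (Subgroup.comap_map_eq_self_of_injective Subtype.val_injective H') ?_)
      intro x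
      refine congrArg ψ' (e.injective ?_)
      rw [MulEquiv.apply_symm_apply]
      exact Subtype.ext rfl
    · have h1 := (isIrrCharacter_comp_equiv (Subgroup.subgroupOfEquivOfLe hNI).symm).2 hres'
      refine (congrArg (IsIrrCharacter N) (funext fun n => ?_)).mpr h1
      refine congrArg ψ' (e.injective ?_)
      rw [MulEquiv.apply_symm_apply]
      exact Subtype.ext rfl

theorem inducedFromIrr {G : Type u} [Group G] [Fintype G] (N : Subgroup G) [N.Normal]
    (hsolv : Group.IsSolvable (G ⧸ N)) (hsq : NoSquareSection N) {χ : G → ℂ}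
    (hχ : IsIrrCharacter G χ) : InducedFromIrr N χ :=
  inducedFromIrr_aux (Nat.card G) G N le_rfl hsolv hsq χ hχ

end Cfsg.Agent.ProjExt
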