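import Cfsg.Agent.ProjExt.TensorFactor

/-!
Being isotypic on a subgroup, said with the commutant: what commutes with the subgroup and with
its commutant is scalar.
-/

set_option autoImplicit false

namespace Cfsg.Agent.ProjExt

open Module
open scoped ComplexConjugate

universe u v

variable {G : Type u} [Group G]

/-- `ρ` is isotypic on `N`. -/
def Isotypic {V : Type v} [AddCommGroup V] [Module ℂ V] (ρ : Representation ℂ G V)
    (N : Subgroup G) : Prop :=
  ∀ E : Module.End ℂ V, (∀ x ∈ N, Commute E (ρ x)) →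
    (∀ F : Module.End ℂ V, (∀ x ∈ N, Commute F (ρ x)) → Commute E F) → ∃ c : ℂ, E = c • 1

namespace Split

variable {n a e : ℕ} {ρ : Representation ℂ G (Fin n → ℂ)} {M : Subgroup G} (D : Split ρ M a e)
include D

/-- An operator in the coordinates. -/
noncomputable def pull (F : Module.End ℂ (Fin n → ℂ)) :
    Matrix (Fin a) (Fin e) ℂ →ₗ[ℂ] Matrix (Fin a) (Fin e) ℂ :=
  D.Φ.symm.toLinearMap ∘ₗ F ∘ₗ D.Φ.toLinearMap

theorem Φ_pull (F : Module.End ℂ (Fin n → ℂ)) (X : Matrix (Fin a) (Fin e) ℂ) :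
    D.Φ (D.pull F X) = F (D.Φ X) := by
  simp [pull]

/-- What commutes with `ρ` on `M` is a right multiplication. -/
theorem exists_right' (F : Module.End ℂ (Fin n → ℂ)) (hF : ∀ x ∈ M, Commute F (ρ x)) :
    ∃ C : Matrix (Fin e) (Fin e) ℂ, ∀ X, F (D.Φ X) = D.Φ (X * C) := by
  obtain ⟨C, hC⟩ := D.exists_right (D.pull F) fun m X => D.Φ.injective <| by
    rw [D.hΦ, Φ_pull, Φ_pull, D.hΦ]
    exact LinearMap.congr_fun (hF m m.2).eq (D.Φ X)
  exact ⟨C, fun X => by rw [← hC, Φ_pull]⟩

/-- A right multiplication, as an operator. -/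
noncomputable def mulR (C : Matrix (Fin e) (Fin e) ℂ) : Module.End ℂ (Fin n → ℂ) :=
  D.Φ.toLinearMap ∘ₗ
    ({ toFun := fun X => X * C
       map_add' := fun X Y => Matrix.add_mul X Y C
       map_smul' := fun c X => Matrix.smul_mul c X C } :
      Matrix (Fin a) (Fin e) ℂ →ₗ[ℂ] Matrix (Fin a) (Fin e) ℂ) ∘ₗ D.Φ.symm.toLinearMap

theorem mulR_apply (C : Matrix (Fin e) (Fin e) ℂ) (X : Matrix (Fin a) (Fin e) ℂ) :
    D.mulR C (D.Φ X) = D.Φ (X * C) := by
  simp [mulR]

theorem commute_mulR (C : Matrix (Fin e) (Fin e) ℂ) : ∀ x ∈ M, Commute (D.mulR C) (ρ x) := by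
  intro x hx
  refine LinearMap.ext fun v => ?_
  obtain ⟨X, rfl⟩ := D.Φ.surjective v
  rw [Module.End.mul_apply, Module.End.mul_apply, mulR_apply, ← D.hΦ ⟨x, hx⟩,
    ← D.hΦ ⟨x, hx⟩, mulR_apply, Matrix.mul_assoc]

theorem isotypic : Isotypic ρ M := by
  intro E hE hEF
  obtain ⟨C, hC⟩ := D.exists_right' E hE
  let i₀ : Fin a := ⟨0, D.a_pos⟩
  have hcomm : ∀ C' : Matrix (Fin e) (Fin e) ℂ, C * C' = C' * C := by
    intro C'
    ext i j
    have h := LinearMap.congr_fun (hEF (D.mulR C') (D.commute_mulR C')).eq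
      (D.Φ (Matrix.single i₀ i 1))
    simp only [Module.End.mul_apply, mulR_apply, hC] at h
    have h' := congrFun (congrFun (D.Φ.injective h) i₀) j
    simp only [Matrix.mul_assoc] at h'
    simpa using h'.symm
  obtain ⟨c, hc, -⟩ := scalar_of_mul_eq D.e_pos D.e_pos (fun X => hcomm X)
  refine ⟨c, LinearMap.ext fun v => ?_⟩
  obtain ⟨X, rfl⟩ := D.Φ.surjective v
  rw [hC, hc, Matrix.mul_smul, Matrix.mul_one, map_smul]
  rfl

end Split

theorem isotypic_of_eq [Finite G] {n : ℕ} (ρ : Representation ℂ G (Fin n → ℂ)) (hn : 0 < n)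
    (N : Subgroup G) {θ : N → ℂ} (hθ : IsIrrCharacter N θ) {e : ℕ}
    (h : ∀ m : N, ρ.character m = e * θ m) : Isotypic ρ N := by
  obtain ⟨a, -, -, ⟨D⟩⟩ := exists_split ρ hn N hθ h
  exact D.isotypic

theorem classInner_multiset [Fintype G] [DecidableEq (IrrCharacter G)]
    (s : Multiset (IrrCharacter G)) (θ : IrrCharacter G) :
    classInner (s.map fun ψ : IrrCharacter G => (ψ : G → ℂ)).sum (θ : G → ℂ) = s.count θ := by
  induction s using Multiset.induction with
  | empty => simp [Char.classInner_zero_left]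
  | cons ψ s ih =>
    rw [Multiset.map_cons, Multiset.sum_cons, Char.classInner_add_left, ih,
      Char.classInner_irrChar, Multiset.count_cons]
    by_cases h : ψ = θ
    · subst h; simp [add_comm]
    · simp [h, Ne.symm h]

theorem exists_eq_of_isotypic [Finite G] {n : ℕ} (ρ : Representation ℂ G (Fin n → ℂ)) (hn : 0 < n)
    (N : Subgroup G) (h : Isotypic ρ N) :
    ∃ (θ : N → ℂ) (e : ℕ), IsIrrCharacter N θ ∧ ∀ m : N, ρ.character m = e * θ m := by
  classical
  have := Fintype.ofFinite G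
  let τ : Representation ℂ N (Fin n → ℂ) := ρ.comp N.subtype
  obtain ⟨s, hs⟩ := Char.IsChar.exists_multiset (G := N) ⟨n, τ, rfl⟩
  have hs0 : s ≠ 0 := by
    rintro rfl
    have := congrFun hs 1
    simp [τ.char_one] at this
    omega
  obtain ⟨θ, hθs⟩ := Multiset.exists_mem_of_ne_zero hs0
  refine ⟨θ, Multiset.card s, θ.2, fun m => ?_⟩
  suffices hall : ∀ η ∈ s, η = θ by
    have h1 := congrFun hs m
    rw [Multiset.eq_replicate_card.2 hall, Multiset.map_replicate, Multiset.sum_replicate] at h1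
    exact h1.trans (by simp)
  intro η hη
  by_contra hne
  set f : N → ℂ := fun x => conj ((θ : N → ℂ) x) with hf
  have hfc : IsClassFunction N f := fun x y => by
    simp [f, Char.isClassFunction_of_isIrr θ.2 x y]
  let E : Module.End ℂ (Fin n → ℂ) := ∑ x, f x • τ x
  have hEF : ∀ F : Module.End ℂ (Fin n → ℂ), (∀ x ∈ N, Commute F (ρ x)) → Commute E F := by
    intro F hF
    refine Commute.sum_left _ _ _ fun x _ => Commute.smul_left ?_ _
    exact (hF x x.2).symm
  obtain ⟨c, hc⟩ := h E (fun x hx => Char.sum_smul_rep_commute τ hfc ⟨x, hx⟩) hEF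
  have htr : c * n = ∑ x, f x * τ.character x := by
    have h2 := congrArg (LinearMap.trace ℂ (Fin n → ℂ)) hc
    simp only [E, map_sum, map_smul, smul_eq_mul, Module.End.one_eq_id, LinearMap.trace_id,
      Module.finrank_fin_fun] at h2
    exact h2.symm
  have hc0 : c ≠ 0 := by
    intro h0
    rw [h0, zero_mul] at htr
    have h3 : classInner τ.character (θ : N → ℂ) = 0 := by
      rw [classInner, show ∑ x, τ.character x * conj ((θ : N → ℂ) x) = ∑ x, f x * τ.character x
        from Finset.sum_congr rfl fun x _ => mul_comm _ _, ← htr, mul_zero]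
    rw [hs, classInner_multiset, Nat.cast_eq_zero, Multiset.count_eq_zero] at h3
    exact h3 hθs
  obtain ⟨m', σ, hσ, hση⟩ := η.2
  have hfin : (finrank ℂ (Representation.IntertwiningMap σ τ) : ℂ) ≠ 0 := by
    rw [← Char.classInner_character_eq_finrank, hση, hs, classInner_multiset, Nat.cast_ne_zero,
      Ne, Multiset.count_eq_zero, not_not]
    exact hη
  obtain ⟨T, hT⟩ := Module.finrank_pos_iff_exists_ne_zero.1
    (Nat.pos_of_ne_zero (Nat.cast_ne_zero.1 hfin))
  obtain ⟨c', hc', hc''⟩ := Char.sum_smul_rep_eq_scalar σ hσ hfc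
  have hm' : (finrank ℂ (Fin m' → ℂ) : ℂ) ≠ 0 := by
    have := (Char.isIrreducible_iff.1 hσ).1
    exact Nat.cast_ne_zero.2 finrank_pos.ne'
  have hc'0 : c' = 0 := by
    have h4 : ∑ x, f x * σ.character x = 0 := by
      have h5 := Char.classInner_irr_ne η.2 θ.2 fun h => hne (Subtype.ext h)
      rw [classInner, mul_eq_zero, or_iff_right (inv_ne_zero Char.card_ne_zero)] at h5
      rw [hση]
      exact (Finset.sum_congr rfl fun x _ => mul_comm _ _).trans h5
    rw [h4] at hc''
    exact (mul_eq_zero.1 hc'').resolve_right hm'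
  apply hT
  apply DFunLike.ext
  intro v
  have h6 : E (T v) = T.toLinearMap ((∑ x, f x • σ x) v) := by
    simp only [E, LinearMap.sum_apply, LinearMap.smul_apply, map_sum, map_smul]
    exact Finset.sum_congr rfl fun x _ => by
      rw [← T.isIntertwining σ τ x v]; rfl
  rw [hc', hc'0, hc] at h6
  simpa [hc0] using h6

end Cfsg.Agent.ProjExt
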