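import Cfsg.Agent.ProjExt.CliffordCorr
import Cfsg.Agent.S0089
import Cfsg.Agent.Char.Linear
import Mathlib.GroupTheory.Solvable
import Mathlib.GroupTheory.Sylow

/-!
Characters that restrict irreducibly to a solvable normal subgroup with abelian Sylow subgroups
are monomial.
-/

namespace Cfsg.Agent.ProjExt

open Char
open scoped commutatorElement ComplexConjugate

universe u

/-- All Sylow subgroups are abelian. -/
def AbelianSylows (G : Type u) [Group G] : Prop :=
  ∀ (p : ℕ) [Fact p.Prime] (P : Sylow p G), IsMulCommutative P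

theorem AbelianSylows.of_injective {G : Type u} [Group G] [Finite G] (h : AbelianSylows G)
    {G' : Type u} [Group G'] (f : G' →* G) (hf : Function.Injective f) : AbelianSylows G' := by
  intro p _ P
  obtain ⟨Q, hQ⟩ := (P.isPGroup'.map f).exists_le_sylow
  have := h p Q
  refine ⟨⟨fun a b => Subtype.ext (hf ?_)⟩⟩
  have := (this.is_comm.comm ⟨f a, hQ ⟨a, a.2, rfl⟩⟩ ⟨f b, hQ ⟨b, b.2, rfl⟩⟩)
  simpa using congrArg Subtype.val this

theorem AbelianSylows.of_surjective {G : Type u} [Group G] [Finite G] (h : AbelianSylows G)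
    {G' : Type*} [Group G'] [Finite G'] (f : G →* G') (hf : Function.Surjective f) (p : ℕ)
    [Fact p.Prime] (P : Sylow p G') : IsMulCommutative P := by
  obtain ⟨Q⟩ : Nonempty (Sylow p G) := inferInstance
  obtain ⟨g, hg⟩ := MulAction.exists_smul_eq G' (Q.mapSurjective hf) P
  have := h p Q
  have key : ∀ a ∈ (P : Subgroup G'), ∃ q ∈ (Q : Subgroup G), g * f q * g⁻¹ = a := by
    intro a ha
    rw [← hg, Sylow.coe_subgroup_smul] at ha
    obtain ⟨b, hb, rfl⟩ := Subgroup.mem_map.1 ha
    have hb' : b ∈ (Q : Subgroup G).map f := hb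
    obtain ⟨q, hq, rfl⟩ := hb'
    exact ⟨q, hq, rfl⟩
  refine ⟨⟨fun a b => Subtype.ext ?_⟩⟩
  obtain ⟨a', ha', ha''⟩ := key a a.2
  obtain ⟨b', hb', hb''⟩ := key b b.2
  have hc : a' * b' = b' * a' := congrArg Subtype.val (this.is_comm.comm ⟨a', ha'⟩ ⟨b', hb'⟩)
  show (a : G') * b = b * a
  rw [← ha'', ← hb'']
  calc g * f a' * g⁻¹ * (g * f b' * g⁻¹) = g * (f a' * f b') * g⁻¹ := by group
    _ = g * (f b' * f a') * g⁻¹ := by rw [← map_mul, hc, map_mul]
    _ = g * f b' * g⁻¹ * (g * f a' * g⁻¹) := by group

variable {G : Type u} [Group G] [Fintype G]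

/-- Restriction to `N` of a function induced from `I` when `N` and `I` generate the group. -/
theorem indFun_res_of_sup (N I : Subgroup G) [N.Normal] [Fintype N] (hNI : N ⊔ I = ⊤)
    [Fintype (I.subgroupOf N)] {η : I → ℂ} (hη : IsClassFunction I η) (n : N) :
    indFun I η n =
      indFun (I.subgroupOf N) (fun z => η ⟨((z : N) : G), Subgroup.mem_subgroupOf.1 z.2⟩) n := by
  classical
  letI := Fintype.ofFinite I
  set f : G → ℂ := fun x => extendByZero I η (x⁻¹ * (n : G) * x) with hf
  have hfi : ∀ (x : G) (i : I), f (x * i) = f x := by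
    intro x i
    simp only [hf]
    have e : (x * (i : G))⁻¹ * n * (x * i) = (i : G)⁻¹ * (x⁻¹ * n * x) * i := by group
    rw [e]
    by_cases hm : x⁻¹ * (n : G) * x ∈ I
    · rw [extendByZero_of_mem I η hm,
        extendByZero_of_mem I η (I.mul_mem (I.mul_mem (I.inv_mem i.2) hm) i.2)]
      have := hη ⟨_, hm⟩ i⁻¹
      rw [← this]
      exact congrArg η (Subtype.ext (by simp))
    · rw [extendByZero_of_not_mem I η hm, extendByZero_of_not_mem]
      intro hc
      apply hm
      have := I.mul_mem (I.mul_mem i.2 hc) (I.inv_mem i.2)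
      simpa [mul_assoc] using this
  have hfib : ∀ x : G, (Finset.univ.filter fun p : N × I => (p.1 : G) * p.2 = x).card =
      Nat.card (I.subgroupOf N) := by
    intro x
    obtain ⟨y₀, hy₀, i₀, hi₀, hx⟩ := Subgroup.mem_sup_of_normal_left.1
      (hNI.symm ▸ Subgroup.mem_top x : x ∈ N ⊔ I)
    rw [← Fintype.card_subtype, ← Nat.card_eq_fintype_card]
    refine Nat.card_congr
      { toFun := fun p => ⟨(⟨y₀, hy₀⟩ : N)⁻¹ * p.1.1, ?_⟩
        invFun := fun z => ⟨(⟨y₀, hy₀⟩ * (z : N),
          ⟨((z : N) : G)⁻¹ * i₀, I.mul_mem (I.inv_mem (Subgroup.mem_subgroupOf.1 z.2)) hi₀⟩),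
          by simp [← hx, mul_assoc]⟩
        left_inv := fun p => ?_
        right_inv := fun z => Subtype.ext (by simp) }
    · have h1 : y₀⁻¹ * (p.1.1 : G) = i₀ * (p.1.2 : G)⁻¹ := by
        rw [eq_mul_inv_iff_mul_eq, mul_assoc, p.2, ← hx, inv_mul_cancel_left]
      rw [Subgroup.mem_subgroupOf]
      show y₀⁻¹ * (p.1.1 : G) ∈ I
      rw [h1]
      exact I.mul_mem hi₀ (I.inv_mem p.1.2.2)
    · have h1 : ((p.1.1 : G))⁻¹ * y₀ * i₀ = (p.1.2 : G) := by
        rw [mul_assoc, hx, inv_mul_eq_iff_eq_mul]
        exact p.2.symm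
      refine Subtype.ext (Prod.ext (by simp) (Subtype.ext ?_))
      simpa [mul_assoc] using h1
  have hkey : (Nat.card (I.subgroupOf N) : ℂ) * ∑ x : G, f x =
      (Nat.card I : ℂ) * ∑ y : N, f y := by
    have h1 : ∑ p : N × I, f ((p.1 : G) * p.2) = (Nat.card I : ℂ) * ∑ y : N, f y := by
      rw [Fintype.sum_prod_type, Finset.mul_sum]
      refine Finset.sum_congr rfl fun y _ => ?_
      rw [Finset.sum_congr rfl fun i _ => hfi (y : G) i, Finset.sum_const, Finset.card_univ,
        nsmul_eq_mul, Nat.card_eq_fintype_card]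
    rw [← h1, ← Finset.sum_fiberwise Finset.univ (fun p : N × I => (p.1 : G) * p.2),
      Finset.mul_sum]
    refine Finset.sum_congr rfl fun x _ => ?_
    rw [Finset.sum_congr rfl (fun p hp => congrArg f (Finset.mem_filter.1 hp).2),
      Finset.sum_const, hfib, nsmul_eq_mul]
  have hext : ∀ y : N, extendByZero (I.subgroupOf N)
      (fun z => η ⟨((z : N) : G), Subgroup.mem_subgroupOf.1 z.2⟩) (y⁻¹ * n * y) = f y := by
    intro y
    by_cases hm : ((y⁻¹ * n * y : N) : G) ∈ I
    · rw [extendByZero_of_mem _ _ (Subgroup.mem_subgroupOf.2 hm)]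
      simp only [hf]
      rw [extendByZero_of_mem I η (by simpa using hm)]
      exact congrArg η (Subtype.ext (by simp))
    · rw [extendByZero_of_not_mem _ _ fun h => hm (Subgroup.mem_subgroupOf.1 h)]
      simp only [hf]
      rw [extendByZero_of_not_mem I η (by simpa using hm)]
  rw [indFun_apply, indFun_apply, Finset.sum_congr rfl fun y _ => hext y]
  have hI : (Nat.card I : ℂ) ≠ 0 := Nat.cast_ne_zero.2 Nat.card_pos.ne'
  have hN : (Nat.card (I.subgroupOf N) : ℂ) ≠ 0 := Nat.cast_ne_zero.2 Nat.card_pos.ne'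
  field_simp
  linear_combination hkey

theorem irr_of_indFun_irr (M : Subgroup G) [Fintype M] {c : M → ℂ} (hc : IsCharacter M c)
    (hne : c ≠ 0) (h : IsIrrCharacter G (indFun M c)) : IsIrrCharacter M c := by
  classical
  obtain ⟨μ, hμ⟩ := IsChar.exists_constituent hc hne
  have hrest := IsChar.sub_constituent hc μ.2 hμ
  obtain ⟨χ, hχ⟩ := IsChar.exists_constituent (isCharacter_indFun M (IsIrr.isCharacter μ.2)) (by
    intro h0
    have := congrFun h0 1
    rw [indFun_apply_one, Pi.zero_apply, mul_eq_zero] at this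
    exact this.elim (Nat.cast_ne_zero.2 Subgroup.index_ne_zero_of_finite) (IsIrr.one_ne_zero μ.2))
  obtain ⟨a, ha⟩ := classInner_isCharacter_eq_natCast
    (isCharacter_indFun M (IsIrr.isCharacter μ.2)) (IsIrr.isCharacter χ.2)
  obtain ⟨b, hb⟩ := classInner_isCharacter_eq_natCast
    (isCharacter_indFun M hrest) (IsIrr.isCharacter χ.2)
  have hsum : indFun M c = indFun M (μ : M → ℂ) + indFun M (c - (μ : M → ℂ)) := by
    rw [← indFun_add, add_sub_cancel]
  have hχc : (χ : G → ℂ) = indFun M c := by
    by_contra hne'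
    have h0 := classInner_irr_ne h χ.2 (fun e => hne' e.symm)
    rw [hsum, classInner_add_left, ha, hb] at h0
    have : a + b = 0 := by exact_mod_cast h0
    exact hχ (by rw [ha, show a = 0 by omega, Nat.cast_zero])
  obtain ⟨k, hk⟩ := IsChar.degree (IsChar.sub_constituent
    (isCharacter_indFun M (IsIrr.isCharacter μ.2)) χ.2 hχ)
  obtain ⟨r, hr⟩ := IsChar.degree hrest
  rw [Pi.sub_apply, hχc, indFun_apply_one, indFun_apply_one] at hk
  rw [Pi.sub_apply] at hr
  have h1 : ((k + M.index * r : ℕ) : ℂ) = ((0 : ℕ) : ℂ) := by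
    push_cast
    linear_combination (-1 : ℂ) * hk - (M.index : ℂ) * hr
  have h2 : M.index * r = 0 := by have := Nat.cast_injective (R := ℂ) h1; omega
  have hr0 : r = 0 := (Nat.mul_eq_zero.1 h2).resolve_left Subgroup.index_ne_zero_of_finite
  have hzero : c - (μ : M → ℂ) = 0 := by
    funext g
    have hn := IsChar.norm_le hrest g
    rw [show (c - (μ : M → ℂ)) 1 = (r : ℂ) from hr, hr0, Nat.cast_zero] at hn
    simpa using hn
  rw [sub_eq_zero.1 hzero]
  exact μ.2

/-- Monomiality. -/
def IsMonomialChar (χ : G → ℂ) : Prop :=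
  ∃ (U : Subgroup G) (lam : U → ℂ), IsCharacter U lam ∧ lam 1 = 1 ∧ indFun U lam = χ

theorem IsMonomialChar.indFun {I : Subgroup G} [Fintype I] {η : I → ℂ}
    (h : IsMonomialChar η) : IsMonomialChar (Cfsg.indFun I η) := by
  classical
  obtain ⟨U, lam, hlam, h1, hind⟩ := h
  let e : U ≃* U.map I.subtype := U.equivMapOfInjective I.subtype Subtype.val_injective
  refine ⟨U.map I.subtype, fun y => lam (e.symm y), isCharacter_comp e.symm.toMonoidHom hlam,
    by simp [h1], ?_⟩
  rw [← indFun_indFun (K := I) (H := U.map I.subtype) (Subgroup.map_subtype_le U)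
    (fun y => lam (e.symm y))]
  refine congrArg (Cfsg.indFun I) ?_
  rw [← hind]
  have hcm : (U.map I.subtype).subgroupOf I = U :=
    Subgroup.comap_map_eq_self_of_injective Subtype.val_injective U
  have hcong : ∀ (U₁ U₂ : Subgroup I) (hU : U₁ = U₂) (f₁ : U₁ → ℂ) (f₂ : U₂ → ℂ),
      (∀ x : U₁, f₁ x = f₂ ⟨x, hU ▸ x.2⟩) → Cfsg.indFun U₁ f₁ = Cfsg.indFun U₂ f₂ := by
    intro U₁ U₂ hU f₁ f₂ hf
    subst hU
    exact congrArg _ (funext hf)
  refine hcong _ _ hcm _ _ fun x => congrArg lam (e.injective ?_)
  rw [MulEquiv.apply_symm_apply]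
  exact Subtype.ext rfl

theorem monomial_aux (m : ℕ) : ∀ (G : Type u) [Group G] [Fintype G] (N : Subgroup G) [N.Normal],
    Nat.card G ≤ m → Group.IsSolvable N → AbelianSylows N → ∀ χ : G → ℂ, IsIrrCharacter G χ →
    IsIrrCharacter N (fun n : N => χ n) → IsMonomialChar χ := by
  induction m with
  | zero =>
    intro G _ _ N _ hcard
    exact absurd hcard (Nat.not_le.2 Nat.card_pos)
  | succ m ih =>
    intro G _ _ N _ hcard hsolv hA χ hχ hres
    classical
    letI := Fintype.ofFinite N
    obtain ⟨n, ρ, hρ, rfl⟩ := hχ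
    have hχ : IsIrrCharacter G ρ.character := ⟨n, ρ, hρ, rfl⟩
    by_cases h1 : ρ.character 1 = 1
    · refine ⟨⊤, fun x => ρ.character x, isCharacter_res ⊤ (IsIrr.isCharacter hχ), by simpa using h1,
        ?_⟩
      funext g
      rw [indFun_apply]
      have : ∀ x : G, extendByZero (⊤ : Subgroup G) (fun y => ρ.character y) (x⁻¹ * g * x) =
          ρ.character g := by
        intro x
        rw [extendByZero_of_mem _ _ (Subgroup.mem_top _)]
        simpa using isClassFunction_of_isIrr hχ g x⁻¹
      rw [Finset.sum_congr rfl fun x _ => this x, Finset.sum_const, Finset.card_univ,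
        nsmul_eq_mul, Subgroup.card_top, Nat.card_eq_fintype_card, ← mul_assoc,
        inv_mul_cancel₀ (Nat.cast_ne_zero.2 Fintype.card_ne_zero), one_mul]
    -- the last derived subgroup of `N` not in the kernel
    let R : N →* (Module.End ℂ (Fin n → ℂ))ˣ := ρ.toHomUnits.comp N.subtype
    obtain ⟨k, hk⟩ := (Group.isSolvable_def N).1 hsolv
    have hex : ∃ j, derivedSeries N j ≤ R.ker := ⟨k, hk ▸ bot_le⟩
    obtain ⟨j, hj, hjmin⟩ : ∃ j, derivedSeries N j ≤ R.ker ∧
        ∀ i < j, ¬ derivedSeries N i ≤ R.ker :=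
      ⟨Nat.find hex, Nat.find_spec hex, fun i hi => Nat.find_min hex hi⟩
    have hdeg1 : ∀ (K : Subgroup N), K ≤ R.ker → commutator N ≤ K → False := by
      intro K hK hcomm
      apply h1
      have hker : ∀ a ∈ commutator N, ρ.character (a : G) = ρ.character 1 := fun a ha => by
        have h : ρ (a : G) = ρ 1 :=
          (congrArg Units.val (hK (hcomm ha) : R a = 1)).trans (map_one ρ).symm
        exact congrArg (LinearMap.trace ℂ _) h
      obtain ⟨φ, hφ, he⟩ := IsIrr.exists_quotient (commutator N) hres (fun a ha => by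
        simpa using hker a ha)
      have hcomm' : ∀ a b : N ⧸ commutator N, a * b = b * a := fun a b => by
        obtain ⟨a, rfl⟩ := QuotientGroup.mk_surjective a
        obtain ⟨b, rfl⟩ := QuotientGroup.mk_surjective b
        exact mul_comm (Abelianization.of a) (Abelianization.of b)
      have hone := IsIrr.degree_one_of_comm hφ hcomm'
      rw [← hone]
      simpa using he 1
    rcases j with _ | j
    · exact (hdeg1 ⊤ (derivedSeries_zero N ▸ hj) le_top).elim
    rcases j with _ | j
    · exact (hdeg1 (commutator N) (derivedSeries_one N ▸ hj) le_rfl).elim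
    set D : Subgroup N := derivedSeries N (j + 1) with hD
    have hDnot : ¬ D ≤ R.ker := hjmin (j + 1) (by omega)
    have hDab : ⁅D, D⁆ ≤ R.ker := by rw [hD, ← derivedSeries_succ]; exact hj
    have hDcomm : D ≤ commutator N := derivedSeries_one N ▸ derivedSeries_antitone N (by omega)
    let A : Subgroup G := D.map N.subtype
    haveI : A.Normal := ConjAct.normal_of_characteristic_of_normal
    letI := Fintype.ofFinite A
    have hAN : A ≤ N := Subgroup.map_subtype_le D
    obtain ⟨lam, hlam⟩ := exists_constituent_res (N := A) hχ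
    have hAres := isCharacter_res A (IsIrr.isCharacter hχ)
    have hlin : (lam : A → ℂ) 1 = 1 := by
      have hker : ∀ a ∈ commutator A, (lam : A → ℂ) a = (lam : A → ℂ) 1 := by
        intro a ha
        refine IsChar.constituent_kernel hAres lam.2 hlam ?_
        let ι : D →* A := (D.equivMapOfInjective N.subtype Subtype.val_injective).toMonoidHom
        have ha' : a ∈ (commutator D).map ι := by
          rw [commutator_def, Subgroup.map_commutator, Subgroup.map_top_of_surjective ι
            (MulEquiv.surjective _), ← commutator_def]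
          exact ha
        obtain ⟨d, hd, rfl⟩ := ha'
        have hd' : (d : N) ∈ R.ker := hDab (by
          rw [← Subgroup.map_subtype_commutator D]
          exact ⟨d, hd, rfl⟩)
        have hz : ρ ((d : N) : G) = ρ 1 :=
          (congrArg Units.val (hd' : R (d : N) = 1)).trans (map_one ρ).symm
        exact congrArg (LinearMap.trace ℂ _) hz
      obtain ⟨φ, hφ, he⟩ := IsIrr.exists_quotient (commutator A) lam.2 hker
      have hcomm' : ∀ a b : A ⧸ commutator A, a * b = b * a := fun a b => by
        obtain ⟨a, rfl⟩ := QuotientGroup.mk_surjective a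
        obtain ⟨b, rfl⟩ := QuotientGroup.mk_surjective b
        exact mul_comm (Abelianization.of a) (Abelianization.of b)
      rw [← IsIrr.degree_one_of_comm hφ hcomm']
      simpa using he 1
    set I : Subgroup G := inertia (lam : A → ℂ) with hI
    have hAI : A ≤ I := le_inertia (isClassFunction_of_isIrr lam.2)
    -- `I` is proper
    have hItop : I ≠ ⊤ := by
      intro htop
      apply hDnot
      intro d hd
      have horb : orbit (lam : A → ℂ) = {(lam : A → ℂ)} :=
        Finset.eq_singleton_iff_unique_mem.2 ⟨self_mem_orbit _, fun η hη => by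
          obtain ⟨g, rfl⟩ := mem_orbit.1 hη
          exact htop.ge (Subgroup.mem_top g)⟩
      obtain ⟨l, hl⟩ := IsChar.exists_hom (IsIrr.isCharacter lam.2) hlin
      have hscal : ∀ a : A, ∃ w : ℂ, ρ (a : G) = w • (LinearMap.id : (Fin n → ℂ) →ₗ[ℂ] _) := by
        intro a
        have h := congrFun (clifford hχ lam.2 hlam) a
        rw [horb, Finset.sum_singleton, Pi.smul_apply, smul_eq_mul] at h
        have h0 := congrFun (clifford hχ lam.2 hlam) 1
        rw [horb, Finset.sum_singleton, Pi.smul_apply, smul_eq_mul, hlin, mul_one] at h0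
        have hn : ‖ρ.character (a : G)‖ = (Module.finrank ℂ (Fin n → ℂ) : ℝ) := by
          rw [h, ← h0, norm_mul, hl]
          have hnorm : ‖(l a : ℂ)‖ = 1 := by
            refine Complex.norm_eq_one_of_pow_eq_one (n := orderOf a) ?_ (orderOf_pos a).ne'
            rw [← Units.val_pow_eq_pow_val, ← map_pow, pow_orderOf_eq_one, map_one, Units.val_one]
          rw [hnorm, mul_one, OneMemClass.coe_one, ρ.char_one, Complex.norm_natCast]
        obtain ⟨w, hw⟩ := scalar_of_norm_character_eq ρ (a : G) hn
        exact ⟨w, hw.1⟩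
      haveI : Finite R.range := Finite.of_surjective _ R.rangeRestrict_surjective
      have htriv := Cfsg.Agent.S0089.result (G := R.range) fun p hp P => by
        have := Fact.mk hp
        exact hA.of_surjective R.rangeRestrict R.rangeRestrict_surjective p P
      have hmem : R.rangeRestrict d ∈ commutator R.range ⊓ Subgroup.center R.range := by
        refine ⟨?_, ?_⟩
        · have hle : (commutator N).map R.rangeRestrict ≤ commutator R.range := by
            rw [commutator_def, Subgroup.map_commutator, commutator_def]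
            exact Subgroup.commutator_mono le_top le_top
          exact hle ⟨d, hDcomm hd, rfl⟩
        · show R.rangeRestrict d ∈ Subgroup.center R.range
          rw [Subgroup.mem_center_iff]
          intro y
          obtain ⟨w, hw⟩ := hscal ⟨(d : G), ⟨d, hd, rfl⟩⟩
          refine Subtype.ext (Units.ext ?_)
          show (y.1 : Module.End ℂ (Fin n → ℂ)) * ρ (d : G) = ρ (d : G) * y.1
          rw [hw]
          ext v
          simp
      rw [htriv, Subgroup.mem_bot] at hmem
      exact congrArg Subtype.val hmem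
    obtain ⟨η, hη, hind, -⟩ := exists_correspondent lam.2 hI.symm hAI hχ hlam
    -- `N` and `I` generate
    have hsup : N ⊔ I = ⊤ := by
      rw [eq_top_iff]
      intro g _
      let res : (A → ℂ) → (A.subgroupOf N → ℂ) := fun f x =>
        f ⟨((x : N) : G), Subgroup.mem_subgroupOf.1 x.2⟩
      letI := Fintype.ofFinite (A.subgroupOf N)
      have hirr : ∀ f : A → ℂ, IsIrrCharacter A f → IsIrrCharacter (A.subgroupOf N) (res f) :=
        fun f hf => (isIrrCharacter_comp_equiv (Subgroup.subgroupOfEquivOfLe hAN)).2 hf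
      have hip : ∀ f : A → ℂ,
          classInner (fun x : A.subgroupOf N => ρ.character ((x : N) : G)) (res f) =
            classInner (fun a : A => ρ.character a) f := fun f =>
        classInner_subgroupOf A N hAN (fun a : A => ρ.character a) f
      have hc1 : classInner (fun x : A.subgroupOf N => ρ.character ((x : N) : G))
          (res lam) ≠ 0 := by rw [hip]; exact hlam
      have hc2 : classInner (fun x : A.subgroupOf N => ρ.character ((x : N) : G))
          (res (conjFun g (lam : A → ℂ))) ≠ 0 := by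
        rw [hip, ← conjFun_res g (isClassFunction_of_isIrr hχ), classInner_conjFun]
        exact hlam
      obtain ⟨y, hy⟩ := mem_orbit.1 (constituent_mem_orbit hres (hirr _ lam.2)
        (hirr _ (isIrr_conjFun g lam.2)) hc1 hc2)
      have hyg : conjFun (y : G) (lam : A → ℂ) = conjFun g lam := by
        funext a
        exact congrFun hy ⟨⟨(a : G), hAN a.2⟩, Subgroup.mem_subgroupOf.2 a.2⟩
      have hi : g * (y : G)⁻¹ ∈ I := by
        show conjFun (g * (y : G)⁻¹) (lam : A → ℂ) = lam
        rw [← conjFun_conjFun, ← hyg, conjFun_inv_cancel]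
      have : g = g * (y : G)⁻¹ * (y : G) := by rw [inv_mul_cancel_right]
      rw [this]
      exact (N ⊔ I).mul_mem (Subgroup.mem_sup_right hi) (Subgroup.mem_sup_left y.2)
    -- the correspondent is irreducible on `I ⊓ N`
    letI := Fintype.ofFinite (I.subgroupOf N)
    have hirrI : IsIrrCharacter (I.subgroupOf N)
        (fun z => η ⟨((z : N) : G), Subgroup.mem_subgroupOf.1 z.2⟩) := by
      refine irr_of_indFun_irr (I.subgroupOf N) ?_ ?_ ?_
      · exact isCharacter_comp (MonoidHom.mk' (fun z : I.subgroupOf N =>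
          (⟨((z : N) : G), Subgroup.mem_subgroupOf.1 z.2⟩ : I)) fun _ _ => rfl) (IsIrr.isCharacter hη)
      · intro h0
        exact IsIrr.one_ne_zero hη (congrFun h0 1)
      · have : indFun (I.subgroupOf N)
            (fun z => η ⟨((z : N) : G), Subgroup.mem_subgroupOf.1 z.2⟩) =
            fun x : N => ρ.character x := funext fun x =>
          (indFun_res_of_sup N I hsup (isClassFunction_of_isIrr hη) x).symm.trans (congrFun hind _)
        rw [this]
        exact hres
    have hN' : IsIrrCharacter (N.subgroupOf I) (fun z => η (z : I)) := by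
      let e : N.subgroupOf I ≃* I.subgroupOf N :=
        { toFun := fun z => ⟨⟨((z : I) : G), Subgroup.mem_subgroupOf.1 z.2⟩,
            Subgroup.mem_subgroupOf.2 (z : I).2⟩
          invFun := fun z => ⟨⟨((z : N) : G), Subgroup.mem_subgroupOf.1 z.2⟩,
            Subgroup.mem_subgroupOf.2 (z : N).2⟩
          left_inv := fun _ => rfl
          right_inv := fun _ => rfl
          map_mul' := fun _ _ => rfl }
      exact (isIrrCharacter_comp_equiv e).2 hirrI
    have hIcard : Nat.card I ≤ m := by
      have : Nat.card I < Nat.card G :=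
        lt_of_le_of_ne (Subgroup.card_le_card_group I) fun h => hItop (Subgroup.eq_top_of_card_eq I h)
      omega
    let emb : N.subgroupOf I →* N :=
      MonoidHom.mk' (fun z => ⟨((z : I) : G), Subgroup.mem_subgroupOf.1 z.2⟩) fun _ _ => rfl
    have hemb : Function.Injective emb := fun a b h => by
      have h' := congrArg (fun z : N => (z : G)) h
      exact Subtype.ext (Subtype.ext h')
    have := ih I (N.subgroupOf I) hIcard (Group.isSolvable_of_isSolvable_injective hemb)
      (hA.of_injective emb hemb) η hη hN'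
    rw [← hind]
    exact this.indFun

theorem monomial_of_res_irr (N : Subgroup G) [N.Normal] (hsolv : Group.IsSolvable N)
    (hA : AbelianSylows N) {χ : G → ℂ} (hχ : IsIrrCharacter G χ)
    (hres : IsIrrCharacter N (fun n : N => χ n)) : IsMonomialChar χ :=
  monomial_aux (Nat.card G) G N le_rfl hsolv hA χ hχ hres

end Cfsg.Agent.ProjExt
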