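import Cfsg.Agent.ProjExt.Schur
import Mathlib.GroupTheory.NoncommCoprod

/-!
Stem extensions of a direct product.

* `isStemExtension_prodMap` : products of stem extensions.
* `cross`/`cross_*` : the commutator pairing between the two lifts, killed by kernels and derived groups.
* `exists_mul_of_commuting` : with commuting lifts the kernel is the product of the two multipliers.
* `exists_mul_mul_closure` : in general one adds the commutators between the lifts.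
-/

set_option autoImplicit false

namespace Cfsg.Agent.ProjExt.Schur

open Subgroup
open scoped commutatorElement

universe u v w

variable {Q₁ : Type u} {Q₂ : Type v} [Group Q₁] [Group Q₂]

theorem isStemExtension_prodMap {Γ₁ Γ₂ : Type*} [Group Γ₁] [Group Γ₂] {σ₁ : Γ₁ →* Q₁}
    {σ₂ : Γ₂ →* Q₂} (h₁ : Cfsg.IsStemExtension σ₁) (h₂ : Cfsg.IsStemExtension σ₂) :
    Cfsg.IsStemExtension (σ₁.prodMap σ₂) := by
  refine ⟨?_, ?_, ?_⟩
  · rintro ⟨a, b⟩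
    obtain ⟨x, rfl⟩ := h₁.1 a
    obtain ⟨y, rfl⟩ := h₂.1 b
    exact ⟨(x, y), rfl⟩
  · rintro ⟨x, y⟩ h
    rw [mem_center_iff]
    rintro ⟨a, b⟩
    exact Prod.ext (mem_center_iff.1 (h₁.2.1 (congrArg Prod.fst h : σ₁ x = 1)) a)
      (mem_center_iff.1 (h₂.2.1 (congrArg Prod.snd h : σ₂ y = 1)) b)
  · rintro ⟨x, y⟩ h
    have hx := h₁.2.2 (congrArg Prod.fst h : σ₁ x = 1)
    have hy := h₂.2.2 (congrArg Prod.snd h : σ₂ y = 1)
    have e1 : (_root_.commutator Γ₁).map (MonoidHom.inl Γ₁ Γ₂) ≤ _root_.commutator (Γ₁ × Γ₂) := by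
      rw [_root_.commutator_def, _root_.commutator_def, Subgroup.map_commutator]
      exact commutator_mono le_top le_top
    have e2 : (_root_.commutator Γ₂).map (MonoidHom.inr Γ₁ Γ₂) ≤ _root_.commutator (Γ₁ × Γ₂) := by
      rw [_root_.commutator_def, _root_.commutator_def, Subgroup.map_commutator]
      exact commutator_mono le_top le_top
    rw [show ((x, y) : Γ₁ × Γ₂) = MonoidHom.inl Γ₁ Γ₂ x * MonoidHom.inr Γ₁ Γ₂ y from
      Prod.ext (mul_one x).symm (one_mul y).symm]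
    exact mul_mem (e1 ⟨x, hx, rfl⟩) (e2 ⟨y, hy, rfl⟩)

theorem prodMap_ker {Γ₁ Γ₂ : Type*} [Group Γ₁] [Group Γ₂] (σ₁ : Γ₁ →* Q₁) (σ₂ : Γ₂ →* Q₂) :
    (σ₁.prodMap σ₂).ker = σ₁.ker.prod σ₂.ker := by
  ext ⟨x, y⟩
  simp [Subgroup.mem_prod, Prod.ext_iff]

variable {Δ : Type w} [Group Δ] {τ : Δ →* Q₁ × Q₂}
  {F₁ F₂ : Type*} [Group F₁] [Group F₂] {π₁ : F₁ →* Q₁} {π₂ : F₂ →* Q₂}
  {ψ₁ : E π₁ →* Δ} {ψ₂ : E π₂ →* Δ}

/-- With commuting lifts the kernel of a stem extension is the product of the images of the multipliers. -/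
theorem exists_mul_of_commuting (hπ₁ : Function.Surjective π₁) (hπ₂ : Function.Surjective π₂)
    (hτ : Cfsg.IsStemExtension τ) (h₁ : τ.comp ψ₁ = (MonoidHom.inl Q₁ Q₂).comp (proj π₁))
    (h₂ : τ.comp ψ₂ = (MonoidHom.inr Q₁ Q₂).comp (proj π₂)) (hcomm : ∀ x y, Commute (ψ₁ x) (ψ₂ y))
    {k : Δ} (hk : k ∈ τ.ker) :
    ∃ m₁ ∈ mult π₁, ∃ m₂ ∈ mult π₂, k = ψ₁ m₁ * ψ₂ m₂ := by
  let Φ : E π₁ × E π₂ →* Δ := MonoidHom.noncommCoprod ψ₁ ψ₂ hcomm
  have hx : ∀ x y, τ (Φ (x, y)) = (proj π₁ x, proj π₂ y) := fun x y => by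
    show τ (ψ₁ x * ψ₂ y) = _
    rw [map_mul, show τ (ψ₁ x) = (proj π₁ x, 1) from DFunLike.congr_fun h₁ x,
      show τ (ψ₂ y) = (1, proj π₂ y) from DFunLike.congr_fun h₂ y, Prod.mk_mul_mk, mul_one, one_mul]
  have hs : Function.Surjective (τ.comp Φ) := fun ⟨a, b⟩ => by
    obtain ⟨x, rfl⟩ := proj_surjective π₁ hπ₁ a
    obtain ⟨y, rfl⟩ := proj_surjective π₂ hπ₂ b
    exact ⟨(x, y), hx x y⟩
  obtain ⟨⟨x, y⟩, hxy, rfl⟩ := commutator_le_range (τ := τ) Φ hτ.2.1 hs (hτ.2.2 hk)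
  have hx' : x ∈ _root_.commutator (E π₁) := by
    have h : (_root_.commutator (E π₁ × E π₂)).map (MonoidHom.fst _ _) ≤ _root_.commutator (E π₁) := by
      rw [_root_.commutator_def, _root_.commutator_def, Subgroup.map_commutator]
      exact commutator_mono le_top le_top
    exact h ⟨(x, y), hxy, rfl⟩
  have hy' : y ∈ _root_.commutator (E π₂) := by
    have h : (_root_.commutator (E π₁ × E π₂)).map (MonoidHom.snd _ _) ≤ _root_.commutator (E π₂) := by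
      rw [_root_.commutator_def, _root_.commutator_def, Subgroup.map_commutator]
      exact commutator_mono le_top le_top
    exact h ⟨(x, y), hxy, rfl⟩
  have h1 : (proj π₁ x, proj π₂ y) = (1 : Q₁ × Q₂) := by rw [← hx]; exact hk
  exact ⟨x, ⟨congrArg Prod.fst h1, hx'⟩, y, ⟨congrArg Prod.snd h1, hy'⟩, rfl⟩

section Cross

variable (h₁ : τ.comp ψ₁ = (MonoidHom.inl Q₁ Q₂).comp (proj π₁))
  (h₂ : τ.comp ψ₂ = (MonoidHom.inr Q₁ Q₂).comp (proj π₂))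

include h₁ h₂

theorem cross_mem_ker (x : E π₁) (y : E π₂) : ⁅ψ₁ x, ψ₂ y⁆ ∈ τ.ker := by
  rw [MonoidHom.mem_ker, map_commutatorElement, show τ (ψ₁ x) = (proj π₁ x, 1) from DFunLike.congr_fun h₁ x,
    show τ (ψ₂ y) = (1, proj π₂ y) from DFunLike.congr_fun h₂ y, commutatorElement_eq_one_iff_mul_comm]
  simp

variable (hc : τ.ker ≤ center Δ)

include hc

theorem cross_mul_left (x x' : E π₁) (y : E π₂) :
    ⁅ψ₁ (x * x'), ψ₂ y⁆ = ⁅ψ₁ x, ψ₂ y⁆ * ⁅ψ₁ x', ψ₂ y⁆ := by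
  have hz := mem_center_iff.1 (hc (cross_mem_ker h₁ h₂ x' y))
  rw [map_mul, commutatorElement_def, commutatorElement_def (ψ₁ x)]
  calc ψ₁ x * ψ₁ x' * ψ₂ y * (ψ₁ x * ψ₁ x')⁻¹ * (ψ₂ y)⁻¹
      = ψ₁ x * ⁅ψ₁ x', ψ₂ y⁆ * (ψ₂ y * (ψ₁ x)⁻¹ * (ψ₂ y)⁻¹) := by
        rw [commutatorElement_def]; group
    _ = ψ₁ x * (ψ₂ y * (ψ₁ x)⁻¹ * (ψ₂ y)⁻¹ * ⁅ψ₁ x', ψ₂ y⁆) := by rw [mul_assoc, ← hz]
    _ = _ := by group

theorem cross_mul_right (x : E π₁) (y y' : E π₂) :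
    ⁅ψ₁ x, ψ₂ (y * y')⁆ = ⁅ψ₁ x, ψ₂ y⁆ * ⁅ψ₁ x, ψ₂ y'⁆ := by
  have hz := mem_center_iff.1 (hc (cross_mem_ker h₁ h₂ x y'))
  rw [map_mul, commutatorElement_def]
  calc ψ₁ x * (ψ₂ y * ψ₂ y') * (ψ₁ x)⁻¹ * (ψ₂ y * ψ₂ y')⁻¹
      = ψ₁ x * ψ₂ y * (ψ₁ x)⁻¹ * ⁅ψ₁ x, ψ₂ y'⁆ * (ψ₂ y)⁻¹ := by
        rw [commutatorElement_def]; group
    _ = ψ₁ x * ψ₂ y * (ψ₁ x)⁻¹ * ((ψ₂ y)⁻¹ * ⁅ψ₁ x, ψ₂ y'⁆) := by rw [mul_assoc, ← hz]
    _ = _ := by rw [commutatorElement_def (ψ₁ x) (ψ₂ y)]; group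

theorem cross_ker_left {x : E π₁} (hx : proj π₁ x = 1) (y : E π₂) : ⁅ψ₁ x, ψ₂ y⁆ = 1 := by
  have h : ψ₁ x ∈ τ.ker := by
    rw [MonoidHom.mem_ker, show τ (ψ₁ x) = (proj π₁ x, 1) from DFunLike.congr_fun h₁ x, hx]; rfl
  rw [commutatorElement_eq_one_iff_mul_comm]
  exact (mem_center_iff.1 (hc h) _).symm

theorem cross_ker_right (x : E π₁) {y : E π₂} (hy : proj π₂ y = 1) : ⁅ψ₁ x, ψ₂ y⁆ = 1 := by
  have h : ψ₂ y ∈ τ.ker := by
    rw [MonoidHom.mem_ker, show τ (ψ₂ y) = (1, proj π₂ y) from DFunLike.congr_fun h₂ y, hy]; rfl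
  rw [commutatorElement_eq_one_iff_mul_comm]
  exact mem_center_iff.1 (hc h) _

/-- The pairing on the abelianizations. -/
theorem exists_pairing (hπ₁ : Function.Surjective π₁) (hπ₂ : Function.Surjective π₂) :
    haveI : IsMulCommutative τ.ker := ⟨⟨fun a b => Subtype.ext (mem_center_iff.1 (hc b.2) a)⟩⟩
    open scoped IsMulCommutative in
    ∃ B : Abelianization Q₁ →* Abelianization Q₂ →* τ.ker, ∀ x y,
      (B (Abelianization.of (proj π₁ x)) (Abelianization.of (proj π₂ y)) : Δ) = ⁅ψ₁ x, ψ₂ y⁆ := by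
  haveI : IsMulCommutative τ.ker := ⟨⟨fun a b => Subtype.ext (mem_center_iff.1 (hc b.2) a)⟩⟩
  open scoped IsMulCommutative in
  let L : E π₁ →* E π₂ →* τ.ker := MonoidHom.mk'
    (fun x => MonoidHom.mk' (fun y => ⟨⁅ψ₁ x, ψ₂ y⁆, cross_mem_ker h₁ h₂ x y⟩)
      fun y y' => Subtype.ext (cross_mul_right h₁ h₂ hc x y y'))
    fun x x' => MonoidHom.ext fun y => Subtype.ext (cross_mul_left h₁ h₂ hc x x' y)
  open scoped IsMulCommutative in
  have hL : (proj π₁).ker ≤ L.ker := fun x hx =>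
    MonoidHom.mem_ker.2 (MonoidHom.ext fun y => Subtype.ext (cross_ker_left h₁ h₂ hc hx y))
  open scoped IsMulCommutative in
  let B1 : Abelianization Q₁ →* (E π₂ →* τ.ker) :=
    Abelianization.lift (MonoidHom.liftOfSurjective (proj π₁) (proj_surjective π₁ hπ₁) ⟨L, hL⟩)
  open scoped IsMulCommutative in
  have hB1 : ∀ x, B1 (Abelianization.of (proj π₁ x)) = L x := fun x => by
    simp only [B1, Abelianization.lift_apply_of]
    exact MonoidHom.liftOfRightInverse_comp_apply _ _ _ ⟨L, hL⟩ x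
  open scoped IsMulCommutative in
  have hR : ∀ a, (proj π₂).ker ≤ (B1 a).ker := fun a y hy => by
    obtain ⟨q, rfl⟩ := QuotientGroup.mk_surjective a
    obtain ⟨x, rfl⟩ := proj_surjective π₁ hπ₁ q
    rw [MonoidHom.mem_ker, show B1 (QuotientGroup.mk (proj π₁ x)) = L x from hB1 x]
    exact Subtype.ext (cross_ker_right h₁ h₂ hc x hy)
  open scoped IsMulCommutative in
  let B2 : Abelianization Q₁ → (Abelianization Q₂ →* τ.ker) := fun a =>
    Abelianization.lift (MonoidHom.liftOfSurjective (proj π₂) (proj_surjective π₂ hπ₂) ⟨B1 a, hR a⟩)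
  open scoped IsMulCommutative in
  have hB2 : ∀ a y, B2 a (Abelianization.of (proj π₂ y)) = B1 a y := fun a y => by
    simp only [B2, Abelianization.lift_apply_of]
    exact MonoidHom.liftOfRightInverse_comp_apply _ _ _ ⟨B1 a, hR a⟩ y
  open scoped IsMulCommutative in
  refine ⟨MonoidHom.mk' B2 fun a a' => MonoidHom.ext fun b => ?_, fun x y => ?_⟩
  · obtain ⟨q, rfl⟩ := QuotientGroup.mk_surjective b
    obtain ⟨y, rfl⟩ := proj_surjective π₂ hπ₂ q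
    show B2 (a * a') (Abelianization.of (proj π₂ y)) =
      B2 a (Abelianization.of (proj π₂ y)) * B2 a' (Abelianization.of (proj π₂ y))
    rw [hB2, hB2, hB2, map_mul]; rfl
  · rw [MonoidHom.mk'_apply, hB2, hB1]; rfl

end Cross

/-- In general the kernel is spanned by the two multipliers and the commutators between the lifts. -/
theorem exists_mul_mul_closure (hπ₁ : Function.Surjective π₁) (hπ₂ : Function.Surjective π₂)
    (hτ : Cfsg.IsStemExtension τ) (h₁ : τ.comp ψ₁ = (MonoidHom.inl Q₁ Q₂).comp (proj π₁))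
    (h₂ : τ.comp ψ₂ = (MonoidHom.inr Q₁ Q₂).comp (proj π₂)) {k : Δ} (hk : k ∈ τ.ker) :
    ∃ m₁ ∈ mult π₁, ∃ m₂ ∈ mult π₂,
      ∃ c ∈ closure (Set.range fun p : E π₁ × E π₂ => ⁅ψ₁ p.1, ψ₂ p.2⁆), k = ψ₁ m₁ * ψ₂ m₂ * c := by
  set C := closure (Set.range fun p : E π₁ × E π₂ => ⁅ψ₁ p.1, ψ₂ p.2⁆) with hC
  have hle : C ≤ τ.ker := by
    rw [hC, closure_le]; rintro _ ⟨p, rfl⟩; exact cross_mem_ker h₁ h₂ p.1 p.2
  have hn : C.Normal := ⟨fun c hc g => by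
    rw [mem_center_iff.1 (hτ.2.1 (hle hc)) g, mul_inv_cancel_right]; exact hc⟩
  let τ' : Δ ⧸ C →* Q₁ × Q₂ := QuotientGroup.lift C τ hle
  have hker : τ'.ker = τ.ker.map (QuotientGroup.mk' C) := QuotientGroup.ker_lift _ _ _
  have hτ' : Cfsg.IsStemExtension τ' := by
    refine ⟨fun q => ?_, ?_, ?_⟩
    · obtain ⟨d, hd⟩ := hτ.1 q; exact ⟨QuotientGroup.mk d, hd⟩
    · rw [hker]
      rintro _ ⟨m, hm, rfl⟩
      rw [mem_center_iff]
      intro y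
      obtain ⟨y, rfl⟩ := QuotientGroup.mk_surjective y
      rw [QuotientGroup.mk'_apply, ← QuotientGroup.mk_mul, ← QuotientGroup.mk_mul,
        mem_center_iff.mp (hτ.2.1 hm) y]
    · rw [hker]
      refine (Subgroup.map_mono hτ.2.2).trans ?_
      rw [_root_.commutator_def, _root_.commutator_def, Subgroup.map_commutator]
      exact commutator_mono le_top le_top
  obtain ⟨m₁, hm₁, m₂, hm₂, e⟩ := exists_mul_of_commuting (τ := τ') (ψ₁ := (QuotientGroup.mk' C).comp ψ₁)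
    (ψ₂ := (QuotientGroup.mk' C).comp ψ₂) hπ₁ hπ₂ hτ' h₁ h₂
    (fun x y => by
      show _ * _ = _ * _
      rw [← commutatorElement_eq_one_iff_mul_comm, MonoidHom.comp_apply, MonoidHom.comp_apply,
        ← map_commutatorElement, QuotientGroup.mk'_apply, QuotientGroup.eq_one_iff]
      exact subset_closure ⟨(x, y), rfl⟩)
    (k := QuotientGroup.mk k) (show τ k = 1 from hk)
  refine ⟨m₁, hm₁, m₂, hm₂, (ψ₁ m₁ * ψ₂ m₂)⁻¹ * k, ?_, (mul_inv_cancel_left _ _).symm⟩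
  rw [← QuotientGroup.eq_one_iff, QuotientGroup.mk_mul, QuotientGroup.mk_inv, e, QuotientGroup.mk_mul]
  exact inv_mul_cancel _

end Cfsg.Agent.ProjExt.Schur
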