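import Cfsg.Agent.ProjExt.Schur
import Mathlib.GroupTheory.Transfer
import Mathlib.GroupTheory.FreeGroup.NielsenSchreier

/-!
Restriction and corestriction of the Schur multiplier.

* `mult_equiv` : the multiplier does not depend on the free presentation.
* `exists_corestriction` : for `U ≤ Q` there are `a : M U →* M Q`, `b : M Q →* M U` with
  `a (b x) = x ^ U.index`.
-/

set_option autoImplicit false

namespace Cfsg.Agent.ProjExt.Schur

open Subgroup
open scoped commutatorElement

universe u v w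

section Equiv

variable {F : Type u} [Group F] {F' : Type v} [Group F'] {R : Type w} [Group R]
  {π : F →* R} {π' : F' →* R}

/-- A map of universal central extensions over the identity restricts to the multipliers. -/
theorem map_mult_le {ψ : E π →* E π'} (hψ : (proj π').comp ψ = proj π) :
    (mult π).map ψ ≤ mult π' := by
  rintro _ ⟨m, ⟨hm, hm'⟩, rfl⟩
  refine ⟨?_, ?_⟩
  · show proj π' (ψ m) = 1
    rw [show proj π' (ψ m) = proj π m from DFunLike.congr_fun hψ m]; exact hm
  · have h : (_root_.commutator (E π)).map ψ ≤ _root_.commutator (E π') := by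
      rw [_root_.commutator_def, _root_.commutator_def, Subgroup.map_commutator]
      exact commutator_mono le_top le_top
    exact h ⟨m, hm', rfl⟩

/-- An endomorphism over the identity fixes the derived group. -/
theorem eq_self_of_over {φ : E π →* E π} (hφ : (proj π).comp φ = proj π) :
    ∀ x ∈ _root_.commutator (E π), φ x = x := by
  have hc : ∀ x, x⁻¹ * φ x ∈ center (E π) := fun x => ker_le_center π (by
    rw [MonoidHom.mem_ker, map_mul, map_inv,
      show proj π (φ x) = proj π x from DFunLike.congr_fun hφ x, inv_mul_cancel])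
  have h : _root_.commutator (E π) ≤ MonoidHom.eqLocus φ (MonoidHom.id _) := by
    rw [_root_.commutator_def, commutator_le]
    intro a _ b _
    show φ ⁅a, b⁆ = ⁅a, b⁆
    obtain ⟨k, hk, ha⟩ : ∃ k ∈ center (E π), φ a = a * k := ⟨_, hc a, by group⟩
    obtain ⟨l, hl, hb⟩ : ∃ l ∈ center (E π), φ b = b * l := ⟨_, hc b, by group⟩
    have e1 : ∀ x y z : E π, z ∈ center (E π) → ⁅x * z, y⁆ = ⁅x, y⁆ := fun x y z hz => by
      simp only [commutatorElement_def, mul_inv_rev]
      calc x * z * y * (z⁻¹ * x⁻¹) * y⁻¹ = x * (z * y) * z⁻¹ * x⁻¹ * y⁻¹ := by group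
        _ = x * (y * z) * z⁻¹ * x⁻¹ * y⁻¹ := by rw [mem_center_iff.mp hz y]
        _ = x * y * x⁻¹ * y⁻¹ := by group
    rw [map_commutatorElement, ha, hb, e1 _ _ _ hk, ← commutatorElement_inv, e1 _ _ _ hl,
      commutatorElement_inv]
  exact fun x hx => h hx

/-- The multiplier does not depend on the free presentation. -/
theorem mult_equiv [IsFreeGroup F] [IsFreeGroup F'] (hπ : Function.Surjective π)
    (hπ' : Function.Surjective π') : Nonempty (mult π ≃* mult π') := by
  obtain ⟨ψ, hψ⟩ := exists_lift (π := π) (proj π') (ker_le_center π') (MonoidHom.id R)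
    (by rw [MonoidHom.range_eq_top.2 (proj_surjective π' hπ')]; exact le_top)
  obtain ⟨ψ', hψ'⟩ := exists_lift (π := π') (proj π) (ker_le_center π) (MonoidHom.id R)
    (by rw [MonoidHom.range_eq_top.2 (proj_surjective π hπ)]; exact le_top)
  rw [MonoidHom.id_comp] at hψ hψ'
  have h1 := eq_self_of_over (π := π) (φ := ψ'.comp ψ) (by rw [← MonoidHom.comp_assoc, hψ', hψ])
  have h2 := eq_self_of_over (π := π') (φ := ψ.comp ψ') (by rw [← MonoidHom.comp_assoc, hψ, hψ'])
  exact ⟨MonoidHom.toMulEquiv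
    ((ψ.comp (mult π).subtype).codRestrict _ fun m => map_mult_le hψ ⟨m, m.2, rfl⟩)
    ((ψ'.comp (mult π').subtype).codRestrict _ fun m => map_mult_le hψ' ⟨m, m.2, rfl⟩)
    (MonoidHom.ext fun m => Subtype.ext (h1 m (mult_le_commutator _ m.2)))
    (MonoidHom.ext fun m => Subtype.ext (h2 m (mult_le_commutator _ m.2)))⟩

end Equiv

section Transfer

variable {F : Type u} [Group F] {Q : Type v} [Group Q] (π : F →* Q) (U : Subgroup Q)

/-- Restriction and corestriction for a presentation. -/
theorem exists_res_cores [(U.comap π).FiniteIndex] :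
    ∃ (a : mult (π.subgroupComap U) →* mult π) (b : mult π →* mult (π.subgroupComap U)),
      ∀ x, a (b x) = x ^ (U.comap π).index := by
  classical
  set H := U.comap π with hH
  set πU := π.subgroupComap U
  letI := H.fintypeQuotientOfFiniteIndex
  have hKH : π.ker ≤ H := fun x hx => by
    show π x ∈ U
    rw [MonoidHom.mem_ker.1 hx]; exact U.one_mem
  have hkerU : ∀ h : H, h ∈ πU.ker ↔ (h : F) ∈ π.ker := fun h =>
    ⟨fun e => congrArg Subtype.val (MonoidHom.mem_ker.1 e), fun e => MonoidHom.mem_ker.2 (Subtype.ext e)⟩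
  -- the inclusion
  obtain ⟨ι, hι⟩ := exists_descent (π := πU) ((QuotientGroup.mk' ⁅π.ker, (⊤ : Subgroup F)⁆).comp H.subtype)
    (fun r hr => ker_le_center π (show π (r : F) = 1 from (hkerU r).1 hr))
  have hιm : ∀ m ∈ mult πU, ι m ∈ mult π := by
    rintro m ⟨hm, hm'⟩
    refine ⟨?_, ?_⟩
    · obtain ⟨r, rfl⟩ := QuotientGroup.mk_surjective m
      show proj π (ι (QuotientGroup.mk r)) = 1
      rw [hι]
      exact (hkerU r).1 hm
    · have h : (_root_.commutator (E πU)).map ι ≤ _root_.commutator (E π) := by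
        rw [_root_.commutator_def, _root_.commutator_def, Subgroup.map_commutator]
        exact commutator_mono le_top le_top
      exact h ⟨m, hm', rfl⟩
  let a : mult πU →* mult π := (ι.comp (mult πU).subtype).codRestrict _ fun m => hιm m m.2
  -- conjugates of an element of the kernel
  have hcj : ∀ (r : π.ker) (g : F), g⁻¹ * (r : F) * g ∈ π.ker := fun r g => by
    simpa using Subgroup.Normal.conj_mem inferInstance (r : F) r.2 g⁻¹
  let W : Subgroup (E πU) := (proj πU).ker
  haveI hWc : IsMulCommutative W :=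
    ⟨⟨fun x y => Subtype.ext (mem_center_iff.mp (ker_le_center πU y.2) x)⟩⟩
  let c : π.ker → F → W := fun r g =>
    ⟨QuotientGroup.mk (⟨g⁻¹ * (r : F) * g, hKH (hcj r g)⟩ : H),
      MonoidHom.mem_ker.2 (Subtype.ext (hcj r g))⟩
  have hc : ∀ (r : π.ker) (g g' : F), QuotientGroup.mk (s := H) g = QuotientGroup.mk g' → c r g = c r g' := fun r g g' e => by
    have hh : g⁻¹ * g' ∈ H := QuotientGroup.eq.1 e
    apply Subtype.ext
    have hz : (QuotientGroup.mk (⟨g⁻¹ * (r : F) * g, hKH (hcj r g)⟩ : H) : E πU) ∈ center (E πU) :=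
      ker_le_center πU (c r g).2
    calc (c r g : E πU)
        = (QuotientGroup.mk (⟨g⁻¹ * g', hh⟩ : H))⁻¹ * (c r g : E πU) * QuotientGroup.mk (⟨g⁻¹ * g', hh⟩ : H) := by
          rw [mul_assoc, ← mem_center_iff.1 hz, inv_mul_cancel_left]
      _ = (c r g' : E πU) := by
          show _ = QuotientGroup.mk (⟨g'⁻¹ * (r : F) * g', _⟩ : H)
          rw [← QuotientGroup.mk_inv, ← QuotientGroup.mk_mul, ← QuotientGroup.mk_mul]
          exact congrArg _ (Subtype.ext (by simp; group))
  have hmul : ∀ r s g, c (r * s) g = c r g * c s g := fun r s g => Subtype.ext (by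
    show QuotientGroup.mk _ = QuotientGroup.mk _ * QuotientGroup.mk _
    rw [← QuotientGroup.mk_mul]
    exact congrArg _ (Subtype.ext (by simp; group)))
  let T : H.LeftTransversal := default
  let t : F ⧸ H → F := fun q => (T.2.leftQuotientEquiv q : F)
  have ht : ∀ q, ((t q : F) : F ⧸ H) = q := fun q => T.2.leftQuotientEquiv.symm_apply_apply q
  open scoped IsMulCommutative in
  let b0 : π.ker →* W := MonoidHom.mk' (fun r => ∏ q : F ⧸ H, c r (t q)) fun r s => by
    simp only [hmul, Finset.prod_mul_distrib]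
  have hinv : ∀ (r : π.ker) (f : F),
      b0 ⟨f * r * f⁻¹, Subgroup.Normal.conj_mem inferInstance (r : F) r.2 f⟩ = b0 r := fun r f => by
    open scoped IsMulCommutative in
    refine Fintype.prod_equiv (MulAction.toPerm f⁻¹) _ _ fun q => ?_
    rw [show c r (t ((MulAction.toPerm f⁻¹) q)) = c r (f⁻¹ * t q) from hc r _ _ (by
      rw [ht]; show f⁻¹ • q = _
      conv_lhs => rw [← ht q]
      rfl)]
    apply Subtype.ext
    show QuotientGroup.mk _ = QuotientGroup.mk _
    exact congrArg _ (Subtype.ext (show (t q)⁻¹ * (f * r * f⁻¹) * t q = (f⁻¹ * t q)⁻¹ * r * (f⁻¹ * t q) by group))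
  have hkill : ⁅π.ker, (⊤ : Subgroup F)⁆ ≤ b0.ker.map π.ker.subtype := by
    rw [commutator_le]
    intro k hk f _
    refine ⟨⟨⁅k, f⁆, commutator_ker_le π (commutator_mem_commutator hk (mem_top f))⟩, ?_, rfl⟩
    rw [SetLike.mem_coe, MonoidHom.mem_ker]
    have e : (⟨⁅k, f⁆, commutator_ker_le π (commutator_mem_commutator hk (mem_top f))⟩ : π.ker) =
        ⟨k, hk⟩ * ⟨f * ((⟨k, hk⟩⁻¹ : π.ker) : F) * f⁻¹,
          Subgroup.Normal.conj_mem inferInstance _ (⟨k, hk⟩⁻¹ : π.ker).2 f⟩ :=
      Subtype.ext (by simp [commutatorElement_def]; group)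
    rw [e, map_mul, hinv, map_inv, mul_inv_cancel]
  -- values on the derived group
  let ϕ : H →* Abelianization (E πU) := Abelianization.of.comp (QuotientGroup.mk' _)
  have htr : ∀ r : π.ker, Abelianization.of ((b0 r : W) : E πU) = MonoidHom.transfer ϕ (r : F) := fun r => by
    open scoped IsMulCommutative in
    rw [MonoidHom.transfer_def ϕ T]
    show (Abelianization.of.comp W.subtype) (∏ q : F ⧸ H, c r (t q)) = _
    rw [map_prod, Subgroup.leftTransversals.diff]
    refine Finset.prod_congr rfl fun q _ => ?_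
    show ϕ ⟨(t q)⁻¹ * (r : F) * t q, hKH (hcj r (t q))⟩ = ϕ _
    refine congrArg ϕ (Subtype.ext ?_)
    have hfix : (r : F)⁻¹ • q = q := by
      conv_lhs => rw [← ht q]
      conv_rhs => rw [← ht q]
      show (((r : F)⁻¹ * t q : F) : F ⧸ H) = (t q : F ⧸ H)
      rw [QuotientGroup.eq, mul_inv_rev, inv_inv]
      exact hKH (hcj r (t q))
    simp only [Subgroup.smul_apply_eq_smul_apply_inv_smul, smul_eq_mul, hfix, mul_assoc, t]
  let M0 : Subgroup F := π.ker ⊓ _root_.commutator F
  have hb0m : ∀ x : M0, ((b0 ⟨x, x.2.1⟩ : W) : E πU) ∈ mult πU := fun x => by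
    refine ⟨(b0 ⟨x, x.2.1⟩).2, ?_⟩
    show _ ∈ _root_.commutator (E πU)
    rw [← Abelianization.ker_of, MonoidHom.mem_ker, htr]
    exact Abelianization.commutator_subset_ker (MonoidHom.transfer ϕ) x.2.2
  let b1 : M0 →* mult πU :=
    ((W.subtype.comp b0).comp (Subgroup.inclusion inf_le_left)).codRestrict _ hb0m
  have hf : ∀ x : M0, (QuotientGroup.mk (x : F) : E π) ∈ mult π := fun x =>
    ⟨x.2.1, by
      have h : (_root_.commutator F).map (QuotientGroup.mk' ⁅π.ker, (⊤ : Subgroup F)⁆) ≤
          _root_.commutator (E π) := by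
        rw [_root_.commutator_def, _root_.commutator_def, Subgroup.map_commutator]
        exact commutator_mono le_top le_top
      exact h ⟨x, x.2.2, rfl⟩⟩
  let f0 : M0 →* mult π :=
    ((QuotientGroup.mk' ⁅π.ker, (⊤ : Subgroup F)⁆).comp M0.subtype).codRestrict _ hf
  have hsurj : Function.Surjective f0 := by
    rintro ⟨m, hm, hm'⟩
    have h : _root_.commutator (E π) = (_root_.commutator F).map (QuotientGroup.mk' ⁅π.ker, (⊤ : Subgroup F)⁆) := by
      rw [_root_.commutator_def, _root_.commutator_def, Subgroup.map_commutator,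
        Subgroup.map_top_of_surjective _ (QuotientGroup.mk'_surjective _)]
    rw [SetLike.mem_coe, h] at hm'
    obtain ⟨x, hx, rfl⟩ := hm'
    exact ⟨⟨x, hm, hx⟩, rfl⟩
  have hle : f0.ker ≤ b1.ker := fun x hx => by
    have h : (x : F) ∈ ⁅π.ker, (⊤ : Subgroup F)⁆ :=
      (QuotientGroup.eq_one_iff _).1 (congrArg Subtype.val (MonoidHom.mem_ker.1 hx))
    obtain ⟨y, hy, hyx⟩ := hkill h
    rw [MonoidHom.mem_ker]
    apply Subtype.ext
    show ((b0 ⟨x, x.2.1⟩ : W) : E πU) = 1
    rw [show (⟨(x : F), x.2.1⟩ : π.ker) = y from Subtype.ext hyx.symm, MonoidHom.mem_ker.1 hy]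
    rfl
  refine ⟨a, MonoidHom.liftOfSurjective f0 hsurj ⟨b1, hle⟩, fun x => ?_⟩
  obtain ⟨x, rfl⟩ := hsurj x
  rw [show MonoidHom.liftOfSurjective f0 hsurj ⟨b1, hle⟩ (f0 x) = b1 x from
    MonoidHom.liftOfRightInverse_comp_apply _ _ _ ⟨b1, hle⟩ x]
  apply Subtype.ext
  show ι ((b0 ⟨x, x.2.1⟩ : W) : E πU) = ((f0 x ^ H.index : mult π) : E π)
  open scoped IsMulCommutative in
  have : IsMulCommutative (proj π).ker :=
    ⟨⟨fun x y => Subtype.ext (mem_center_iff.mp (ker_le_center π y.2) x)⟩⟩
  open scoped IsMulCommutative in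
  let ιW : W →* (proj π).ker := (ι.comp W.subtype).codRestrict _ fun w => by
    obtain ⟨w, hw⟩ := w
    obtain ⟨r, rfl⟩ := QuotientGroup.mk_surjective w
    show proj π (ι (QuotientGroup.mk r)) = 1
    rw [hι]
    exact (hkerU r).1 hw
  open scoped IsMulCommutative in
  have hval : ιW (b0 ⟨x, x.2.1⟩) = (⟨QuotientGroup.mk (x : F), x.2.1⟩ : (proj π).ker) ^ H.index := by
    show ιW (∏ q : F ⧸ H, c ⟨x, x.2.1⟩ (t q)) = _
    rw [map_prod, Subgroup.index_eq_card, Nat.card_eq_fintype_card, ← Finset.card_univ, ← Finset.prod_const]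
    refine Finset.prod_congr rfl fun q _ => Subtype.ext ?_
    show ι (QuotientGroup.mk (⟨(t q)⁻¹ * (x : F) * t q, _⟩ : H)) = QuotientGroup.mk (x : F)
    rw [hι]
    show QuotientGroup.mk ((t q)⁻¹ * (x : F) * t q) = QuotientGroup.mk (x : F)
    rw [QuotientGroup.mk_mul, QuotientGroup.mk_mul, QuotientGroup.mk_inv, mul_assoc,
      ← mem_center_iff.1 (ker_le_center π (show QuotientGroup.mk (x : F) ∈ (proj π).ker from x.2.1)),
      inv_mul_cancel_left]
  rw [SubgroupClass.coe_pow]
  exact (congrArg Subtype.val hval).trans (by rw [SubgroupClass.coe_pow]; rfl)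

end Transfer

/-- Restriction and corestriction between multipliers. -/
theorem exists_corestriction {Q : Type u} [Group Q] [Finite Q] (U : Subgroup Q)
    {A : Type v} {B : Type w} [CommGroup A] [CommGroup B] (hA : Cfsg.HasSchurMultiplier Q A)
    (hB : Cfsg.HasSchurMultiplier U B) :
    ∃ (a : B →* A) (b : A →* B), ∀ x, a (b x) = x ^ U.index := by
  have hi : (U.comap (std Q)).index = U.index :=
    Subgroup.index_comap_of_surjective _ (std_surjective Q)
  have : (U.comap (std Q)).FiniteIndex := ⟨by rw [hi]; exact Subgroup.FiniteIndex.index_ne_zero⟩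
  have : IsFreeGroup (U.comap (std Q)) := subgroupIsFreeOfIsFree _
  obtain ⟨a, b, hab⟩ := exists_res_cores (std Q) U
  obtain ⟨eA⟩ := equiv_of_hasSchurMultiplier hA
  obtain ⟨eU⟩ := mult_equiv (π := (std Q).subgroupComap U) (π' := std U)
    ((std Q).subgroupComap_surjective_of_surjective U (std_surjective Q)) (std_surjective U)
  obtain ⟨eB⟩ := equiv_of_hasSchurMultiplier hB
  refine ⟨(eA.toMonoidHom.comp a).comp (eU.trans eB).symm.toMonoidHom,
    ((eU.trans eB).toMonoidHom.comp b).comp eA.symm.toMonoidHom, fun x => ?_⟩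
  show eA (a ((eU.trans eB).symm ((eU.trans eB) (b (eA.symm x))))) = _
  rw [MulEquiv.symm_apply_apply, hab, map_pow, MulEquiv.apply_symm_apply, hi]

end Cfsg.Agent.ProjExt.Schur
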