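import Cfsg.Prelude.Def_Characters
import Cfsg.Agent.Char.Ortho
import Cfsg.Agent.Char.Iso
import Cfsg.Agent.Char.Clifford
import Mathlib.LinearAlgebra.Matrix.ToLin
import Mathlib.LinearAlgebra.Trace
import Mathlib.RepresentationTheory.AlgebraRepresentation.Basic

/-!
A representation isotypic on a normal subgroup is, in matrix coordinates, `g ↦ (X ↦ P X C)`:
a tensor product of two projective representations.
-/

set_option autoImplicit false

namespace Cfsg.Agent.ProjExt

open Module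
open scoped Matrix

universe u

variable {G : Type u} [Group G] {n : ℕ}

/-- Coordinates in which `M` acts by left multiplication. -/
structure Split (ρ : Representation ℂ G (Fin n → ℂ)) (M : Subgroup G) (a e : ℕ) where
  S : M →* Matrix (Fin a) (Fin a) ℂ
  schur : ∀ A : Matrix (Fin a) (Fin a) ℂ, (∀ m, A * S m = S m * A) → ∃ c : ℂ, A = c • 1
  Φ : Matrix (Fin a) (Fin e) ℂ ≃ₗ[ℂ] (Fin n → ℂ)
  hΦ : ∀ (m : M) X, Φ (S m * X) = ρ m (Φ X)
  a_pos : 0 < a
  e_pos : 0 < e

theorem scalar_of_mul_eq {a e : ℕ} (ha : 0 < a) (he : 0 < e) {A : Matrix (Fin a) (Fin a) ℂ}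
    {B : Matrix (Fin e) (Fin e) ℂ} (h : ∀ X : Matrix (Fin a) (Fin e) ℂ, A * X = X * B) :
    ∃ c : ℂ, A = c • 1 ∧ B = c • 1 := by
  classical
  let i₀ : Fin a := ⟨0, ha⟩
  let j₀ : Fin e := ⟨0, he⟩
  have key : ∀ i j k l, A i k * (if l = j then (1 : ℂ) else 0) = (if i = k then (1 : ℂ) else 0) * B l j := by
    intro i j k l
    have := congrFun (congrFun (h (Matrix.single k l 1)) i) j
    simp only [Matrix.mul_apply, Matrix.single_apply] at this
    simpa [ite_and, eq_comm] using this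
  refine ⟨B j₀ j₀, ?_, ?_⟩
  · ext i k
    have := key i j₀ k j₀
    rw [Matrix.smul_apply, Matrix.one_apply]
    simpa [smul_eq_mul, mul_comm] using this
  · have hA : A i₀ i₀ = B j₀ j₀ := by simpa using key i₀ j₀ i₀ j₀
    ext l j
    have := key i₀ j i₀ l
    rw [Matrix.smul_apply, Matrix.one_apply, ← hA]
    simpa [smul_eq_mul] using this.symm

theorem exists_split [Finite G] (ρ : Representation ℂ G (Fin n → ℂ)) (hn : 0 < n) (M : Subgroup G)
    {θ : M → ℂ} (hθ : IsIrrCharacter M θ) {e : ℕ} (h : ∀ m : M, ρ.character m = e * θ m) :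
    ∃ a : ℕ, θ 1 = a ∧ n = a * e ∧ Nonempty (Split ρ M a e) := by
  classical
  obtain ⟨a, σ, hσ, rfl⟩ := hθ
  have ha : 0 < a := by
    have := (Char.isIrreducible_iff.1 hσ).1
    exact Nat.pos_of_ne_zero fun h => by
      subst h; exact false_of_nontrivial_of_subsingleton (Fin 0 → ℂ)
  have h1 : σ.character 1 = a := by rw [σ.char_one, Module.finrank_fin_fun]
  have hn' : n = a * e := by
    have h2 := h 1
    rw [h1, Subgroup.coe_one, ρ.char_one, Module.finrank_fin_fun] at h2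
    rw [mul_comm]
    exact_mod_cast h2
  let S : M →* Matrix (Fin a) (Fin a) ℂ :=
    { toFun := fun m => LinearMap.toMatrix' (σ m)
      map_one' := by rw [map_one]; exact LinearMap.toMatrix'_one
      map_mul' := fun m m' => by rw [map_mul]; exact LinearMap.toMatrix'_mul _ _ }
  let τ : Representation ℂ M (Matrix (Fin a) (Fin e) ℂ) :=
    { toFun := fun m =>
        { toFun := fun X => S m * X
          map_add' := fun X Y => Matrix.mul_add _ _ _
          map_smul' := fun c X => Matrix.mul_smul _ _ _ }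
      map_one' := LinearMap.ext fun X => by
        show S 1 * X = X
        rw [map_one, Matrix.one_mul]
      map_mul' := fun m m' => LinearMap.ext fun X => by
        show S (m * m') * X = S m * (S m' * X)
        rw [map_mul, Matrix.mul_assoc] }
  let ρM : Representation ℂ M (Fin n → ℂ) := ρ.comp M.subtype
  have hτ : τ.character = ρM.character := by
    funext m
    show τ.character m = ρ.character m
    rw [h m]
    show LinearMap.trace ℂ _ (τ m) = e * LinearMap.trace ℂ _ (σ m)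
    rw [LinearMap.trace_eq_matrix_trace ℂ (Matrix.stdBasis ℂ (Fin a) (Fin e)),
      LinearMap.trace_eq_matrix_trace ℂ (Pi.basisFun ℂ (Fin a)),
      LinearMap.toMatrix_eq_toMatrix']
    simp only [Matrix.trace, Matrix.diag, LinearMap.toMatrix_apply]
    have hval : ∀ x : Fin a × Fin e,
        (Matrix.stdBasis ℂ (Fin a) (Fin e)).repr (τ m (Matrix.stdBasis ℂ (Fin a) (Fin e) x)) x =
          LinearMap.toMatrix' (σ m) x.1 x.1 := by
      rintro ⟨i, j⟩
      rw [Matrix.stdBasis_eq_single]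
      show (S m * Matrix.single i j (1 : ℂ)) i j = _
      simp [S]
    simp only [hval]
    rw [Fintype.sum_prod_type]
    simp [Finset.mul_sum]
  obtain ⟨Φ, hΦ⟩ := Char.nonempty_equiv_of_character_eq τ ρM hτ
  have he : 0 < e := Nat.pos_of_ne_zero fun he => by subst he; simp at hn'; omega
  refine ⟨a, h1, hn', ⟨⟨S, ?_, Φ, fun m X => hΦ m X, ha, he⟩⟩⟩
  intro A hA
  let T : Representation.IntertwiningMap σ σ := ⟨Matrix.toLin' A, fun m => by
    have := congrArg Matrix.toLin' (hA m)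
    rw [Matrix.toLin'_mul, Matrix.toLin'_mul] at this
    simpa [S] using this⟩
  have hnt : Nontrivial (Fin a → ℂ) := (Char.isIrreducible_iff.1 hσ).1
  obtain ⟨c, hc⟩ :=
    (Representation.IsIrreducible.algebraMap_intertwiningMap_bijective_of_isAlgClosed (k := ℂ)
      (ρ := σ)).2 T
  refine ⟨c, Matrix.toLin'.injective ?_⟩
  have h2 := (congrArg Representation.IntertwiningMap.toLinearMap hc).symm
  refine LinearMap.ext fun v => ?_
  have h3 := LinearMap.congr_fun h2 v
  simpa [T, Algebra.algebraMap_eq_smul_one] using h3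

namespace Split

variable {ρ : Representation ℂ G (Fin n → ℂ)} {M : Subgroup G} {a e : ℕ} (D : Split ρ M a e)
include D

/-- The matrix of `ρ g` in the coordinates. -/
noncomputable def T (g : G) : Matrix (Fin a) (Fin e) ℂ →ₗ[ℂ] Matrix (Fin a) (Fin e) ℂ :=
  D.Φ.symm.toLinearMap ∘ₗ ρ g ∘ₗ D.Φ.toLinearMap

theorem Φ_T (g : G) (X : Matrix (Fin a) (Fin e) ℂ) : D.Φ (D.T g X) = ρ g (D.Φ X) := by
  simp [T]

theorem T_mul (g h : G) (X : Matrix (Fin a) (Fin e) ℂ) : D.T (g * h) X = D.T g (D.T h X) := by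
  apply D.Φ.injective
  rw [Φ_T, Φ_T, Φ_T, map_mul, Module.End.mul_apply]

theorem T_one (X : Matrix (Fin a) (Fin e) ℂ) : D.T 1 X = X := by
  apply D.Φ.injective
  rw [Φ_T, map_one, Module.End.one_apply]

theorem T_mem (m : M) (X : Matrix (Fin a) (Fin e) ℂ) : D.T m X = D.S m * X := by
  apply D.Φ.injective
  rw [Φ_T, D.hΦ]

/-- What commutes with `M` is a right multiplication. -/
theorem exists_right (F : Matrix (Fin a) (Fin e) ℂ →ₗ[ℂ] Matrix (Fin a) (Fin e) ℂ)
    (hF : ∀ (m : M) X, F (D.S m * X) = D.S m * F X) :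
    ∃ C : Matrix (Fin e) (Fin e) ℂ, ∀ X, F X = X * C := by
  classical
  let A : Fin e → Fin e → Matrix (Fin a) (Fin a) ℂ := fun l j =>
    Matrix.of fun i k => F (Matrix.single k l 1) i j
  have hF' : ∀ X i j, F X i j = ∑ l, (A l j * X) i l := by
    intro X i j
    conv_lhs => rw [Matrix.matrix_eq_sum_single X]
    simp only [map_sum, Matrix.sum_apply, Matrix.mul_apply, A, Matrix.of_apply]
    rw [Finset.sum_comm]
    refine Finset.sum_congr rfl fun l _ => Finset.sum_congr rfl fun k _ => ?_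
    rw [show Matrix.single k l (X k l) = X k l • Matrix.single k l (1 : ℂ) by
      rw [Matrix.smul_single, smul_eq_mul, mul_one], map_smul, Matrix.smul_apply, smul_eq_mul, mul_comm]
  have hA : ∀ l j, ∀ m, A l j * D.S m = D.S m * A l j := by
    intro l j m
    ext i k
    have h1 := congrFun (congrFun (hF m (Matrix.single k l 1)) i) j
    rw [hF'] at h1
    simp only [Matrix.mul_apply] at h1 ⊢
    simp only [A, Matrix.of_apply] at h1 ⊢
    rw [← h1]
    simp [Matrix.single_apply, ite_and, Finset.mul_sum, eq_comm]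
  choose c hc using fun l j => D.schur (A l j) (hA l j)
  refine ⟨Matrix.of c, fun X => ?_⟩
  ext i j
  rw [hF', Matrix.mul_apply]
  refine Finset.sum_congr rfl fun l _ => ?_
  rw [hc l j, Matrix.smul_mul, Matrix.one_mul, Matrix.smul_apply, smul_eq_mul, Matrix.of_apply,
    mul_comm]

variable [M.Normal]

theorem T_conj (g : G) (m : M) (X : Matrix (Fin a) (Fin e) ℂ) :
    D.T g (D.S m * X) =
      D.S ⟨g * m * g⁻¹, (inferInstance : M.Normal).conj_mem (m : G) m.2 g⟩ * D.T g X := by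
  rw [← T_mem, ← T_mem, ← T_mul, ← T_mul]
  congr 1
  simp [mul_assoc]

theorem exists_factor (g : G) :
    ∃ (P : (Matrix (Fin a) (Fin a) ℂ)ˣ) (C : (Matrix (Fin e) (Fin e) ℂ)ˣ),
      ∀ X, D.T g X = (P : Matrix (Fin a) (Fin a) ℂ) * X * (C : Matrix (Fin e) (Fin e) ℂ) := by
  classical
  set c : M → M := fun m => ⟨g * m * g⁻¹, (inferInstance : M.Normal).conj_mem (m : G) m.2 g⟩
    with hc
  have hint : ∀ (l j : Fin e) (m : M),
      (Matrix.of fun i k => D.T g (Matrix.single k l 1) i j) * D.S m =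
        D.S (c m) * Matrix.of fun i k => D.T g (Matrix.single k l 1) i j := by
    intro l j m
    ext i k
    have h1 := congrFun (congrFun (D.T_conj g m (Matrix.single k l 1)) i) j
    rw [Matrix.matrix_eq_sum_single (D.S m * Matrix.single k l 1)] at h1
    simp only [map_sum, Matrix.sum_apply] at h1
    simp only [Matrix.mul_apply, Matrix.of_apply] at h1 ⊢
    rw [← h1, Finset.sum_comm]
    rw [Finset.sum_eq_single l]
    · refine Finset.sum_congr rfl fun r _ => ?_
      rw [show Matrix.single r l (∑ s, D.S m r s * Matrix.single k l (1 : ℂ) s l) =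
        D.S m r k • Matrix.single r l (1 : ℂ) by
          simp [Matrix.single_apply, ite_and, Matrix.smul_single],
        map_smul, Matrix.smul_apply, smul_eq_mul, mul_comm]
    · intro l' _ hl'
      refine Finset.sum_eq_zero fun r _ => ?_
      simp [Matrix.single_apply, ite_and, Ne.symm hl']
    · simp
  have hinv : ∀ (l j : Fin e) (m : M),
      (Matrix.of fun i k => D.T g⁻¹ (Matrix.single k l 1) i j) * D.S (c m) =
        D.S m * Matrix.of fun i k => D.T g⁻¹ (Matrix.single k l 1) i j := by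
    intro l j m
    ext i k
    have h1 := congrFun (congrFun (D.T_conj g⁻¹ (c m) (Matrix.single k l 1)) i) j
    have hcm : (⟨g⁻¹ * (c m : G) * g⁻¹⁻¹,
        (inferInstance : M.Normal).conj_mem ((c m : M) : G) (c m).2 g⁻¹⟩ : M) = m :=
      Subtype.ext (by simp [hc, mul_assoc])
    rw [hcm, Matrix.matrix_eq_sum_single (D.S (c m) * Matrix.single k l 1)] at h1
    simp only [map_sum, Matrix.sum_apply] at h1
    simp only [Matrix.mul_apply, Matrix.of_apply] at h1 ⊢
    rw [← h1, Finset.sum_comm]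
    rw [Finset.sum_eq_single l]
    · refine Finset.sum_congr rfl fun r _ => ?_
      rw [show Matrix.single r l (∑ s, D.S (c m) r s * Matrix.single k l (1 : ℂ) s l) =
        D.S (c m) r k • Matrix.single r l (1 : ℂ) by
          simp [Matrix.single_apply, ite_and, Matrix.smul_single],
        map_smul, Matrix.smul_apply, smul_eq_mul, mul_comm]
    · intro l' _ hl'
      refine Finset.sum_eq_zero fun r _ => ?_
      simp [Matrix.single_apply, ite_and, Ne.symm hl']
    · simp
  set A : Fin e → Fin e → Matrix (Fin a) (Fin a) ℂ := fun l j =>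
    Matrix.of fun i k => D.T g (Matrix.single k l 1) i j with hA
  set B : Fin e → Fin e → Matrix (Fin a) (Fin a) ℂ := fun l j =>
    Matrix.of fun i k => D.T g⁻¹ (Matrix.single k l 1) i j with hB
  -- some block is invertible
  obtain ⟨l₀, j₀, hu⟩ : ∃ l j, IsUnit (A l j) := by
    let i₀ : Fin a := ⟨0, D.a_pos⟩
    let l₁ : Fin e := ⟨0, D.e_pos⟩
    have hsum : ∑ j, B j l₁ * A l₁ j = (1 : Matrix (Fin a) (Fin a) ℂ) := by
      ext i k
      have h1 := congrFun (congrFun (D.T_mul g⁻¹ g (Matrix.single k l₁ 1)) i) l₁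
      rw [inv_mul_cancel, T_one,
        Matrix.matrix_eq_sum_single (D.T g (Matrix.single k l₁ (1 : ℂ)))] at h1
      simp only [map_sum, Matrix.sum_apply] at h1
      simp only [Matrix.sum_apply, Matrix.mul_apply, Matrix.one_apply, hA, hB, Matrix.of_apply]
      rw [Finset.sum_comm]
      have h2 : (if i = k then (1 : ℂ) else 0) = Matrix.single k l₁ (1 : ℂ) i l₁ := by
        simp [Matrix.single_apply, eq_comm]
      rw [h2, h1]
      refine Finset.sum_congr rfl fun r _ => Finset.sum_congr rfl fun j _ => ?_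
      rw [show Matrix.single r j (D.T g (Matrix.single k l₁ (1 : ℂ)) r j) =
        D.T g (Matrix.single k l₁ (1 : ℂ)) r j • Matrix.single r j (1 : ℂ) by
          rw [Matrix.smul_single, smul_eq_mul, mul_one],
        map_smul, Matrix.smul_apply, smul_eq_mul, mul_comm]
    obtain ⟨j, hj⟩ : ∃ j, B j l₁ * A l₁ j ≠ 0 := by
      by_contra! h0
      rw [Finset.sum_eq_zero fun j _ => h0 j] at hsum
      have := congrFun (congrFun hsum i₀) i₀
      simp at this
    obtain ⟨d, hd⟩ := D.schur (B j l₁ * A l₁ j) fun m => by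
      rw [Matrix.mul_assoc, hint, ← Matrix.mul_assoc, hinv, Matrix.mul_assoc]
    have hd0 : d ≠ 0 := fun h0 => hj (by rw [hd, h0, zero_smul])
    refine ⟨l₁, j, IsUnit.of_mul_eq_one_right (d⁻¹ • B j l₁) ?_⟩
    rw [Matrix.smul_mul, hd, smul_smul, inv_mul_cancel₀ hd0, one_smul]
  obtain ⟨P, hP⟩ := hu
  -- divide by it
  let F : Matrix (Fin a) (Fin e) ℂ →ₗ[ℂ] Matrix (Fin a) (Fin e) ℂ :=
    { toFun := fun X => (↑P⁻¹ : Matrix (Fin a) (Fin a) ℂ) * D.T g X
      map_add' := fun X Y => by rw [map_add, Matrix.mul_add]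
      map_smul' := fun r X => by rw [map_smul, Matrix.mul_smul, RingHom.id_apply] }
  have hF : ∀ (m : M) X, F (D.S m * X) = D.S m * F X := by
    intro m X
    have h1 : (P : Matrix (Fin a) (Fin a) ℂ) * D.S m = D.S (c m) * P := by
      rw [hP]; exact hint _ _ m
    show (↑P⁻¹ : Matrix (Fin a) (Fin a) ℂ) * D.T g (D.S m * X) =
      D.S m * ((↑P⁻¹ : Matrix (Fin a) (Fin a) ℂ) * D.T g X)
    rw [T_conj, ← Matrix.mul_assoc, ← Matrix.mul_assoc]
    congr 1
    rw [Units.inv_mul_eq_iff_eq_mul, ← Matrix.mul_assoc, h1, Matrix.mul_assoc, Units.mul_inv,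
      Matrix.mul_one]
  obtain ⟨C, hC⟩ := D.exists_right F hF
  have hT : ∀ X, D.T g X = (P : Matrix (Fin a) (Fin a) ℂ) * X * C := fun X => by
    rw [Matrix.mul_assoc, ← hC]
    show _ = (P : Matrix (Fin a) (Fin a) ℂ) * ((↑P⁻¹ : Matrix (Fin a) (Fin a) ℂ) * D.T g X)
    rw [← Matrix.mul_assoc, Units.mul_inv, Matrix.one_mul]
  have hCu : IsUnit C := by
    rw [Matrix.isUnit_iff_isUnit_det, isUnit_iff_ne_zero]
    intro h0
    obtain ⟨w, hw, hw0⟩ := Matrix.exists_vecMul_eq_zero_iff.2 h0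
    let i₀ : Fin a := ⟨0, D.a_pos⟩
    let X₀ : Matrix (Fin a) (Fin e) ℂ := Matrix.vecMulVec (Pi.single i₀ 1) w
    have h1 : X₀ * C = 0 := by
      rw [Matrix.vecMulVec_mul, hw0]
      ext; simp [Matrix.vecMulVec_apply]
    have h2 : D.T g X₀ = 0 := by rw [hT, Matrix.mul_assoc, h1, Matrix.mul_zero]
    have h3 : X₀ = 0 := by
      rw [← D.T_one X₀, ← inv_mul_cancel g, T_mul, h2, map_zero]
    refine hw (funext fun j => ?_)
    simpa [X₀, Matrix.vecMulVec_apply] using congrFun (congrFun h3 i₀) j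
  exact ⟨P, hCu.unit, hT⟩

/-- The left factor. -/
noncomputable def P (g : G) : (Matrix (Fin a) (Fin a) ℂ)ˣ := (D.exists_factor g).choose

/-- The right factor. -/
noncomputable def C (g : G) : (Matrix (Fin e) (Fin e) ℂ)ˣ := (D.exists_factor g).choose_spec.choose

theorem T_eq (g : G) (X : Matrix (Fin a) (Fin e) ℂ) :
    D.T g X = (D.P g : Matrix (Fin a) (Fin a) ℂ) * X * (D.C g : Matrix (Fin e) (Fin e) ℂ) :=
  (D.exists_factor g).choose_spec.choose_spec X

theorem unique {P P' : (Matrix (Fin a) (Fin a) ℂ)ˣ} {C C' : (Matrix (Fin e) (Fin e) ℂ)ˣ}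
    (h : ∀ X : Matrix (Fin a) (Fin e) ℂ,
      (P : Matrix (Fin a) (Fin a) ℂ) * X * (C : Matrix (Fin e) (Fin e) ℂ) =
        (P' : Matrix (Fin a) (Fin a) ℂ) * X * (C' : Matrix (Fin e) (Fin e) ℂ)) :
    ∃ c : ℂ, (P : Matrix (Fin a) (Fin a) ℂ) = c • P' ∧
      (C' : Matrix (Fin e) (Fin e) ℂ) = c • C := by
  obtain ⟨c, h1, h2⟩ := scalar_of_mul_eq D.a_pos D.e_pos
    (A := (↑P'⁻¹ : Matrix (Fin a) (Fin a) ℂ) * P)
    (B := (C' : Matrix (Fin e) (Fin e) ℂ) * (↑C⁻¹ : Matrix (Fin e) (Fin e) ℂ)) fun X => by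
      have h0 := congrArg (fun Y => (↑P'⁻¹ : Matrix (Fin a) (Fin a) ℂ) * Y *
        (↑C⁻¹ : Matrix (Fin e) (Fin e) ℂ)) (h X)
      simpa [← Matrix.mul_assoc, Matrix.mul_assoc _ (C : Matrix (Fin e) (Fin e) ℂ)] using h0
  refine ⟨c, ?_, ?_⟩
  · have := congrArg (fun Y => (P' : Matrix (Fin a) (Fin a) ℂ) * Y) h1
    simpa [← Matrix.mul_assoc] using this
  · have := congrArg (fun Y => Y * (C : Matrix (Fin e) (Fin e) ℂ)) h2
    simpa [Matrix.mul_assoc] using this

theorem C_mul (g h : G) : ∃ c : ℂ,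
    (D.C (g * h) : Matrix (Fin e) (Fin e) ℂ) =
      c • ((D.C h : Matrix (Fin e) (Fin e) ℂ) * D.C g) := by
  obtain ⟨c, -, hc⟩ := D.unique (P := D.P g * D.P h) (C := D.C h * D.C g) (P' := D.P (g * h))
    (C' := D.C (g * h)) fun X => by
    rw [← T_eq, T_mul, T_eq, T_eq]
    simp [Matrix.mul_assoc]
  exact ⟨c, by simpa using hc⟩

theorem P_mul (g h : G) : ∃ c : ℂ,
    (D.P g : Matrix (Fin a) (Fin a) ℂ) * D.P h = c • (D.P (g * h) : Matrix (Fin a) (Fin a) ℂ) := by
  obtain ⟨c, hc, -⟩ := D.unique (P := D.P g * D.P h) (C := D.C h * D.C g) (P' := D.P (g * h))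
    (C' := D.C (g * h)) fun X => by
    rw [← T_eq, T_mul, T_eq, T_eq]
    simp [Matrix.mul_assoc]
  exact ⟨c, by simpa using hc⟩

theorem C_mem (m : M) : ∃ c : ℂ, (D.C m : Matrix (Fin e) (Fin e) ℂ) = c • 1 := by
  have hu : IsUnit (D.S m) := (Group.isUnit m).map D.S
  obtain ⟨c, -, hc⟩ := D.unique (P := hu.unit) (C := 1) (P' := D.P m) (C' := D.C m) fun X => by
    rw [← T_eq, T_mem]
    simp
  exact ⟨c, by simpa using hc⟩

theorem P_of_scalar {g : G} {d : ℂ} (hd : ρ g = d • 1) :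
    ∃ c : ℂ, (D.P g : Matrix (Fin a) (Fin a) ℂ) = c • 1 := by
  have hT : ∀ X, D.T g X = d • X := fun X => by
    apply D.Φ.injective
    rw [Φ_T, hd, map_smul]; rfl
  have hd0 : d ≠ 0 := by
    rintro rfl
    have h1 := D.T_mul g⁻¹ g (Matrix.of fun _ _ => 1)
    rw [inv_mul_cancel, T_one, hT, zero_smul, map_zero] at h1
    simpa using congrFun (congrFun h1 ⟨0, D.a_pos⟩) ⟨0, D.e_pos⟩
  let Du : (Matrix (Fin e) (Fin e) ℂ)ˣ :=
    Units.map (algebraMap ℂ (Matrix (Fin e) (Fin e) ℂ)).toMonoidHom (Units.mk0 d hd0)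
  obtain ⟨c, hc, -⟩ := D.unique (P := D.P g) (C := D.C g) (P' := 1) (C' := Du) fun X => by
    rw [← T_eq, hT]
    simp [Du, Algebra.algebraMap_eq_smul_one]
  exact ⟨c, by simpa using hc⟩

theorem P_conj (g : G) (m : M) : (D.P g : Matrix (Fin a) (Fin a) ℂ) * D.S m =
    D.S ⟨g * m * g⁻¹, (inferInstance : M.Normal).conj_mem (m : G) m.2 g⟩ * D.P g := by
  ext i k
  let l : Fin e := ⟨0, D.e_pos⟩
  have h1 := D.T_conj g m (Matrix.single k l 1)
  rw [T_eq, T_eq] at h1
  have h2 := congrArg (fun Y => Y * (↑(D.C g)⁻¹ : Matrix (Fin e) (Fin e) ℂ)) h1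
  simp only [Matrix.mul_assoc, Units.mul_inv, Matrix.mul_one] at h2
  rw [← Matrix.mul_assoc, ← Matrix.mul_assoc] at h2
  simpa [Matrix.mul_apply, Matrix.single_apply, ite_and] using congrFun (congrFun h2 i) l

end Split

end Cfsg.Agent.ProjExt
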